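import Cfsg.Agent.Lib.ANX.QDefs

/-! Row QP2 (pure permutations).  q_fix_root: `φ` preserves the 4-set `supp x`; if `φ a ≠ a` then `a, φ a, φ² a` are distinct, the 4th point `d` is fixed, so `x d` is fixed too, but `x d ≠ d` is one of the three.
q_fix_all: every moved point of `p` lies in the support of a root `(a pa)(b pb)` (`exists_dt`).  q_fix_two: an orbit of length 3 inside a set with <= 2 points.  q_cyc_ou: `p` preserves the 3-set `supp φ`, so fixes one point of it, so all.
q_move: `l = (a, pa, b)` (3-cycle `swap a (p a) * swap (p a) b`), or `l` := the root-type 3-cycle; `l p l⁻¹ = r p` with `r` a root on `a pa b pb`.  q_hc: `altOn` of a 3-set consists of the powers of `c` -/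

set_option autoImplicit false
set_option linter.unusedSectionVars false

namespace CfsgLib.ANX

open Subgroup Equiv Equiv.Perm Cfsg CfsgLib.Tech CfsgLib.Alt4 CfsgLib.AltSyl CfsgLib.NatSyl CfsgLib.Alt.FinP

variable {Ω : Type} [Fintype Ω] [DecidableEq Ω]

theorem qp2_len {S : Finset Ω} (l : List Ω) (hn : l.Nodup) (h : ∀ x ∈ l, x ∈ S) : l.length ≤ S.card := by
  rw [← List.toFinset_card_of_nodup hn]
  exact Finset.card_le_card fun x hx => h x (List.mem_toFinset.1 hx)

theorem qp2_new {S : Finset Ω} (l : List Ω) (h : l.length < S.card) : ∃ x ∈ S, x ∉ l := by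
  by_contra k
  simp only [not_exists, not_and, not_not] at k
  have := (Finset.card_le_card (fun x hx => List.mem_toFinset.2 (k x hx) : S ⊆ l.toFinset)).trans
    (List.toFinset_card_le l)
  omega

theorem qp2_app {φ p : Perm Ω} (hc : Commute φ p) (y : Ω) : φ (p y) = p (φ y) :=
  congrArg (fun f : Perm Ω => f y) hc.eq

theorem qp2_three {φ : Perm Ω} (h3 : φ ^ 3 = 1) (y : Ω) : φ (φ (φ y)) = y := by
  simpa [pow_succ] using congrArg (fun f : Perm Ω => f y) h3

theorem qp2_ne {φ : Perm Ω} (h3 : φ ^ 3 = 1) {a : Ω} (h : φ a ≠ a) :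
    φ (φ a) ≠ a ∧ φ (φ a) ≠ φ a := 
  ⟨fun e => h (by have := qp2_three h3 a; rwa [e] at this), fun e => h (φ.injective e)⟩

theorem qp2_mem {φ p : Perm Ω} (hc : Commute φ p) {y : Ω} (h : p y ≠ y) : p (φ y) ≠ φ y :=
  fun e => h (φ.injective (by rw [qp2_app hc, e]))

theorem q_fix_root {φ : Perm Ω} (h3 : φ ^ 3 = 1) {x : alternatingGroup Ω} (hx : Root x)
    (hc : Commute φ x) : Ou x φ := by
  intro a ha
  by_contra k
  have h4 : (x : Perm Ω).support.card = 4 := hx.2
  obtain ⟨k2, k3⟩ := qp2_ne h3 k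
  have a1 := qp2_mem hc ha
  have a2 := qp2_mem hc a1
  obtain ⟨d, hd, dn⟩ := qp2_new (S := (x : Perm Ω).support) [a, φ a, φ (φ a)] (by rw [h4]; simp)
  simp only [List.mem_cons, List.not_mem_nil, or_false, not_or] at dn
  obtain ⟨d1, d2, d3⟩ := dn
  have hd' := mem_support.1 hd
  have five : ∀ e, (x : Perm Ω) e ≠ e → e ≠ a → e ≠ φ a → e ≠ φ (φ a) → e ≠ d → False :=
    fun e he e1 e2 e3 e4 => by
      have := qp2_len (S := (x : Perm Ω).support) [e, d, φ (φ a), φ a, a]
        (by simp [e1, e2, e3, e4, d1, d2, d3, k, k2, k3])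
        (by simp [he, hd', a1, a2, ha])
      rw [h4] at this
      simp at this
  have fd : φ d = d := by
    by_contra e
    refine five (φ d) (qp2_mem hc hd') (fun f => d3 ?_) (fun f => d1 (φ.injective f))
      (fun f => d2 (φ.injective f)) e
    exact φ.injective (by rw [f, qp2_three h3])
  have fx : φ ((x : Perm Ω) d) = (x : Perm Ω) d := by rw [qp2_app hc, fd]
  refine five ((x : Perm Ω) d) (fun e => hd' ((x : Perm Ω).injective e)) (fun e => k ?_)
    (fun e => k3 ?_) (fun e => k2 ?_) hd'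
  · rwa [e] at fx
  · rwa [e] at fx
  · rw [e, qp2_three h3] at fx
    exact fx.symm

theorem q_fix_all {p φ : Perm Ω} (hp : p * p = 1) (h4 : 4 ≤ p.support.card) (h3 : φ ^ 3 = 1)
    (h : ∀ v : alternatingGroup Ω, Root v → Ag p v → Commute φ v) : Ou p φ := by
  intro a ha
  have pp : ∀ y, p (p y) = y := fun y => congrArg (fun f : Perm Ω => f y) hp
  obtain ⟨b, hb, bn⟩ := qp2_new (S := p.support) [a, p a] (by simp; omega)
  simp only [List.mem_cons, List.not_mem_nil, or_false, not_or] at bn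
  have hb' := mem_support.1 hb
  have n1 : a ≠ p b := fun e => bn.2 (by rw [e, pp])
  have n2 : p a ≠ p b := fun e => bn.1 (p.injective e).symm
  obtain ⟨u, v, k, e⟩ := exists_four' ha.symm (Ne.symm bn.1) n1 (Ne.symm bn.2) n2 hb'.symm
  have ua : (u : Perm Ω) a = p a := by
    rw [e, Perm.mul_apply, swap_apply_of_ne_of_ne (Ne.symm bn.1) n1, swap_apply_left]
  refine q_fix_root h3 (four_root k) (h u (four_root k) fun z => ?_) a (by rw [ua]; exact ha)
  by_cases z1 : z = a
  · exact .inr (by rw [z1, ua])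
  by_cases z2 : z = p a
  · refine .inr ?_
    rw [z2, e, Perm.mul_apply, swap_apply_of_ne_of_ne (Ne.symm bn.2) n2, swap_apply_right, pp]
  by_cases z3 : z = b
  · refine .inr ?_
    rw [z3, e, Perm.mul_apply, swap_apply_left, swap_apply_of_ne_of_ne n1.symm n2.symm]
  by_cases z4 : z = p b
  · refine .inr ?_
    rw [z4, e, Perm.mul_apply, swap_apply_right, swap_apply_of_ne_of_ne bn.1 bn.2, pp]
  · refine .inl ?_
    rw [e, Perm.mul_apply, swap_apply_of_ne_of_ne z3 z4, swap_apply_of_ne_of_ne z1 z2]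

theorem q_fix_two {p φ : Perm Ω} (h3 : φ ^ 3 = 1) (hc : Commute φ p) (h2 : p.supportᶜ.card ≤ 2) : In p φ := by
  intro a ha
  by_contra k
  obtain ⟨k2, k3⟩ := qp2_ne h3 k
  have a1 : p (φ a) = φ a := by rw [← qp2_app hc, ha]
  have a2 : p (φ (φ a)) = φ (φ a) := by rw [← qp2_app hc, a1]
  have := qp2_len (S := p.supportᶜ) [φ (φ a), φ a, a] (by simp [k, k2, k3]) (by simp [ha, a1, a2])
  simp only [List.length_cons, List.length_nil] at this
  omega

theorem q_cyc_ou {p φ : Perm Ω} (hp : p * p = 1) (h : φ = 1 ∨ φ.IsThreeCycle) (hc : Commute φ p) : Ou p φ := by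
  intro a ha
  rcases h with rfl | h
  · rfl
  by_contra k
  have pp : ∀ y, p (p y) = y := fun y => congrArg (fun f : Perm Ω => f y) hp
  have h3 : φ ^ 3 = 1 := by rw [← h.orderOf, pow_orderOf_eq_one]
  have c3 := h.card_support
  obtain ⟨d, hd, dn⟩ := qp2_new (S := φ.support) [a, p a] (by rw [c3]; simp)
  simp only [List.mem_cons, List.not_mem_nil, or_false, not_or] at dn
  have hd' := mem_support.1 hd
  have fd : p d = d := by
    by_contra e
    have n1 : p d ≠ a := fun f => dn.2 (by rw [← f, pp])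
    have n2 : p d ≠ p a := fun f => dn.1 (p.injective f)
    have := qp2_len (S := φ.support) [p d, d, p a, a] (by simp [e, n1, n2, dn.1, dn.2, ha])
      (by simp [k, hd', qp2_mem hc.symm k, qp2_mem hc.symm hd'])
    rw [c3] at this
    simp at this
  obtain ⟨k2, k3⟩ := qp2_ne h3 hd'
  have a1 : p (φ d) = φ d := by rw [← qp2_app hc, fd]
  have a2 : p (φ (φ d)) = φ (φ d) := by rw [← qp2_app hc, a1]
  have n1 : φ d ≠ a := fun e => ha (by rwa [e] at a1)
  have n2 : φ (φ d) ≠ a := fun e => ha (by rwa [e] at a2)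
  have := qp2_len (S := φ.support) [φ (φ d), φ d, d, a] (by simp [k2, hd', n1, n2, dn.1])
    (by simp [k, hd'])
  rw [c3] at this
  simp at this

theorem q_move {p : Perm Ω} (hp : p * p = 1) (h4 : 4 ≤ p.support.card) : ∃ l : alternatingGroup Ω, In p l ∧
    Commute ((l : Perm Ω) * p * (l : Perm Ω)⁻¹) p ∧ (l : Perm Ω) * p * (l : Perm Ω)⁻¹ ≠ p := by
  have pp : ∀ y, p (p y) = y := fun y => congrArg (fun f : Perm Ω => f y) hp
  obtain ⟨a, ha, -⟩ := qp2_new (S := p.support) [] (by simp only [List.length_nil]; omega)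
  obtain ⟨b, hb, bn⟩ := qp2_new (S := p.support) [a, p a] (by simp; omega)
  simp only [List.mem_cons, List.not_mem_nil, or_false, not_or] at bn
  obtain ⟨b1, b2⟩ := bn
  have ha' := mem_support.1 ha
  have hb' := mem_support.1 hb
  have n1 : p b ≠ a := fun e => b2 (by rw [← e, pp])
  have n2 : p b ≠ p a := fun e => b1 (p.injective e)
  obtain ⟨l, e⟩ := exists_dt ha'.symm (Ne.symm b2)
  have la : (l : Perm Ω) a = p a := by
    rw [e, Perm.mul_apply, swap_apply_of_ne_of_ne ha'.symm (Ne.symm b1), swap_apply_left]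
  have lp : (l : Perm Ω) (p a) = b := by
    rw [e, Perm.mul_apply, swap_apply_left, swap_apply_of_ne_of_ne b1 b2]
  have lb : (l : Perm Ω) b = a := by
    rw [e, Perm.mul_apply, swap_apply_right, swap_apply_right]
  have l0 : ∀ z, z ≠ a → z ≠ p a → z ≠ b → (l : Perm Ω) z = z := fun z z1 z2 z3 => by
    rw [e, Perm.mul_apply, swap_apply_of_ne_of_ne z2 z3, swap_apply_of_ne_of_ne z1 z2]
  have lq := l0 _ n1 n2 hb'
  obtain ⟨q, hq⟩ : ∃ q, q = (l : Perm Ω) * p * (l : Perm Ω)⁻¹ := ⟨_, rfl⟩
  have k : ∀ z, q ((l : Perm Ω) z) = (l : Perm Ω) (p z) := fun z => by simp [hq]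
  have q1 : q (p a) = b := by rw [← la, k, lp]
  have q2 : q b = p a := by
    have := k (p a)
    rwa [lp, pp, la] at this
  have q3 : q a = p b := by
    have := k b
    rwa [lb, lq] at this
  have q4 : q (p b) = a := by
    have := k (p b)
    rwa [lq, pp, lb] at this
  have q0 : ∀ z, z ≠ a → z ≠ p a → z ≠ b → z ≠ p b → q z = p z := fun z z1 z2 z3 z4 => by
    have := k z
    rwa [l0 z z1 z2 z3, l0 (p z) (fun f => z2 (by rw [← f, pp])) (fun f => z1 (p.injective f))
      (fun f => z4 (by rw [← f, pp]))] at this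
  refine ⟨l, fun z hz => l0 z (fun f => ha' (f ▸ hz)) (fun f => ha' ?_) (fun f => hb' (f ▸ hz)), ?_, ?_⟩
  · rw [f, pp] at hz
    exact hz.symm
  · rw [← hq]
    refine Equiv.ext fun z => ?_
    change q (p z) = p (q z)
    by_cases z1 : z = a
    · rw [z1, q1, q3, pp]
    by_cases z2 : z = p a
    · rw [z2, pp, q3, q1]
    by_cases z3 : z = b
    · rw [z3, q4, q2, pp]
    by_cases z4 : z = p b
    · rw [z4, pp, q2, q4]
    · rw [q0 z z1 z2 z3 z4, q0 (p z) (fun f => z2 (by rw [← f, pp])) (fun f => z1 (p.injective f))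
        (fun f => z4 (by rw [← f, pp])) (fun f => z3 (p.injective f))]
  · rw [← hq]
    intro f
    rw [f] at q3
    exact n2 q3.symm

theorem q_hc {G : Type*} [Group G] [Finite G] {ι : alternatingGroup Ω →* G} {c : alternatingGroup Ω}
    (hc : (c : Perm Ω).IsThreeCycle) {x : G} (h : Commute x (ι c)) : x ∈ HC ι (c : Perm Ω).support := by
  rw [mem_centralizer_iff]
  rintro _ ⟨a, ha, rfl⟩
  obtain ⟨h1, h2⟩ := mem_altOn.1 (mem_subgroupOf.1 ha)
  have h3 : (c : Perm Ω) ^ 3 = 1 := by rw [← hc.orderOf, pow_orderOf_eq_one]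
  have c3 := hc.card_support
  obtain ⟨u, hu, -⟩ := qp2_new (S := (c : Perm Ω).support) [] (by rw [c3]; simp)
  have hu' := mem_support.1 hu
  obtain ⟨k2, k3⟩ := qp2_ne h3 hu'
  have all : ∀ z ∈ (c : Perm Ω).support, z = u ∨ z = (c : Perm Ω) u ∨ z = (c : Perm Ω) ((c : Perm Ω) u) :=
    fun z hz => by
      by_contra k
      simp only [not_or] at k
      have := qp2_len (S := (c : Perm Ω).support) [z, (c : Perm Ω) ((c : Perm Ω) u), (c : Perm Ω) u, u]
        (by simp [k.1, k.2.1, k.2.2, k2, hu']) (by simp [hu', mem_support.1 hz])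
      rw [c3] at this
      simp at this
  have mem : ∀ b : alternatingGroup Ω, (b : Perm Ω).support ⊆ (c : Perm Ω).support →
      ∀ z ∈ (c : Perm Ω).support, (b : Perm Ω) z ∈ (c : Perm Ω).support := fun b hb z hz => by
    by_cases e : (b : Perm Ω) z = z
    · rwa [e]
    · exact hb (apply_mem_support.2 (mem_support.2 e))
  have key : ∀ b : alternatingGroup Ω, (b : Perm Ω).support ⊆ (c : Perm Ω).support →
      (b : Perm Ω) u = u → b = 1 := fun b hb e => by
    have s2 : (b : Perm Ω).support.card ≤ 2 := by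
      have : (b : Perm Ω).support ⊆ (c : Perm Ω).support.erase u := fun z hz =>
        Finset.mem_erase.2 ⟨fun f => mem_support.1 hz (f ▸ e), hb hz⟩
      have := Finset.card_le_card this
      rwa [Finset.card_erase_of_mem hu, c3] at this
    by_contra n1
    have n2 : (b : Perm Ω) ≠ 1 := fun f => n1 (Subtype.ext f)
    have := (card_support_eq_two.1 (le_antisymm s2 (two_le_card_support_of_ne_one n2))).sign_eq
    rw [mem_alternatingGroup.1 b.2] at this
    exact absurd this (by decide)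
  have sub : ∀ b : alternatingGroup Ω, (b : Perm Ω).support ⊆ (c : Perm Ω).support →
      ((c * b : alternatingGroup Ω) : Perm Ω).support ⊆ (c : Perm Ω).support := fun b hb =>
    (support_mul_le _ _).trans (sup_le le_rfl hb)
  have hc' : Commute (ι c) x := h.symm
  rcases all _ (mem a h1 u hu) with e | e | e
  · rw [key a h1 e, map_one, one_mul, mul_one]
  · have := key (c * (c * a)) (sub _ (sub _ h1)) (by
      change (c : Perm Ω) ((c : Perm Ω) ((a : Perm Ω) u)) = u
      rw [e, qp2_three h3])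
    rw [← mul_assoc] at this
    rw [eq_inv_of_mul_eq_one_right this, map_inv, map_mul]
    exact (hc'.mul_left hc').inv_left.eq
  · have := key (c * a) (sub _ h1) (by
      change (c : Perm Ω) ((a : Perm Ω) u) = u
      rw [e, qp2_three h3])
    rw [eq_inv_of_mul_eq_one_right this, map_inv]
    exact hc'.inv_left.eq

theorem q_cyc {p : Perm Ω} (h3 : 3 ≤ p.supportᶜ.card) :
    ∃ c : alternatingGroup Ω, (c : Perm Ω).IsThreeCycle ∧ Ou p c := by
  obtain ⟨a, ha, -⟩ := qp2_new (S := p.supportᶜ) [] (by simp only [List.length_nil]; omega)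
  obtain ⟨b, hb, bn⟩ := qp2_new (S := p.supportᶜ) [a] (by simp only [List.length_singleton]; omega)
  obtain ⟨c, hc, cn⟩ := qp2_new (S := p.supportᶜ) [a, b]
    (by simp only [List.length_cons, List.length_nil]; omega)
  simp only [List.mem_cons, List.not_mem_nil, or_false, not_or] at bn cn
  simp only [Finset.mem_compl, mem_support, not_not] at ha hb hc
  obtain ⟨l, e⟩ := exists_dt (Ne.symm bn) (Ne.symm cn.1)
  refine ⟨l, e ▸ isThreeCycle_swap_mul_swap_same (Ne.symm bn) (Ne.symm cn.1) (Ne.symm cn.2), fun z hz => ?_⟩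
  have z1 : z ≠ a := fun f => hz (f ▸ ha)
  rw [e, Perm.mul_apply, swap_apply_of_ne_of_ne z1 fun f => hz (f ▸ hc),
    swap_apply_of_ne_of_ne z1 fun f => hz (f ▸ hb)]

end CfsgLib.ANX
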