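import Cfsg.Agent.Lib.ANX.Defs

/-! ANX part S: transport of `T7`, `W7` along `L`; `W7.j4`; the conjugate for `T7.j2`. -/

set_option autoImplicit false
set_option linter.unusedSectionVars false

namespace CfsgLib.ANX

open Subgroup Equiv Equiv.Perm Cfsg CfsgLib.Tech CfsgLib.Alt4 CfsgLib.AltSyl CfsgLib.NatSyl

universe u

variable {Ω : Type} [Fintype Ω] [DecidableEq Ω] {G : Type u} [Group G] [Finite G]
  {ι : alternatingGroup Ω →* G} {t : G}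

theorem s_mem_HC {Φ : Finset Ω} {g : G} : g ∈ HC ι Φ ↔
    ∀ a : alternatingGroup Ω, (a : Perm Ω).support ⊆ Φ → Commute g (ι a) := by
  rw [mem_centralizer_iff]
  constructor
  · intro h a ha
    exact (h (ι a) ⟨a, mem_subgroupOf.2 (mem_altOn.2 ⟨ha, mem_alternatingGroup.1 a.2⟩), rfl⟩).symm
  · rintro h _ ⟨a, ha, rfl⟩
    exact (h a (mem_altOn.1 (mem_subgroupOf.1 ha)).1).symm

theorem s_even {Ψ Ψ' : Finset Ω} (h : Ψ.card = Ψ'.card) (h2 : 2 ≤ Ψ.card) :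
    ∃ m : alternatingGroup Ω, ∀ x, x ∈ Ψ ↔ (m : Perm Ω) x ∈ Ψ' := by
  have e1 : {x // x ∈ Ψ} ≃ {x // x ∈ Ψ'} := Fintype.equivOfCardEq (by simpa using h)
  have e2 : {x // ¬ x ∈ Ψ} ≃ {x // ¬ x ∈ Ψ'} := Fintype.equivOfCardEq (by
    rw [Fintype.card_subtype_compl, Fintype.card_subtype_compl]; simp [h])
  have k : ∀ x, x ∈ Ψ ↔ (Equiv.subtypeCongr e1 e2 : Perm Ω) x ∈ Ψ' := by
    intro x
    by_cases hx : x ∈ Ψ
    · simp [Equiv.subtypeCongr, sumCompl_symm_apply_of_pos hx, hx]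
    · have := (e2 ⟨x, hx⟩).2
      simp [Equiv.subtypeCongr, sumCompl_symm_apply_of_neg hx, hx, this]
  generalize (Equiv.subtypeCongr e1 e2 : Perm Ω) = σ at k
  rcases Int.units_eq_one_or (sign σ) with e | e
  · exact ⟨⟨σ, mem_alternatingGroup.2 e⟩, k⟩
  · obtain ⟨a, ha, b, hb, ab⟩ := Finset.one_lt_card.1 (show 1 < Ψ.card by omega)
    refine ⟨⟨σ * swap a b, mem_alternatingGroup.2 (by simp [e, sign_swap ab])⟩, fun x => ?_⟩
    show _ ↔ σ (swap a b x) ∈ Ψ'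
    rw [← k, swap_apply_def]
    split_ifs with h1 h2
    · simp [h1, ha, hb]
    · simp [h2, ha, hb]
    · rfl

theorem s_inv {Ψ Ψ' : Finset Ω} {m : alternatingGroup Ω}
    (h : ∀ x, x ∈ Ψ ↔ (m : Perm Ω) x ∈ Ψ') (x : Ω) :
    x ∈ Ψ' ↔ ((m⁻¹ : alternatingGroup Ω) : Perm Ω) x ∈ Ψ := by
  rw [h]; simp

theorem s_hc {Φ Φ' : Finset Ω} {m : alternatingGroup Ω} (h : ∀ x, x ∈ Φ ↔ (m : Perm Ω) x ∈ Φ')
    {g : G} (hg : g ∈ HC ι Φ) : ι m * g * (ι m)⁻¹ ∈ HC ι Φ' := by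
  rw [s_mem_HC] at hg ⊢
  intro a ha
  have := (hg (m⁻¹ * a * m) (fun x hx => by
    rw [h]
    refine ha (mem_support.2 fun e => mem_support.1 hx ?_)
    simp [e])).map (MulAut.conj (ι m))
  simpa [mul_assoc] using this

theorem s_compl {Ψ Ψ' : Finset Ω} {m : alternatingGroup Ω}
    (h : ∀ x, x ∈ Ψ ↔ (m : Perm Ω) x ∈ Ψ') (x : Ω) : x ∈ Ψᶜ ↔ (m : Perm Ω) x ∈ Ψ'ᶜ := by
  simp [h]

theorem s_T7_all (F : Fr ι t) {Ψ Ψ' : Finset Ω} (h7 : Ψ.card = 7)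
    (h7' : Ψ'.card = 7) (h : T7 ι t Ψ) : T7 ι t Ψ' := by
  obtain ⟨m, hm⟩ := s_even (h7'.trans h7.symm) (by omega)
  obtain ⟨κ, h1, h2, h3⟩ := h
  let e : HC ι Ψ'ᶜ ≃* HC ι Ψᶜ :=
    { toFun := fun g => ⟨ι m * g * (ι m)⁻¹, s_hc (s_compl hm) g.2⟩
      invFun := fun g => ⟨ι m⁻¹ * g * (ι m⁻¹)⁻¹, s_hc (s_compl (s_inv hm)) g.2⟩
      left_inv := fun g => Subtype.ext (by simp [mul_assoc])
      right_inv := fun g => Subtype.ext (by simp [mul_assoc])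
      map_mul' := fun g k => Subtype.ext (by simp [mul_assoc]) }
  refine ⟨κ.comp e.toMonoidHom, h1.comp e.surjective, ?_, fun ht => ?_⟩
  · exact (Nat.card_congr (e.toEquiv.subtypeEquiv (p := fun x => x ∈ (κ.comp e.toMonoidHom).ker)
      (q := fun x => x ∈ κ.ker) fun _ => Iff.rfl)).symm ▸ h2
  · have c : ι m * t * (ι m)⁻¹ = t := by rw [← (F.tC m).eq, mul_inv_cancel_right]
    have ht' : t ∈ HC ι Ψᶜ := c ▸ s_hc (s_compl hm) ht
    have : e ⟨t, ht⟩ = ⟨t, ht'⟩ := Subtype.ext c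
    show (κ (e _)).IsSwap
    rw [this]; exact h3 ht'

theorem s_of {Ψ Ψ' : Finset Ω} {m : alternatingGroup Ω}
    (h : ∀ x, x ∈ Ψ ↔ (m : Perm Ω) x ∈ Ψ') (a : alternatingGroup Ψ) :
    alternatingGroup.ofSubtype Ψ a = m⁻¹ * alternatingGroup.ofSubtype Ψ'
      (((m : Perm Ω).subtypeEquiv h).altCongrHom a) * m := by
  ext x
  by_cases hx : x ∈ Ψ
  · have hx' := (h x).1 hx
    simp [alternatingGroup.coe_ofSubtype, ofSubtype_apply_of_mem _ hx,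
      ofSubtype_apply_of_mem _ hx', subtypeEquiv]
  · have hx' := mt (h x).2 hx
    simp [alternatingGroup.coe_ofSubtype, ofSubtype_apply_of_not_mem _ hx,
      ofSubtype_apply_of_not_mem _ hx']

theorem s_W7_all (F : Fr ι t) {Ψ Ψ' : Finset Ω} (h7 : Ψ.card = 7)
    (h7' : Ψ'.card = 7) (h : W7 ι t Ψ) : W7 ι t Ψ' := by
  obtain ⟨m, hm⟩ := s_even (h7'.trans h7.symm) (by omega)
  obtain ⟨ι₁, ι₂, d, h1, h2⟩ := h
  set β := ((m : Perm Ω).subtypeEquiv hm).altCongrHom with hβ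
  let f : (alternatingGroup Ψ →* G) → (alternatingGroup Ψ' →* G) := fun j =>
    (MulAut.conj (ι m⁻¹)).toMonoidHom.comp (j.comp β.toMonoidHom)
  have fa : ∀ j a, f j a = (ι m)⁻¹ * j (β a) * ι m := fun j a => by simp [f]
  have fr : ∀ j, (f j).range = cj (ι m⁻¹) j.range := fun j => by
    rw [MonoidHom.range_comp, MonoidHom.range_comp,
      MonoidHom.range_eq_top.2 β.surjective, ← MonoidHom.range_eq_map]
  have c := F.tC m
  refine ⟨f ι₁, f ι₂, ⟨fun a b e => ?_, fun a => ?_, fun a b => ?_, fun a => ?_, fun a o ho => ?_⟩,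
    ?_, fun g hg => ?_⟩
  · rw [fa, fa, mul_left_inj, mul_right_inj] at e
    exact β.injective (d.inj e)
  · rw [s_of hm a, map_mul, map_mul, d.dia, fa, fa, map_inv]; simp [mul_assoc, hβ]
  · simpa [fa, mul_assoc] using (d.com (β a) (β b)).map (MulAut.conj (ι m)⁻¹)
  · rw [fa, fa, ← d.swp]
    calc _ = (t * (ι m)⁻¹) * ι₁ (β a) * (ι m * t⁻¹) := by group
      _ = ((ι m)⁻¹ * t) * ι₁ (β a) * (t⁻¹ * ι m) := by rw [c.inv_right.eq, c.inv_left.eq]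
      _ = _ := by group
  · rw [fa]
    exact ((ho.1 m).symm.inv_left.mul_left (d.co _ o ho)).mul_left (ho.1 m).symm
  · rw [fr, cj_le_iff]
    exact fun x hx => s_hc (s_compl (s_inv hm)) (h1 hx)
  · rw [fr, fr, ← cj_sup, ← cj_normalizer, mem_cj]
    simpa using h2 (s_hc (s_compl hm) hg)

theorem s_loc_j4 (F : Fr ι t) {Ψ : Finset Ω} (h4 : 4 ≤ Ψ.card) {ι₁ ι₂ : alternatingGroup Ψ →* G}
    (d : Loc ι t Ψ ι₁ ι₂) : J ι t 4 := by
  obtain ⟨s, hs, s4⟩ := Finset.exists_subset_card_eq h4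
  obtain ⟨p, q, r, w, h1, h2, h3, h5, h6, h7, rfl⟩ := Finset.card_eq_four.1 s4
  obtain ⟨u, v, f, -⟩ := Alt.FinP.exists_four' h1 h2 h3 h5 h6 h7
  obtain ⟨a, rfl⟩ := (alternatingGroup.mem_range_ofSubtype_iff Ψ u).2 (f.su ▸ hs)
  have aa : a * a = 1 := alternatingGroup.ofSubtype_injective (by rw [map_mul, f.uu, map_one])
  have t1 : t⁻¹ = t := inv_eq_of_mul_eq_one_right F.t2
  refine ⟨t * ι (alternatingGroup.ofSubtype Ψ a), _, ⟨?_, (Commute.refl t).mul_left (F.tC _).symm,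
    ?_⟩, by rw [f.su, s4]⟩
  · refine isConj_iff.2 ⟨ι₁ a, ?_⟩
    rw [(F.tC _).eq, d.dia, ← d.swp, ← map_inv, inv_eq_of_mul_eq_one_right aa]
    group
  · simpa using (Act.one_iff.2 (mem_KK.2 F.tC)).mul (Act.self _)

theorem s_W7_j4 (F : Fr ι t) {Ψ : Finset Ω} (h7 : Ψ.card = 7) (h : W7 ι t Ψ) : J ι t 4 := by
  obtain ⟨_, _, d, -⟩ := h
  exact s_loc_j4 F (by omega) d

/-- the conjugate needed for `T7.j2` (finish with `T7.swap`) -/
theorem s_T7_g (F : Fr ι t) {Ψ : Finset Ω} (h : T7 ι t Ψ) :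
    ∃ g ∈ HC ι Ψᶜ, Commute (g * t * g⁻¹) t ∧ g * t * g⁻¹ ≠ t := by
  obtain ⟨κ, h1, h2, h3⟩ := h
  have ht : t ∈ HC ι Ψᶜ := s_mem_HC.2 fun a _ => F.tC a
  obtain ⟨a, b, ab, e⟩ := h3 ht
  obtain ⟨c, hc, d, hd, cd⟩ := Finset.one_lt_card.1 (show 1 < ({a, b}ᶜ : Finset (Fin 9)).card by
    rw [Finset.card_compl, Finset.card_pair ab]; decide)
  simp only [Finset.mem_compl, Finset.mem_insert, Finset.mem_singleton, not_or] at hc hd
  obtain ⟨σ, hσ⟩ := isConj_iff.1 (isConj_swap ab cd)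
  obtain ⟨g, rfl⟩ := h1 σ
  set T : HC ι Ψᶜ := ⟨t, ht⟩ with hT
  have TT : T * T = 1 := Subtype.ext F.t2
  have T1 : T⁻¹ = T := inv_eq_of_mul_eq_one_right TT
  set D := g * T * g⁻¹ with hD
  have DD : D * D = 1 := by rw [hD, conj_mul, TT]; simp
  have D1 : D⁻¹ = D := inv_eq_of_mul_eq_one_right DD
  have kD : κ D = swap c d := by rw [hD, map_mul, map_mul, map_inv, e, hσ]
  have cm : Commute (swap a b) (swap c d) := (disjoint_swap_swap (by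
    simp [ab, cd, Ne.symm hc.1, Ne.symm hc.2, Ne.symm hd.1, Ne.symm hd.2])).commute
  have kx : κ (T * D) = swap a b * swap c d := by rw [map_mul, e, kD]
  have k2 : (swap a b * swap c d) ^ 2 = 1 := by rw [cm.mul_pow]; simp [pow_two]
  have hk : (T * D) ^ 2 ∈ κ.ker := by rw [MonoidHom.mem_ker, map_pow, kx, k2]
  obtain ⟨j, hj⟩ := h2
  have o : ((T * D) ^ 2) ^ (2 * j + 1) = 1 := by
    rw [← hj]; exact congrArg Subtype.val (pow_card_eq_one' (x := (⟨_, hk⟩ : κ.ker)))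
  set x := T * D with hx
  have s : SemiconjBy T x x⁻¹ := by rw [SemiconjBy, hx, mul_inv_rev, T1, D1, ← mul_assoc, TT,
    mul_assoc, TT, one_mul, mul_one]
  have hDx : D = T * x := by rw [hx, ← mul_assoc, TT, one_mul]
  have z : (x ^ (2 * j + 1))⁻¹ = x ^ (2 * j + 1) :=
    inv_eq_of_mul_eq_one_right (by rw [← o, ← pow_mul, ← pow_add]; congr 1; ring)
  have E : ((x ^ j)⁻¹ * g) * T * ((x ^ j)⁻¹ * g)⁻¹ = T * x ^ (2 * j + 1) := by
    calc _ = (x⁻¹ ^ j * T) * x * x ^ j := by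
          rw [mul_assoc _ T x, ← hDx, hD, inv_pow]; group
      _ = _ := by rw [← (s.pow_right j).eq]; group
  have C : Commute (T * x ^ (2 * j + 1)) T := by
    refine (Commute.refl T).mul_left (Commute.symm ?_)
    have := (s.pow_right (2 * j + 1)).eq
    rwa [inv_pow, z] at this
  refine ⟨((x ^ j)⁻¹ * g : HC ι Ψᶜ), Subtype.property _, ?_, fun n => ?_⟩
  · have := (E ▸ C).map (HC ι Ψᶜ).subtype
    simpa using this
  · have n' : T * x ^ (2 * j + 1) = T := E ▸ Subtype.ext (by simpa using n)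
    have := congrArg κ (mul_eq_left.1 n')
    rw [map_pow, kx, pow_succ, pow_mul, k2, one_pow, one_mul, map_one] at this
    have := congrArg (· c) this
    simp [swap_apply_of_ne_of_ne hd.1 hd.2, cd.symm] at this

/-- `T7.j2` from `T7.swap` -/
theorem s_T7_j2 (F : Fr ι t) {Ψ : Finset Ω} (h : T7 ι t Ψ)
    (hs : ∀ g ∈ HC ι Ψᶜ, Commute (g * t * g⁻¹) t → g * t * g⁻¹ ≠ t →
      ∃ σ, Act ι (g * t * g⁻¹) σ ∧ σ.IsSwap) : J ι t 2 := by
  obtain ⟨g, hg, c, n⟩ := s_T7_g F h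
  obtain ⟨σ, a, s⟩ := hs g hg c n
  exact ⟨_, σ, ⟨isConj_iff.2 ⟨g, rfl⟩, c, a⟩, card_support_eq_two.2 s⟩

end CfsgLib.ANX
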