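import Cfsg.Agent.Lib.ANX.Defs2
import Cfsg.Agent.Lib.ANX.SAll
import Cfsg.Agent.Lib.SymMax.SwapAut

/-! ANX part S: `T7.swap`, `T7.tt`, `T7.not_j4`, `Fr.tw` (the last three from `Fr.cj`, `Fr.nz_of`,
`Fr.s7` as hypotheses). -/

set_option autoImplicit false
set_option linter.unusedSectionVars false

namespace CfsgLib.ANX

open Subgroup Equiv Equiv.Perm Cfsg CfsgLib.Tech CfsgLib.Alt4 CfsgLib.AltSyl CfsgLib.NatSyl

universe u

variable {Ω : Type} [Fintype Ω] [DecidableEq Ω] {G : Type u} [Group G] [Finite G]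
  {ι : alternatingGroup Ω →* G} {t : G}

theorem st_tw {d : G} (h : d * d = 1) : Tw d := by
  rintro ⟨x, k, rfl⟩
  refine ⟨1, Subtype.ext ?_⟩
  show (d ^ k) ^ 2 ^ 1 = 1
  rw [pow_one, ← zpow_natCast, ← zpow_mul, mul_comm, zpow_mul, zpow_natCast, pow_two, h, one_zpow]

theorem st_swap_conj {α : Type} [DecidableEq α] {σ : Perm α} (h : σ.IsSwap) (τ : Perm α) :
    (τ * σ * τ⁻¹).IsSwap := by
  obtain ⟨a, b, ab, rfl⟩ := h
  exact ⟨_, _, τ.injective.ne ab, (swap_apply_apply τ a b).symm⟩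

theorem st_fix {Φ : Finset Ω} (h3 : 3 ≤ Φ.card) {ρ : Perm Ω} (h2 : ρ * ρ = 1)
    (hc : ∀ a : alternatingGroup Ω, (a : Perm Ω).support ⊆ Φ → Commute ρ a) {p : Ω}
    (hp : p ∈ Φ) : ρ p = p := by
  have rr : ∀ x, ρ (ρ x) = x := fun x => by rw [← Perm.mul_apply, h2]; rfl
  obtain ⟨q, hq, r, hr, qr⟩ := Finset.one_lt_card.1 (show 1 < (Φ.erase p).card by
    rw [Finset.card_erase_of_mem hp]; omega)
  obtain ⟨qp, hq⟩ := Finset.mem_erase.1 hq
  obtain ⟨rp, hr⟩ := Finset.mem_erase.1 hr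
  have e := congrArg (fun f : Perm Ω => f p) (hc ⟨swap p q * swap p r, mem_alternatingGroup.2 (by
    simp [sign_swap qp.symm, sign_swap rp.symm])⟩ (fun x hx => by
      by_contra n
      refine mem_support.1 hx ?_
      have h1 : x ≠ p := fun e => n (e ▸ hp)
      have h2 : x ≠ q := fun e => n (e ▸ hq)
      have h3 : x ≠ r := fun e => n (e ▸ hr)
      show swap p q (swap p r x) = x
      rw [swap_apply_of_ne_of_ne h1 h3, swap_apply_of_ne_of_ne h1 h2])).eq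
  simp only [Perm.mul_apply] at e
  rw [swap_apply_left, swap_apply_of_ne_of_ne rp qr.symm] at e
  by_contra n
  by_cases h1 : ρ p = q
  · rw [h1, swap_apply_of_ne_of_ne qp qr, swap_apply_right] at e
    exact qr (by rw [← h1, ← e, rr])
  by_cases h4 : ρ p = r
  · rw [h4, swap_apply_right, swap_apply_left, ← h4, rr] at e
    exact qp e.symm
  · rw [swap_apply_of_ne_of_ne n h4, swap_apply_of_ne_of_ne n h1] at e
    exact rp (ρ.injective e)

theorem st_mem (ι : alternatingGroup Ω →* G) {Ψ : Finset Ω} (a : alternatingGroup Ψ) :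
    ι (alternatingGroup.ofSubtype Ψ a) ∈ HC ι Ψᶜ := by
  refine s_mem_HC.2 fun b hb => Commute.map (Subtype.ext (Perm.Disjoint.commute fun x => ?_).eq) ι
  by_cases hx : x ∈ Ψ
  · exact .inr (notMem_support.1 fun h => Finset.mem_compl.1 (hb h) hx)
  · exact .inl (ofSubtype_apply_of_not_mem _ hx)

theorem st_K (hi : Function.Injective ι) (h10 : 10 ≤ Fintype.card Ω) {Ψ : Finset Ω}
    (h7 : Ψ.card = 7) {κ : HC ι Ψᶜ →* Perm (Fin 9)} (ho : Odd (Nat.card κ.ker)) {u : HC ι Ψᶜ}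
    (uu : u * u = 1) {ρ : Perm Ω} (ha : Act ι (u : G) ρ) (hs : (κ u).IsSwap) :
    ρ = 1 ∨ ρ.IsSwap := by
  have c7 : Fintype.card Ψ = 7 := by simpa using h7
  have r2 : ρ * ρ = 1 := by
    have := ha.mul ha
    rw [← Subgroup.coe_mul, uu] at this
    exact this.unique hi (by omega) Act.one
  have fx : ∀ p, p ∉ Ψ → ρ p = p := fun p hp =>
    st_fix (Φ := Ψᶜ) (by rw [Finset.card_compl]; omega) r2
      (fun a h => ha.commute' hi (s_mem_HC.1 u.2 a h)) (Finset.mem_compl.2 hp)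
  have h1 : ∀ x, ρ x ∈ Ψ ↔ x ∈ Ψ := fun x => not_iff_not.1
    ⟨fun h => ρ.injective (fx _ h) ▸ h, fun h => (fx x h).symm ▸ h⟩
  have h2 : ∀ x, ρ x ≠ x → x ∈ Ψ := fun x hx => by_contra fun h => hx (fx x h)
  obtain ⟨r, rfl⟩ : ∃ r : Perm Ψ, ofSubtype r = ρ := ⟨_, ofSubtype_subtypePerm h1 h2⟩
  have rr : r * r = 1 := ofSubtype_injective (by rw [map_mul, r2, map_one])
  by_cases r1 : r = 1
  · exact .inl (by rw [r1, map_one])
  let j : alternatingGroup Ψ →* HC ι Ψᶜ :=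
    (ι.comp (alternatingGroup.ofSubtype Ψ)).codRestrict _ (st_mem ι)
  have ji : Function.Injective j := fun a b e =>
    alternatingGroup.ofSubtype_injective (hi (congrArg Subtype.val e))
  have inj : (κ.comp j).ker = ⊥ := by
    have := alternatingGroup.isSimpleGroup (α := Ψ) (by rw [Nat.card_eq_fintype_card]; omega)
    refine (Normal.eq_bot_or_eq_top inferInstance).resolve_right fun e => ?_
    obtain ⟨s, -, s4⟩ := Finset.exists_subset_card_eq (s := (Finset.univ : Finset Ψ)) (n := 4)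
      (by rw [Finset.card_univ]; omega)
    obtain ⟨p, q, r, w, h1, h2, h3, h5, h6, h7, rfl⟩ := Finset.card_eq_four.1 s4
    obtain ⟨a, v, f, -⟩ := Alt.FinP.exists_four' h1 h2 h3 h5 h6 h7
    have m : j a ∈ κ.ker := (e ▸ mem_top a : a ∈ (κ.comp j).ker)
    obtain ⟨n, hn⟩ := ho
    have o : j a ^ (2 * n + 1) = 1 := by
      rw [← hn]; exact congrArg Subtype.val (pow_card_eq_one' (x := (⟨_, m⟩ : κ.ker)))
    rw [pow_succ, pow_mul, pow_two, ← map_mul, f.uu, map_one, one_pow, one_mul] at o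
    exact f.ne_one (ji (o.trans (map_one j).symm))
  have ev : ∀ a : alternatingGroup Ψ, (r * (a * r * (a : Perm Ψ)⁻¹)) ^ 6 = 1 := fun a => by
    have e : u * j a * u⁻¹ = j (MulAut.conjNormal r a) := Subtype.ext (ha.eq (by
      simp [alternatingGroup.coe_ofSubtype]))
    have m : (MulAut.conjNormal r a * a⁻¹) ^ 6 ∈ (κ.comp j).ker := by
      rw [MonoidHom.mem_ker, map_pow, MonoidHom.comp_apply, map_mul, ← e, map_inv, map_mul,
        map_mul, map_mul, map_inv, map_inv, mul_assoc, mul_assoc, ← mul_assoc (κ (j a))]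
      refine SymMax.swap_mul_swap_pow_six hs (st_swap_conj ?_ _)
      obtain ⟨x, y, xy, e⟩ := hs
      exact ⟨x, y, xy, by rw [e, swap_inv]⟩
    rw [inj, mem_bot] at m
    have := congrArg Subtype.val m
    simpa [inv_eq_of_mul_eq_one_right rr, mul_assoc] using this
  refine .inr ((SymMax.isSwap_or_of_pow_six (by omega) r1 rr fun k => ?_).resolve_right
    (by omega)).of_subtype_isSwap
  rcases Int.units_eq_one_or (sign k) with e | e
  · exact ev ⟨k, mem_alternatingGroup.2 e⟩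
  · obtain ⟨a, ha⟩ : ∃ a, r a ≠ a := not_forall.1 fun h => r1 (Equiv.ext h)
    have c : Commute r (swap a (r a)) := by
      rw [Commute, SemiconjBy, mul_swap_eq_swap_mul, ← Perm.mul_apply, rr, Perm.one_apply,
        swap_comm]
    have := ev ⟨k * swap a (r a), mem_alternatingGroup.2 (by simp [e, sign_swap ha.symm])⟩
    rwa [mul_assoc k, ← c.eq, mul_inv_rev, ← mul_assoc k, ← mul_assoc (k * r * _),
      mul_inv_cancel_right] at this

theorem st_t (F : Fr ι t) (Φ : Finset Ω) : t ∈ HC ι Φ := s_mem_HC.2 fun a _ => F.tC a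

theorem st_act (F : Fr ι t) : Act ι t 1 := Act.one_iff.2 (mem_KK.2 F.tC)

theorem st_mono {Φ Ψ : Finset Ω} (h : Φ ⊆ Ψ) {g : G} (hg : g ∈ HC ι Φᶜ) : g ∈ HC ι Ψᶜ :=
  s_mem_HC.2 fun a ha => s_mem_HC.1 hg a (ha.trans (Finset.compl_subset_compl.2 h))

/-- `T7.swap` -/
theorem s_swap (F : Fr ι t) (h10 : 10 ≤ Fintype.card Ω) {Ψ : Finset Ω} (h7 : Ψ.card = 7)
    (h : T7 ι t Ψ) {g : G} (hg : g ∈ HC ι Ψᶜ) (hc : Commute (g * t * g⁻¹) t)
    (hn : g * t * g⁻¹ ≠ t) : ∃ σ, Act ι (g * t * g⁻¹) σ ∧ σ.IsSwap := by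
  obtain ⟨κ, -, h2, h3⟩ := h
  obtain ⟨σ, a⟩ := F.aut _ hc
  have dd : g * t * g⁻¹ * (g * t * g⁻¹) = 1 := by rw [conj_mul, F.t2]; simp
  refine ⟨σ, a, (st_K F.inj h10 h7 h2 (u := ⟨g, hg⟩ * ⟨t, st_t F _⟩ * ⟨g, hg⟩⁻¹) (Subtype.ext dd) a
    ?_).resolve_left ?_⟩
  · rw [map_mul, map_mul, map_inv]; exact st_swap_conj (h3 _) _
  · rintro rfl
    rcases F.two _ (mem_KK.1 (Act.one_iff.1 a)) hc (st_tw dd) with e | e
    · exact F.t1 (by simpa using e)
    · exact hn e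

/-- the statement of `Fr.cj` -/
def SCj (ι : alternatingGroup Ω →* G) (t : G) : Prop :=
  ∀ s σ, Ty ι t s σ → 5 ≤ σ.supportᶜ.card → σ.supportᶜ.card ≠ 6 →
    ∃ g ∈ HC ι σ.supportᶜ, g * t * g⁻¹ = s

theorem SCj.get (cj : SCj ι t) {s : G} {σ : Perm Ω} (h : Ty ι t s σ)
    (h7 : σ.support.card + 7 ≤ Fintype.card Ω) {Ψ : Finset Ω} (hs : σ.support ⊆ Ψ) :
    ∃ g ∈ HC ι Ψᶜ, g * t * g⁻¹ = s := by
  obtain ⟨g, hg, e⟩ := cj s σ h (by rw [Finset.card_compl]; omega)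
    (by rw [Finset.card_compl]; omega)
  exact ⟨g, st_mono hs hg, e⟩

theorem st_ne (F : Fr ι t) (h5 : 5 ≤ Fintype.card Ω) {s : G} {σ : Perm Ω} (h : Ty ι t s σ)
    (h0 : σ.support.card ≠ 0) : s ≠ t := by
  rintro rfl
  rw [h.ac.unique F.inj h5 (st_act F)] at h0
  simp at h0

/-- `T7.tt` -/
theorem s_tt (F : Fr ι t) (h10 : 10 ≤ Fintype.card Ω) (cj : SCj ι t)
    (h : ∀ Ψ : Finset Ω, Ψ.card = 7 → T7 ι t Ψ) : TT2 ι t := by
  refine ⟨fun s σ y hs c => ?_, fun s σ s' σ' g ξ y y' hs hs' d c e a => ?_⟩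
  · have s2 := card_support_eq_two.2 hs
    obtain ⟨Ψ, h1, h7⟩ := Finset.exists_superset_card_eq (s := σ.support) (n := 7) (by omega)
      (by omega)
    obtain ⟨g, hg, e⟩ := cj.get y (by omega) h1
    obtain ⟨g', hg', e'⟩ := cj.get (s := t * s) (σ := σ)
      ⟨c, (Commute.refl t).mul_left y.cm, by simpa using (st_act F).mul y.ac⟩ (by omega) h1
    obtain ⟨κ, -, -, h3⟩ := h Ψ h7
    have E : (⟨g', hg'⟩ * ⟨t, st_t F _⟩ * ⟨g', hg'⟩⁻¹ : HC ι Ψᶜ) =
        ⟨t, st_t F _⟩ * (⟨g, hg⟩ * ⟨t, st_t F _⟩ * ⟨g, hg⟩⁻¹) :=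
      Subtype.ext (e'.trans (congrArg (t * ·) e.symm))
    have := congrArg (fun x => sign (κ x)) E
    simp only [map_mul, map_inv, (h3 (st_t F _)).sign_eq, mul_inv_cancel_comm] at this
    exact absurd this (by decide)
  · have s2 := card_support_eq_two.2 hs
    have s2' := card_support_eq_two.2 hs'
    obtain ⟨Ψ, h1, h7⟩ := Finset.exists_superset_card_eq (s := σ.support ∪ σ'.support) (n := 7)
      ((Finset.card_union_le _ _).trans (by omega)) (by omega)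
    obtain ⟨k, hk, ek⟩ := cj.get y (by omega) (Finset.subset_union_left.trans h1)
    obtain ⟨k', hk', ek'⟩ := cj.get y' (by omega) (Finset.subset_union_right.trans h1)
    have e1 : k⁻¹ * k' * t * (k⁻¹ * k')⁻¹ = k⁻¹ * s' * k := by rw [← ek']; group
    have e2 : k⁻¹ * s * k = t := by rw [← ek]; group
    obtain ⟨ρ, a1, hρ⟩ := s_swap F h10 h7 (h Ψ h7) (mul_mem (inv_mem hk) hk')
      (by rw [e1, ← e2]; simpa using c.map (MulAut.conj k⁻¹)) (fun n => by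
        rw [e1, ← e2, mul_left_inj, mul_right_inj] at n
        subst n
        obtain rfl := y.ac.unique F.inj (by omega) y'.ac
        rw [disjoint_refl_iff.1 d] at s2
        simp at s2)
    obtain ⟨τ, a2⟩ := F.aut (g⁻¹ * k) (mul_inv_eq_iff_eq_mul.1 (by
      calc _ = g⁻¹ * (k * t * k⁻¹) * g := by group
        _ = t := by rw [ek, ← e]; group))
    have a3 := ((a2.mul a1).mul a2.inv).cα g
    rw [e1, show g * (g⁻¹ * k * (k⁻¹ * s' * k) * (g⁻¹ * k)⁻¹) * g⁻¹ = s' by group] at a3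
    rw [a.unique (fun x y e => F.inj (by simpa [cα_apply] using e)) (by omega) a3]
    exact st_swap_conj hρ τ

/-- `T7.not_j4` -/
theorem s_not_j4 (F : Fr ι t) (h11 : 11 ≤ Fintype.card Ω) (cj : SCj ι t)
    (h : ∀ Ψ : Finset Ω, Ψ.card = 7 → T7 ι t Ψ) : ¬ J ι t 4 := by
  rintro ⟨s, σ, y, s4⟩
  obtain ⟨Ψ, h1, h7⟩ := Finset.exists_superset_card_eq (s := σ.support) (n := 7) (by omega)
    (by omega)
  obtain ⟨g, hg, rfl⟩ := cj.get y (by omega) h1
  obtain ⟨ρ, a, hρ⟩ := s_swap F (by omega) h7 (h Ψ h7) hg y.cm (st_ne F (by omega) y (by omega))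
  obtain rfl := y.ac.unique F.inj (by omega) a
  have := card_support_eq_two.2 hρ
  omega

/-- `Fr.tw`: `nz` is `Fr.nz_of`, `s7` is `Fr.s7` -/
theorem s_tw (F : Fr ι t) (h10 : 10 ≤ Fintype.card Ω) (cj : SCj ι t)
    (nz : ∀ s σ, Ty ι t s σ → 4 ≤ σ.support.card → 5 ≤ σ.supportᶜ.card →
      ∀ Φ : Finset Ω, Φ.card ≤ σ.supportᶜ.card → NZ (HC ι Φ) t)
    (s7 : ∀ Ψ : Finset Ω, Ψ.card = 7 → NZ (HC ι Ψᶜ) t → T7 ι t Ψ ∨ W7 ι t Ψ)
    (h : J ι t 2 ∨ J ι t 4) :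
    (∀ Ψ : Finset Ω, Ψ.card = 7 → T7 ι t Ψ) ∨ ∀ Ψ : Finset Ω, Ψ.card = 7 → W7 ι t Ψ := by
  obtain ⟨Ψ, h7, n⟩ : ∃ Ψ : Finset Ω, Ψ.card = 7 ∧ NZ (HC ι Ψᶜ) t := by
    rcases h with ⟨s, σ, y, c⟩ | ⟨s, σ, y, c⟩ <;>
      obtain ⟨Ψ, h1, h7⟩ := Finset.exists_superset_card_eq (s := σ.support) (n := 7) (by omega)
        (by omega)
    · obtain ⟨g, hg, rfl⟩ := cj.get y (by omega) h1
      exact ⟨Ψ, h7, g, hg, y.cm, st_ne F (by omega) y (by omega)⟩
    · exact ⟨Ψ, h7, nz s σ y (by omega) (by rw [Finset.card_compl]; omega) _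
        (Finset.card_le_card (Finset.compl_subset_compl.2 h1))⟩
  exact (s7 Ψ h7 n).imp (fun h _ h' => s_T7_all F h7 h' h) fun h _ h' => s_W7_all F h7 h' h

end CfsgLib.ANX
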