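import Cfsg.Agent.Lib.ANX.PB
import Cfsg.Agent.Lib.ANX.ST7
import Cfsg.Agent.Lib.ANX.QP2
import Cfsg.Agent.Lib.ANX.U5P

/-! ANX part H, bridge: the fields `ny`. -/

set_option autoImplicit false
set_option linter.unusedSectionVars false

namespace CfsgLib.ANX

open Subgroup Equiv Equiv.Perm Cfsg CfsgLib.Tech CfsgLib.Alt4 CfsgLib.AltSyl CfsgLib.NatSyl
open CfsgLib.AltAut (tc)

universe u

variable {Ω : Type} [Fintype Ω] [DecidableEq Ω] {G : Type u} [Group G] [Finite G]
  {ι : alternatingGroup Ω →* G} {t : G}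

theorem kny_mem {Φ : Finset Ω} {x : G} :
    x ∈ iA ι Φ ↔ ∃ a : alternatingGroup Ω, (a : Perm Ω).support ⊆ Φ ∧ ι a = x :=
  ⟨fun ⟨a, ha, e⟩ => ⟨a, (mem_altOn.1 (mem_subgroupOf.1 ha)).1, e⟩, fun ⟨a, ha, e⟩ =>
    ⟨a, mem_subgroupOf.2 (mem_altOn.2 ⟨ha, mem_alternatingGroup.1 a.2⟩), e⟩⟩

theorem kny_tc {a b c : Ω} (ab : a ≠ b) (ac : a ≠ c) (bc : b ≠ c) : (tc a b c).IsThreeCycle := by
  rw [tc, swap_comm a b]
  exact isThreeCycle_swap_mul_swap_same ab.symm bc ac

/-- the untwisted identification of a 3-cycle in the two views makes `t` act as a swap -/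
theorem kny_three (F : Fr ι t) (h10 : Fintype.card Ω = 10)
    (h7 : ∀ Ψ : Finset Ω, Ψ.card = 7 → T7 ι t Ψ) {g : G} (hc : Commute (g * t * g⁻¹) t)
    (hn : g * t * g⁻¹ ≠ t) {ρ ρ' : alternatingGroup Ω} (h : (ρ : Perm Ω).IsThreeCycle)
    (h' : (ρ' : Perm Ω).IsThreeCycle) (e : cα g ι ρ' = ι ρ) :
    ∃ σ, Act ι (g * t * g⁻¹) σ ∧ σ.IsSwap := by
  obtain ⟨l, rfl⟩ := isConj_iff.1 (alternatingGroup.isThreeCycle_isConj (by rw [Nat.card_eq_fintype_card]; omega) h h')
  have e2 : g * ι l * t * (g * ι l)⁻¹ = g * t * g⁻¹ := by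
    rw [mul_assoc g, ← (F.tC l).eq]; group
  have m : g * ι l ∈ HC ι (ρ : Perm Ω).supportᶜᶜ := by
    rw [compl_compl]
    refine q_hc h (mul_inv_eq_iff_eq_mul.1 ?_)
    refine .trans ?_ e
    rw [cα_apply, map_mul, map_mul, map_inv]; group
  have c7 : (ρ : Perm Ω).supportᶜ.card = 7 := by rw [Finset.card_compl, h.card_support, h10]
  rw [← e2] at hc hn ⊢
  exact s_swap F h10.ge c7 (h7 _ c7) m hc hn

theorem k_ny (F : Fr ι t) (h10 : Fintype.card Ω = 10)
    (h7 : ∀ Ψ : Finset Ω, Ψ.card = 7 → T7 ι t Ψ) {w g : G} {p q : Ω} (pq : p ≠ q)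
    (hw : Act ι w (swap p q)) (wt : Commute w t) (gw : Commute g w) {y : alternatingGroup Ω}
    (hy : Root y) (yp : (y : Perm Ω) p = p) (yq : (y : Perm Ω) q = q) :
    g * t * g⁻¹ ≠ t * ι y := by
  intro e
  have y4 : (y : Perm Ω).support.card = 4 := hy.2
  have T : Ty ι t (g * t * g⁻¹) y := ⟨isConj_iff.2 ⟨g, rfl⟩,
    e ▸ (Commute.refl t).mul_left (F.tC y).symm, by
      rw [e]; simpa using (st_act F).mul (Act.self y)⟩
  have n := st_ne F (by omega) T (by omega)
  have F' := F.conj g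
  obtain ⟨σ', a'⟩ := F'.aut t T.cm.symm
  have c6 : (y : Perm Ω).supportᶜ.card = 6 := by rw [Finset.card_compl, y4, h10]
  obtain ⟨s4, E⟩ := F.ci T n rfl a' (by omega)
  have hw' : Act (cα g ι) w (swap p q) := by
    have := hw.cα g
    rwa [gw.eq, mul_inv_cancel_right] at this
  have cs : Commute (swap p q) σ' := by
    have h1 := hw'.mul a'
    rw [wt.eq] at h1
    exact h1.unique F'.inj (by omega) (a'.mul hw')
  have mp : p ∈ (y : Perm Ω).supportᶜ := by simp [yp]
  obtain ⟨S, hS, S3⟩ := Finset.exists_subset_card_eq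
    (s := ((y : Perm Ω).supportᶜ.erase p).erase q) (n := 3) (by
      have := Finset.pred_card_le_card_erase (s := (y : Perm Ω).supportᶜ.erase p) (a := q)
      rw [Finset.card_erase_of_mem mp] at this
      omega)
  obtain ⟨a, b, c, ab, ac, bc, rfl⟩ := Finset.card_eq_three.1 S3
  have ha := hS (by simp : a ∈ ({a, b, c} : Finset Ω))
  have hb := hS (by simp : b ∈ ({a, b, c} : Finset Ω))
  have hc := hS (by simp : c ∈ ({a, b, c} : Finset Ω))
  simp only [Finset.mem_erase] at ha hb hc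
  -- `p, q` are fixed by `σ'`
  have key : ∀ p q : Ω, p ≠ q → Act ι w (swap p q) → Act (cα g ι) w (swap p q) →
      Commute (swap p q) σ' → p ∈ (y : Perm Ω).supportᶜ → a ≠ p → a ≠ q → b ≠ p → b ≠ q →
      σ' p = p := by
    intro p q pq hw hw' cs mp ap aq bp bq
    by_contra k
    have k2 : σ' p = q := by
      by_contra k2
      have := congrArg (fun f : Perm Ω => f p) cs.eq
      simp only [Perm.mul_apply, swap_apply_left, swap_apply_of_ne_of_ne k k2] at this
      exact pq (σ'.injective this)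
    have k3 : σ' q ≠ q := fun k3 => pq (σ'.injective (k2.trans k3.symm))
    have m := mem_altOn.1 (tc_mem mp ha.2.2 hb.2.2 ap.symm ab)
    obtain ⟨v, hv, ev⟩ := kny_mem.1 (E ▸ kny_mem.2 ⟨⟨_, mem_alternatingGroup.2 m.2⟩, m.1, rfl⟩)
    have v1 : (v : Perm Ω) p = p := notMem_support.1 fun h => by simpa [k] using hv h
    have v2 : (v : Perm Ω) q = q := notMem_support.1 fun h => by simpa [k3] using hv h
    have c1 : Commute w (cα g ι v) := hw'.commute (by
      rw [Commute, SemiconjBy, mul_swap_eq_swap_mul, v1, v2])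
    have c2 := congrArg (fun f : Perm Ω => f p) (hw.commute' F.inj (ev ▸ c1)).eq
    simp only [Perm.mul_apply, swap_apply_left, tc_apply ap.symm bp.symm,
      swap_apply_of_ne_of_ne ap aq, tc_fix pq.symm aq.symm bq.symm] at c2
    exact aq c2
  have k1 := key p q pq hw hw' cs mp ha.2.1 ha.1 hb.2.1 hb.1
  have k2 := key q p pq.symm (swap_comm p q ▸ hw) (swap_comm p q ▸ hw') (swap_comm p q ▸ cs)
    (by simp [yq]) ha.1 ha.2.1 hb.1 hb.2.1
  have m := mem_altOn.1 (tc_mem ha.2.2 hb.2.2 hc.2.2 ab bc)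
  have t3 := kny_tc ab ac bc
  obtain ⟨v, hv, ev⟩ := kny_mem.1 (E ▸ kny_mem.2 ⟨⟨_, mem_alternatingGroup.2 m.2⟩, m.1, rfl⟩)
  have c1 : Commute (swap p q) (v : Perm Ω) := hw'.commute' F'.inj (ev ▸ hw.commute (by
    show swap p q * tc a b c = tc a b c * swap p q
    rw [mul_swap_eq_swap_mul, tc_fix ha.2.1.symm hb.2.1.symm hc.2.1.symm,
      tc_fix ha.1.symm hb.1.symm hc.1.symm]))
  have v3 : v ^ 3 = 1 := F'.inj (by
    rw [map_pow, ev, ← map_pow, map_one, ← map_one ι]
    exact congrArg ι (Subtype.ext (t3.orderOf ▸ pow_orderOf_eq_one (tc a b c))))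
  have v3' : (v : Perm Ω) ^ 3 = 1 := congrArg Subtype.val v3
  have fx : ∀ p q : Ω, p ≠ q → Commute (swap p q) (v : Perm Ω) → (v : Perm Ω) p = p := by
    intro p q pq c
    by_contra k
    have h1 := congrArg (fun f : Perm Ω => f p) c.eq
    have h2 := congrArg (fun f : Perm Ω => f q) c.eq
    have h3 := congrArg (fun f : Perm Ω => f p) v3'
    simp only [Perm.mul_apply, swap_apply_left, swap_apply_right, pow_succ, pow_zero,
      Perm.one_apply] at h1 h2 h3
    by_cases k2 : (v : Perm Ω) p = q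
    · rw [k2, swap_apply_right] at h1
      rw [k2, ← h1, k2] at h3
      exact pq h3.symm
    · rw [swap_apply_of_ne_of_ne k k2] at h1
      exact pq ((v : Perm Ω).injective h1)
  have hs : (v : Perm Ω).support ⊆ (σ'.supportᶜ.erase p).erase q := fun x hx =>
    Finset.mem_erase.2 ⟨fun h => mem_support.1 hx (h ▸ fx q p pq.symm (swap_comm p q ▸ c1)),
      Finset.mem_erase.2 ⟨fun h => mem_support.1 hx (h ▸ fx p q pq c1), hv hx⟩⟩
  have hl := Finset.card_le_card hs
  rw [Finset.card_erase_of_mem (by simp [k2, pq.symm]), Finset.card_erase_of_mem (by simp [k1]),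
    Finset.card_compl, s4, y4, h10] at hl
  obtain ⟨j, hj⟩ := u5p_dvd Nat.prime_three v3'
  have v0 : (v : Perm Ω).support.card ≠ 0 := fun h => by
    have h1 : v = 1 := Subtype.ext (support_eq_empty_iff.1 (Finset.card_eq_zero.1 h))
    rw [h1, map_one, ← map_one ι] at ev
    exact t3.ne_one (congrArg Subtype.val (F.inj ev)).symm
  obtain ⟨σ, a1, hσ⟩ := kny_three F h10 h7 T.cm n t3 (card_support_eq_three_iff.1 (by omega)) ev
  obtain rfl := T.ac.unique F.inj (by omega) a1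
  have := card_support_eq_two.2 hσ
  omega

end CfsgLib.ANX
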