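import Cfsg.Agent.Lib.ANX.Defs

/-! ANX part B: conjugation and restriction of the frame. -/

set_option autoImplicit false
set_option linter.unusedSectionVars false

namespace CfsgLib.ANX

open Subgroup Equiv Equiv.Perm Cfsg CfsgLib.Tech CfsgLib.Alt4 CfsgLib.AltSyl CfsgLib.NatSyl

universe u

variable {Ω : Type} [Fintype Ω] [DecidableEq Ω] {G : Type u} [Group G] [Finite G]
  {ι : alternatingGroup Ω →* G} {t : G} {K : Subgroup G}

theorem b_tw_iff {g : G} : Tw g ↔ ∃ k : ℕ, g ^ 2 ^ k = 1 := by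
  have := Fact.mk Nat.prime_two
  refine ⟨fun h => ?_, fun ⟨k, h⟩ => ?_⟩
  · obtain ⟨k, e⟩ := h ⟨g, mem_zpowers g⟩
    exact ⟨k, by simpa using congrArg Subtype.val e⟩
  · rintro ⟨_, n, rfl⟩
    refine ⟨k, Subtype.ext ?_⟩
    show (g ^ n) ^ 2 ^ k = 1
    rw [← zpow_natCast, ← zpow_mul, mul_comm, zpow_mul, zpow_natCast, h, one_zpow]

theorem b_conj (F : Fr ι t) (g : G) : Fr (cα g ι) (g * t * g⁻¹) := by
  have back : ∀ c, Commute c (g * t * g⁻¹) → Commute (g⁻¹ * c * g) t := fun c h => by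
    have := h.eq
    rw [Commute, SemiconjBy]
    calc g⁻¹ * c * g * t = g⁻¹ * (c * (g * t * g⁻¹)) * g := by group
      _ = t * (g⁻¹ * c * g) := by rw [this]; group
  refine ⟨⟨(MulAut.conj g).injective.comp F.inj, by rw [conj_mul, F.t2]; simp,
    fun e => F.t1 (by simpa using e), fun a => ?_, fun c hc => ?_⟩, fun c h1 h2 h3 => ?_⟩
  · exact (F.tC a).map (MulAut.conj g)
  · obtain ⟨σ, h⟩ := F.aut _ (back c hc)
    refine ⟨σ, ?_⟩
    have := h.cα g
    rwa [show g * (g⁻¹ * c * g) * g⁻¹ = c by group] at this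
  · have := F.two (g⁻¹ * c * g) (fun a => ?_) (back c h2) ?_
    · rcases this with e | e
      · left; rw [show c = g * (g⁻¹ * c * g) * g⁻¹ by group, e]; simp
      · right; rw [← e]; group
    · have := (h1 a).eq
      rw [cα_apply] at this
      rw [Commute, SemiconjBy]
      calc g⁻¹ * c * g * ι a = g⁻¹ * (c * (g * ι a * g⁻¹)) * g := by group
        _ = ι a * (g⁻¹ * c * g) := by rw [this]; group
    · obtain ⟨k, e⟩ := b_tw_iff.1 h3
      refine b_tw_iff.2 ⟨k, ?_⟩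
      rw [show g⁻¹ * c * g = g⁻¹ * c * g⁻¹⁻¹ by rw [inv_inv], conj_pow, e]; simp

/-- a permutation that centralises `Alt Φ` preserves `Φ`, and its cube fixes `Φ` pointwise -/
theorem b_cen {Φ : Finset Ω} (h3 : 3 ≤ Φ.card) {σ : Perm Ω} (h : ∀ a ∈ altOn Φ, Commute σ a)
    {x : Ω} (hx : x ∈ Φ) : σ x ∈ Φ ∧ (σ ^ 3) x = x := by
  obtain ⟨y, hy, z, hz, yz⟩ := Finset.one_lt_card.1 (show 1 < (Φ.erase x).card by
    rw [Finset.card_erase_of_mem hx]; omega)
  obtain ⟨yx, hy⟩ := Finset.mem_erase.1 hy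
  obtain ⟨zx, hz⟩ := Finset.mem_erase.1 hz
  have fix : ∀ w, w ≠ x → w ≠ y → w ≠ z → (swap x y * swap x z) w = w := fun w a b c => by
    rw [Perm.mul_apply, swap_apply_of_ne_of_ne a c, swap_apply_of_ne_of_ne a b]
  have r1 : (swap x y * swap x z) x = z := by
    rw [Perm.mul_apply, swap_apply_left, swap_apply_of_ne_of_ne zx yz.symm]
  have r2 : (swap x y * swap x z) z = y := by
    rw [Perm.mul_apply, swap_apply_right, swap_apply_left]
  have r3 : (swap x y * swap x z) y = x := by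
    rw [Perm.mul_apply, swap_apply_of_ne_of_ne yx yz, swap_apply_right]
  have hc := h (swap x y * swap x z) (mem_altOn.2 ⟨fun w hw => by
    by_contra hn
    exact mem_support.1 hw (fix w (fun e => hn (e ▸ hx)) (fun e => hn (e ▸ hy))
      fun e => hn (e ▸ hz)), by simp [yx.symm, zx.symm]⟩)
  have e : ∀ w, σ ((swap x y * swap x z) w) = (swap x y * swap x z) (σ w) := fun w => by
    rw [← Perm.mul_apply, hc.eq, Perm.mul_apply]
  have p3 : (σ ^ 3) x = σ (σ (σ x)) := by simp [pow_succ]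
  have e1 := e x
  have e2 := e z
  have e3 := e y
  rw [r1] at e1
  rw [r2] at e2
  rw [r3] at e3
  rw [p3]
  by_cases a : σ x = x
  · exact ⟨by rwa [a], by rw [a, a, a]⟩
  by_cases b : σ x = y
  · rw [b, r3] at e1
    rw [e1, r1] at e2
    exact ⟨by rwa [b], by rw [b, e2, e1]⟩
  by_cases c : σ x = z
  · rw [c, r2] at e1
    rw [e1, r3] at e2
    exact ⟨by rwa [c], by rw [c, e1, e2]⟩
  rw [fix _ a b c] at e1
  exact absurd (σ.injective e1) zx

theorem b_mem_iA {Φ : Finset Ω} {a : alternatingGroup Ω} (h : (a : Perm Ω) ∈ altOn Φ) :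
    ι a ∈ iA ι Φ := ⟨a, h, rfl⟩

theorem b_mem_HC {Φ : Finset Ω} {g : G} :
    g ∈ HC ι Φ ↔ ∀ a : alternatingGroup Ω, (a : Perm Ω) ∈ altOn Φ → Commute g (ι a) :=
  ⟨fun h a ha => (h _ (b_mem_iA ha)).symm, fun h _ ⟨a, ha, e⟩ => e ▸ (h a ha).eq.symm⟩

/-- the permutation induced by an element of `C(ι Alt Φ)` centralises `Alt Φ` -/
theorem b_act_cen (hi : Function.Injective ι) {Φ : Finset Ω} {g : G} (hg : g ∈ HC ι Φ)
    {σ : Perm Ω} (h : Act ι g σ) : ∀ a ∈ altOn Φ, Commute σ a := fun a ha =>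
  h.commute' hi (a := ⟨a, altOn_le_alt Φ ha⟩) (b_mem_HC.1 hg _ ha)

theorem b_of_mem (Φ : Finset Ω) (a : alternatingGroup (Φᶜ : Finset Ω)) :
    ι (alternatingGroup.ofSubtype Φᶜ a) ∈ HC ι Φ := b_mem_HC.2 fun b hb => by
  refine Commute.map (Subtype.ext ?_) ι
  refine (Perm.disjoint_iff_disjoint_support.2 ?_).commute.eq
  have h1 := (alternatingGroup.mem_range_ofSubtype_iff Φᶜ _).1 ⟨a, rfl⟩
  exact Finset.disjoint_of_subset_left (by simpa using h1)
    (Finset.disjoint_of_subset_right (mem_altOn.1 hb).1 disjoint_compl_left)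

theorem b_conj_sub {s : Finset Ω} {σ : Perm Ω} (h : ∀ x, σ x ∈ s ↔ x ∈ s) (a : Perm s) :
    σ * Perm.ofSubtype a * σ⁻¹ =
      Perm.ofSubtype (σ.subtypePerm h * a * (σ.subtypePerm h)⁻¹ : Perm s) := by
  rw [mul_inv_eq_iff_eq_mul]
  ext x
  by_cases hx : x ∈ s
  · rw [Perm.mul_apply, Perm.mul_apply, ofSubtype_apply_of_mem _ hx,
      ofSubtype_apply_of_mem _ ((h x).2 hx)]
    have : (σ.subtypePerm h)⁻¹ ⟨σ x, (h x).2 hx⟩ = ⟨x, hx⟩ := by
      rw [Perm.inv_eq_iff_eq]; rfl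
    rw [Perm.mul_apply, Perm.mul_apply, this]; rfl
  · rw [Perm.mul_apply, Perm.mul_apply, ofSubtype_apply_of_not_mem _ hx,
      ofSubtype_apply_of_not_mem _ (fun e => hx ((h x).1 e))]

theorem b_restrict (F : Fr ι t) {Φ : Finset Ω} (h3 : 3 ≤ Φ.card) (h5 : 5 ≤ Φᶜ.card) :
    ∃ (ι' : alternatingGroup (Φᶜ : Finset Ω) →* HC ι Φ) (t' : HC ι Φ), (t' : G) = t ∧ Fr ι' t' ∧
      (∀ a, (ι' a : G) = ι (alternatingGroup.ofSubtype Φᶜ a)) ∧
      ∀ s σ, Ty ι' t' s σ → Ty ι t s (Perm.ofSubtype σ) := by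
  have c5 : 5 ≤ Fintype.card Ω := h5.trans (Finset.card_le_univ _)
  have c5' : 5 ≤ Fintype.card (Φᶜ : Finset Ω) := by rwa [Fintype.card_coe]
  let ι' : alternatingGroup (Φᶜ : Finset Ω) →* HC ι Φ :=
    (ι.comp (alternatingGroup.ofSubtype Φᶜ)).codRestrict _ (b_of_mem Φ)
  have hι : ∀ a, (ι' a : G) = ι (alternatingGroup.ofSubtype Φᶜ a) := fun _ => rfl
  let t' : HC ι Φ := ⟨t, b_mem_HC.2 fun a _ => F.tC a⟩
  have inj : Function.Injective ι' := fun a b e =>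
    alternatingGroup.ofSubtype_injective (F.inj (by rw [← hι, ← hι, e]))
  have pres : ∀ (g : HC ι Φ) σ, Act ι g σ → ∀ x, σ x ∈ Φᶜ ↔ x ∈ Φᶜ := fun g σ h x => by
    rw [Finset.mem_compl, Finset.mem_compl, not_iff_not]
    refine ⟨fun e => ?_, fun e => (b_cen h3 (b_act_cen F.inj g.2 h) e).1⟩
    simpa using (b_cen h3 (b_act_cen F.inj (inv_mem g.2) h.inv) e).1
  have act : ∀ (g : HC ι Φ) σ (h : Act ι g σ), Act ι' g (σ.subtypePerm (pres g σ h)) :=
    fun g σ h a => Subtype.ext (by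
      rw [hι]
      exact h.eq (a := alternatingGroup.ofSubtype Φᶜ a) (b_conj_sub (pres g σ h) a))
  have cm : ∀ g : HC ι Φ, Commute g t' → Commute (g : G) t := fun g h => h.map (HC ι Φ).subtype
  refine ⟨ι', t', rfl, ⟨⟨inj, Subtype.ext F.t2, fun e => F.t1 (congrArg Subtype.val e),
    fun a => Subtype.ext (F.tC _).eq, fun g hg => ?_⟩, fun c h1 h2 h4 => ?_⟩, hι, fun s σ h => ?_⟩
  · obtain ⟨σ, h⟩ := F.aut _ (cm g hg)
    exact ⟨_, act g σ h⟩
  · obtain ⟨σ, h⟩ := F.aut _ (cm c h2)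
    obtain ⟨k, e⟩ := b_tw_iff.1 h4
    have e' : (c : G) ^ 2 ^ k = 1 := by simpa using congrArg Subtype.val e
    have e2 : σ ^ 2 ^ k = 1 := (h.pow (2 ^ k)).unique F.inj c5 (e' ▸ Act.one)
    have e1 : σ.subtypePerm (pres c σ h) = 1 :=
      (act c σ h).unique inj c5' (Act.one_iff.2 (mem_KK.2 h1))
    have e3 : σ ^ 3 = 1 := by
      ext x
      by_cases hx : x ∈ Φ
      · exact (b_cen h3 (b_act_cen F.inj c.2 h) hx).2
      · have : σ x = x := congrArg Subtype.val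
          (congrArg (fun p : Perm (Φᶜ : Finset Ω) => p ⟨x, Finset.mem_compl.2 hx⟩) e1)
        simp [pow_succ, this]
    obtain rfl : σ = 1 := by
      have := pow_gcd_eq_one.2 ⟨e2, e3⟩
      rwa [Nat.Coprime.gcd_eq_one (Nat.Coprime.pow_left k (by decide)), pow_one] at this
    exact (F.two c (mem_KK.1 (Act.one_iff.1 h)) (cm c h2) (b_tw_iff.2 ⟨k, e'⟩)).imp
      Subtype.ext Subtype.ext
  · refine ⟨(HC ι Φ).subtype.map_isConj h.cj, cm s h.cm, ?_⟩
    obtain ⟨τ, hτ⟩ := F.aut _ (cm s h.cm)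
    obtain rfl := (act s τ hτ).unique inj c5' h.ac
    have s2 : (s : G) * s = 1 := by
      obtain ⟨g, e⟩ := isConj_iff.1 h.cj
      have e' : (g : G) * t * (g : G)⁻¹ = s := congrArg Subtype.val e
      rw [← e', conj_mul, F.t2]; simp
    have e2 : τ * τ = 1 := (hτ.mul hτ).unique F.inj c5 (s2 ▸ Act.one)
    rwa [ofSubtype_subtypePerm]
    intro x hx
    refine Finset.mem_compl.2 fun m => hx ?_
    have := (b_cen h3 (b_act_cen F.inj s.2 hτ) m).2
    rwa [pow_succ, pow_two, e2, one_mul] at this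

end CfsgLib.ANX
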