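import Cfsg.Agent.Lib.ANX.TDefs

/-! ANX part T, package TPA: pure permutation lemmas.
Tools: `op_new` (a point outside a list), `op_cs op_sw op_c2` (Lib/ANX/OPerm), `SymAm.sw_comm/sw_disj`. -/

set_option autoImplicit false
set_option linter.unusedSectionVars false

namespace CfsgLib.ANX.T

open Subgroup Equiv Equiv.Perm Cfsg CfsgLib.Tech CfsgLib.Alt4

variable {Ω : Type} [Fintype Ω] [DecidableEq Ω] {G : Type*} [Group G] [Finite G]

theorem tpa_odd {σ : Perm Ω} (ho : Odd (orderOf σ)) {x : Ω} (h : σ (σ (σ (σ x))) = x) :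
    σ x = x := by
  have h4 : (σ ^ 4) x = x := by simpa [pow_succ] using h
  have hm : σ ∈ zpowers (σ ^ 4) :=
    mem_zpowers_pow_iff.2 (Nat.Coprime.pow_left 2 (Nat.coprime_two_left.2 ho))
  obtain ⟨k, hk⟩ := mem_zpowers_iff.1 hm
  have := zpow_apply_eq_self_of_apply_eq_self h4 k
  rwa [hk] at this

/-- `σ` permutes `{a,b}`, so `σ² ` fixes `a, b`; odd order. -/
theorem fix_of_odd_swap {σ : Perm Ω} {a b : Ω} (ab : a ≠ b) (ho : Odd (orderOf σ))
    (hc : Commute σ (swap a b)) : Fix [a, b] σ := by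
  have e : σ b = swap a b (σ a) := by
    have := congrArg (fun f : Perm Ω => f a) hc.eq
    simpa using this
  have ha : σ a = a := by
    by_contra h1
    by_cases h2 : σ a = b
    · rw [h2, swap_apply_right] at e
      exact h1 (tpa_odd ho (by rw [h2, e, h2, e]))
    · rw [swap_apply_of_ne_of_ne h1 h2] at e
      exact ab (σ.injective e).symm
  rw [ha, swap_apply_left] at e
  intro p hp
  simp only [List.mem_cons, List.not_mem_nil, or_false] at hp
  rcases hp with rfl | rfl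
  exacts [ha, e]

theorem tpa_rt {σ τ : Perm Ω} {a b c d : Ω} (h : D4 a b c d) (ho : Odd (orderOf σ))
    (ta : τ a = b) (tb : τ b = a) (tc : τ c = d) (td : τ d = c)
    (t0 : ∀ x, x ≠ a → x ≠ b → x ≠ c → x ≠ d → τ x = x) (hc : ∀ x, σ (τ x) = τ (σ x)) :
    σ a = a := by
  have mem : ∀ x, τ x ≠ x → σ x = a ∨ σ x = b ∨ σ x = c ∨ σ x = d := fun x hx => by
    by_contra k
    simp only [not_or] at k
    exact hx (σ.injective (by rw [hc, t0 _ k.1 k.2.1 k.2.2.1 k.2.2.2]))
  have eb : σ b = τ (σ a) := by rw [← hc, ta]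
  have ed : σ d = τ (σ c) := by rw [← hc, tc]
  have n1 : σ a ≠ σ c := fun e => h.ac (σ.injective e)
  have n2 : σ b ≠ σ c := fun e => h.bc (σ.injective e)
  refine tpa_odd ho ?_
  rcases mem a (by rw [ta]; exact h.ab.symm) with e | e | e | e
  · rw [e, e, e, e]
  · rw [e, tb] at eb
    rw [e, eb, e, eb]
  · rw [e, tc] at eb
    rcases mem c (by rw [tc]; exact h.cd.symm) with f | f | f | f
    · rw [e, f, e, f]
    · rw [f, tb] at ed
      rw [e, f, eb, ed]
    · exact absurd (e.trans f.symm) n1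
    · exact absurd (eb.trans f.symm) n2
  · rw [e, td] at eb
    rcases mem c (by rw [tc]; exact h.cd.symm) with f | f | f | f
    · rw [f, ta] at ed
      rw [e, ed, eb, f]
    · rw [f, tb] at ed
      rw [e, ed, e, ed]
    · exact absurd (eb.trans f.symm) n2
    · exact absurd (e.trans f.symm) n1

/-- `σ` permutes the support and commutes with the involution, so `σ⁴` fixes it pointwise
(cases on `σ a`, `σ c`); odd order. -/
theorem fix_of_odd_rt {σ : Perm Ω} {a b c d : Ω} (h : D4 a b c d) (ho : Odd (orderOf σ))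
    (hc : Commute σ (swap a b * swap c d)) : Fix [a, b, c, d] σ := by
  obtain ⟨τ, hτ⟩ : ∃ τ, τ = swap a b * swap c d := ⟨_, rfl⟩
  have ta : τ a = b := by
    rw [hτ, Perm.mul_apply, swap_apply_of_ne_of_ne h.ac h.ad, swap_apply_left]
  have tb : τ b = a := by
    rw [hτ, Perm.mul_apply, swap_apply_of_ne_of_ne h.bc h.bd, swap_apply_right]
  have tc : τ c = d := by
    rw [hτ, Perm.mul_apply, swap_apply_left, swap_apply_of_ne_of_ne h.ad.symm h.bd.symm]
  have td : τ d = c := by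
    rw [hτ, Perm.mul_apply, swap_apply_right, swap_apply_of_ne_of_ne h.ac.symm h.bc.symm]
  have t0 : ∀ x, x ≠ a → x ≠ b → x ≠ c → x ≠ d → τ x = x := fun x h1 h2 h3 h4 => by
    rw [hτ, Perm.mul_apply, swap_apply_of_ne_of_ne h3 h4, swap_apply_of_ne_of_ne h1 h2]
  rw [← hτ] at hc
  have cm : ∀ x, σ (τ x) = τ (σ x) := fun x => congrArg (fun f : Perm Ω => f x) hc.eq
  have ha := tpa_rt h ho ta tb tc td t0 cm
  have hc' := tpa_rt ⟨h.cd, h.ac.symm, h.bc.symm, h.ad.symm, h.bd.symm, h.ab⟩ ho tc td ta tb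
    (fun x h1 h2 h3 h4 => t0 x h3 h4 h1 h2) cm
  intro p hp
  simp only [List.mem_cons, List.not_mem_nil, or_false] at hp
  rcases hp with rfl | rfl | rfl | rfl
  · exact ha
  · rw [← ta, cm, ha]
  · exact hc'
  · rw [← tc, cm, hc']

theorem tpa_fix_swap {l : List Ω} {u v : Ω} (hu : u ∉ l) (hv : v ∉ l) : Fix l (swap u v) :=
  fun _ hp => swap_apply_of_ne_of_ne (fun e => hu (e ▸ hp)) (fun e => hv (e ▸ hp))

theorem tpa_fix_mul {l : List Ω} {σ τ : Perm Ω} (h1 : Fix l σ) (h2 : Fix l τ) : Fix l (σ * τ) :=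
  fun p hp => by rw [Perm.mul_apply, h2 p hp, h1 p hp]

theorem tpa_even {a b c d : Ω} (h1 : a ≠ b) (h2 : c ≠ d) : sign (swap a b * swap c d) = 1 :=
  mem_alternatingGroup.1 (op_even h1 h2)

/-- A permutation commuting with all even permutations that fix `l` fixes the points outside
`l` (3-cycles `(p q r)` with `p, q, r ∉ l`, `σ p ∉ {p,q,r}`; `σ` fixes... compare values at `σ p`). -/
theorem fix_of_cent {l : List Ω} (hl : l.length + 4 ≤ Fintype.card Ω) {σ : Perm Ω}
    (h : ∀ κ : Perm Ω, Fix l κ → sign κ = 1 → Commute σ κ) {p : Ω} (hp : p ∉ l) : σ p = p := by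
  by_contra hs
  obtain ⟨q, hq⟩ := op_new (σ p :: p :: l) (by simp; omega)
  obtain ⟨r, hr⟩ := op_new (q :: σ p :: p :: l) (by simp; omega)
  simp only [List.mem_cons, not_or] at hq hr
  have e := congrArg (fun f : Perm Ω => f p) (h (swap p q * swap p r)
    (tpa_fix_mul (tpa_fix_swap hp hq.2.2) (tpa_fix_swap hp hr.2.2.2))
    (tpa_even (Ne.symm hq.2.1) (Ne.symm hr.2.2.1))).eq
  simp only [Perm.mul_apply] at e
  rw [swap_apply_left, swap_apply_of_ne_of_ne hr.2.2.1 hr.1,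
    swap_apply_of_ne_of_ne hs (Ne.symm hr.2.1), swap_apply_of_ne_of_ne hs (Ne.symm hq.1)] at e
  exact hr.2.2.1 (σ.injective e)

theorem tpa_lift {l : List Ω} {κ : Perm Ω} (hf : Fix l κ) (hs : sign κ = 1) :
    ∃ k : alternatingGroup {x // x ∉ l}, ofSubtype (k : Perm {x // x ∉ l}) = κ := by
  have h1 : ∀ x, κ x ∉ l ↔ x ∉ l := fun x => not_congr
    ⟨fun h => κ.injective (hf _ h) ▸ h, fun h => (hf x h).symm ▸ h⟩
  have h2 : ∀ x, κ x ≠ x → x ∉ l := fun x hx h => hx (hf x h)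
  have e := ofSubtype_subtypePerm h1 h2
  refine ⟨⟨κ.subtypePerm h1, ?_⟩, e⟩
  rw [mem_alternatingGroup, ← sign_ofSubtype, e, hs]

/-- A group of odd order fixing `l` pointwise and normalised by the alternating group on the
complement is trivial (comap along `ofSubtype`, elements of odd order are even,
`alternatingGroup.isSimpleGroup`, the alternating group has even order). -/
theorem eq_bot_of_norm {l : List Ω} (hl : l.length + 5 ≤ Fintype.card Ω) {U : Subgroup (Perm Ω)}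
    (ho : ∀ σ ∈ U, Odd (orderOf σ)) (hf : ∀ σ ∈ U, Fix l σ)
    (hn : ∀ κ : Perm Ω, Fix l κ → sign κ = 1 → ∀ σ ∈ U, κ * σ * κ⁻¹ ∈ U) : U = ⊥ := by
  have h5 : 5 ≤ Nat.card {x // x ∉ l} := by
    rw [Nat.card_eq_fintype_card, Fintype.card_subtype_compl]
    have : Fintype.card {x // x ∈ l} ≤ l.length := by
      rw [Fintype.card_subtype]
      refine le_trans (Finset.card_le_card fun x hx => ?_) (List.toFinset_card_le l)
      simpa using hx
    omega
  have := alternatingGroup.isSimpleGroup h5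
  let f : alternatingGroup {x // x ∉ l} →* Perm Ω := ofSubtype.comp (Subgroup.subtype _)
  have fe : ∀ k, f k = ofSubtype (k : Perm {x // x ∉ l}) := fun _ => rfl
  have nn : (U.comap f).Normal := ⟨fun z hz k => by
    rw [mem_comap, map_mul, map_mul, map_inv]
    refine hn _ (fun p hp => ?_) ?_ _ hz
    · rw [fe]; exact ofSubtype_apply_of_not_mem _ (not_not.2 hp)
    · rw [fe, sign_ofSubtype]; exact mem_alternatingGroup.1 k.2⟩
  rcases nn.eq_bot_or_eq_top with e | e
  · rw [eq_bot_iff]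
    intro σ hσ
    have hs : sign σ = 1 := by
      obtain ⟨n, hn⟩ := ho σ hσ
      have := congrArg sign (pow_orderOf_eq_one σ)
      rwa [hn, map_pow, pow_succ, pow_mul, Int.units_sq, one_pow, one_mul, map_one] at this
    obtain ⟨k, rfl⟩ := tpa_lift (hf σ hσ) hs
    have : k ∈ U.comap f := hσ
    rw [e, mem_bot] at this
    rw [this]
    simp
  · exfalso
    obtain ⟨a, ha⟩ := op_new l (by omega)
    obtain ⟨b, hb⟩ := op_new (a :: l) (by simp; omega)
    obtain ⟨c, hc⟩ := op_new (b :: a :: l) (by simp; omega)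
    obtain ⟨d, hd⟩ := op_new (c :: b :: a :: l) (by simp; omega)
    simp only [List.mem_cons, not_or] at hb hc hd
    obtain ⟨k, hk⟩ := tpa_lift (tpa_fix_mul (tpa_fix_swap ha hb.2) (tpa_fix_swap hc.2.2 hd.2.2.2))
      (tpa_even (Ne.symm hb.1) (Ne.symm hd.1))
    have hU : f k ∈ U := by rw [← mem_comap, e]; trivial
    rw [fe, hk] at hU
    have e1 := eq_one_of_odd (ho _ hU) (op_sq (swap_mul_self _ _) (swap_mul_self _ _)
      (op_sw (Ne.symm hc.2.1) (Ne.symm hd.2.2.1) (Ne.symm hc.1) (Ne.symm hd.2.1)))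
    have e2 := congrArg (fun g : Perm Ω => g a) e1
    simp only [Perm.mul_apply, Perm.one_apply] at e2
    rw [swap_apply_of_ne_of_ne (Ne.symm hc.2.1) (Ne.symm hd.2.2.1), swap_apply_left] at e2
    exact hb.1 e2

theorem tpa_step0 (κ : Perm Ω) (x y : Ω) : (swap (κ x) y * κ) x = y := by
  rw [Perm.mul_apply, swap_apply_left]

theorem tpa_step {κ : Perm Ω} {x y u v : Ω} (h : κ u = v) (ux : u ≠ x) (vy : v ≠ y) :
    (swap (κ x) y * κ) u = v := by
  rw [Perm.mul_apply, h, swap_apply_of_ne_of_ne (fun e => ux (κ.injective (h.trans e))) vy]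

/-- an even permutation fixing `l` moves any ordered pair outside `l` to any other -/
theorem exists_even_two {l : List Ω} (hl : l.length + 4 ≤ Fintype.card Ω) {a b c d : Ω}
    (ab : a ≠ b) (cd : c ≠ d) (ha : a ∉ l) (hb : b ∉ l) (hc : c ∉ l) (hd : d ∉ l) :
    ∃ κ : Perm Ω, Fix l κ ∧ sign κ = 1 ∧ κ a = c ∧ κ b = d := by
  have f1 := tpa_fix_swap ha hc
  have hb' : swap a c b ∉ l := fun h => hb ((swap a c).injective (f1 _ h) ▸ h)
  have f2 := tpa_fix_mul (tpa_fix_swap hb' hd) f1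
  have e1 := tpa_step (swap_apply_left a c) ab cd
  have e2 := tpa_step0 (swap a c) b d
  generalize swap (swap a c b) d * swap a c = κ at f2 e1 e2
  rcases Int.units_eq_one_or (sign κ) with s | s
  · exact ⟨κ, f2, s, e1, e2⟩
  obtain ⟨u, hu⟩ := op_new (a :: b :: l) (by simp; omega)
  obtain ⟨v, hv⟩ := op_new (u :: a :: b :: l) (by simp; omega)
  simp only [List.mem_cons, not_or] at hu hv
  refine ⟨κ * swap u v, tpa_fix_mul f2 (tpa_fix_swap hu.2.2 hv.2.2.2), ?_, ?_, ?_⟩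
  · rw [Perm.sign_mul, s, sign_swap (Ne.symm hv.1)]; rfl
  · rw [Perm.mul_apply, swap_apply_of_ne_of_ne (Ne.symm hu.1) (Ne.symm hv.2.1), e1]
  · rw [Perm.mul_apply, swap_apply_of_ne_of_ne (Ne.symm hu.2.1) (Ne.symm hv.2.2.1), e2]

/-- `swap a b` and the even permutations fixing `a,b` or fixing `c,d` generate everything
(all swaps `x y` with `x,y ∉ {a,b}`... : `swap a b * swap x y` fixes `c,d`; conjugate; `top_of_star`). -/
theorem top_of_alt (h7 : 7 ≤ Fintype.card Ω) {a b c d : Ω} (h : D4 a b c d) {E : Subgroup (Perm Ω)}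
    (h0 : swap a b ∈ E) (h1 : ∀ σ : Perm Ω, Fix [a, b] σ → sign σ = 1 → σ ∈ E)
    (h2 : ∀ σ : Perm Ω, Fix [c, d] σ → sign σ = 1 → σ ∈ E) : E = ⊤ := by
  have k1 : ∀ i, i ≠ a → i ≠ c → i ≠ d → swap a i ∈ E := fun i ia ic id => by
    obtain ⟨κ, f, s, e1, e2⟩ := exists_even_two (l := [c, d]) (by simp; omega) h.ab ia.symm
      (by simp [h.ac, h.ad]) (by simp [h.bc, h.bd]) (by simp [h.ac, h.ad]) (by simp [ic, id])
    rw [← op_cs κ (.inl ⟨e1, e2⟩)]
    exact mul_mem (mul_mem (h2 κ f s) h0) (inv_mem (h2 κ f s))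
  obtain ⟨u, hu⟩ := op_new [a, b, c, d] (by simp; omega)
  simp only [List.mem_cons, List.not_mem_nil, or_false, not_or] at hu
  have k2 : ∀ i, i ≠ a → i ≠ b → i ≠ u → swap a i ∈ E := fun i ia ib iu => by
    obtain ⟨κ, f, s, e1, -⟩ := exists_even_two (l := [a, b]) (by simp; omega) iu.symm iu
      (by simp [hu.1, hu.2.1]) (by simp [ia, ib]) (by simp [ia, ib]) (by simp [hu.1, hu.2.1])
    rw [← op_cs κ (.inl ⟨f a (by simp), e1⟩)]
    exact mul_mem (mul_mem (h1 κ f s) (k1 u hu.1 hu.2.2.1 hu.2.2.2)) (inv_mem (h1 κ f s))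
  refine top_of_star (o := a) fun i ia => ?_
  by_cases ic : i = c
  · exact k2 i ia (ic ▸ h.bc.symm) (ic ▸ Ne.symm hu.2.2.1)
  by_cases id : i = d
  · exact k2 i ia (id ▸ h.bd.symm) (id ▸ Ne.symm hu.2.2.2)
  exact k1 i ia ic id

theorem exists_four_map {a b c d a' b' c' d' : Ω} (h : D4 a b c d) (h' : D4 a' b' c' d') :
    ∃ κ : Perm Ω, κ a = a' ∧ κ b = b' ∧ κ c = c' ∧ κ d = d' :=
  ⟨_, tpa_step (tpa_step (tpa_step (swap_apply_left a a') h.ab h'.ab) h.ac h'.ac) h.ad h'.ad,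
    tpa_step (tpa_step (tpa_step0 _ b b') h.bc h'.bc) h.bd h'.bd,
    tpa_step (tpa_step0 _ c c') h.cd h'.cd, tpa_step0 _ d d'⟩

end CfsgLib.ANX.T
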