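import Cfsg.Agent.Lib.ANX.Defs

/-! ANX part B: perfect subgroups of `C(t)`, the alternating group on the fixed points. -/

set_option autoImplicit false
set_option linter.unusedSectionVars false
set_option linter.unusedVariables false

namespace CfsgLib.ANX

open Subgroup Equiv Equiv.Perm Cfsg CfsgLib.Tech CfsgLib.Alt4 CfsgLib.AltSyl CfsgLib.NatSyl

universe u

variable {Ω : Type} [Fintype Ω] [DecidableEq Ω] {G : Type u} [Group G] [Finite G]
  {ι : alternatingGroup Ω →* G} {t : G} {K : Subgroup G}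

theorem bci_triv {X H : Type*} [Group X] [Group H] [Group.IsSolvable H] (hp : commutator X = ⊤) (f : X →* H) (x : X) :
    f x = 1 := by
  by_contra h
  have h1 : f.range ≠ ⊥ := fun e => h (mem_bot.1 (e ▸ ⟨x, rfl⟩))
  have h2 : ⁅f.range, f.range⁆ = f.range := by
    rw [MonoidHom.range_eq_map, ← map_commutator, ← commutator_def, hp]
  exact (Group.IsSolvable.commutator_lt_of_ne_bot h1).ne h2

theorem Fr.bci_solv (F : Fr ι t) : Group.IsSolvable (KK ι ⊓ centralizer {t} : Subgroup G) := by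
  set C : Subgroup G := KK ι ⊓ centralizer {t}
  have mc : ∀ c : C, CL ι c ∧ Commute (c : G) t := fun c =>
    ⟨mem_KK.1 c.2.1, (c.2.2 t rfl).symm⟩
  let t' : C := ⟨t, mem_KK.2 F.tC, fun _ e => e ▸ rfl⟩
  have hZ : zpowers t' ≤ center C := zpowers_le.2 (mem_center_iff.2 fun g => Subtype.ext (mc g).2.eq)
  have : (zpowers t').Normal := ⟨fun x hx g => by rwa [mem_center_iff.1 (hZ hx) g, mul_inv_cancel_right]⟩
  refine (Group.isSolvable_iff_subgroup_quotient (zpowers t')).2 ⟨inferInstance, FT.odd_order_solvable ?_⟩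
  by_contra h
  rw [Nat.not_odd_iff_even, even_iff_two_dvd] at h
  obtain ⟨y, hy⟩ := exists_prime_orderOf_dvd_card' (G := C ⧸ zpowers t') 2 h
  obtain ⟨c, rfl⟩ := QuotientGroup.mk_surjective y
  have h1 : c ^ 2 ∈ zpowers t' := by
    rw [← QuotientGroup.eq_one_iff, QuotientGroup.mk_pow, ← hy, pow_orderOf_eq_one]
  have h2 : IsPGroup 2 (zpowers t') := isPGroup_zpowers_of_pow (k := 1) (Subtype.ext (by simpa [sq] using F.t2))
  obtain ⟨k, hk⟩ := isPGroup_iff_mem.1 h2 _ h1
  rw [← pow_mul, ← pow_succ'] at hk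
  have h3 : c ∈ zpowers t' := by
    rcases F.two c (mc c).1 (mc c).2 (isPGroup_zpowers_of_pow (congrArg Subtype.val hk)) with e | e
    · rw [show c = 1 from Subtype.ext e]; exact one_mem _
    · rw [show c = t' from Subtype.ext e]; exact mem_zpowers _
  rw [(QuotientGroup.eq_one_iff c).2 h3, orderOf_one] at hy
  omega

/-- perfect subgroups of `C(t)` lie in `L` -/
theorem Fr.b_perf_le (F : Fr ι t) (h5 : 5 ≤ Fintype.card Ω) {X : Subgroup G} (hX : X ≤ ⁅X, X⁆)
    (h : ∀ x ∈ X, Commute x t) : X ≤ ι.range := by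
  have hp : commutator X = ⊤ := map_injective X.subtype_injective (by
    rw [map_subtype_commutator, ← MonoidHom.range_eq_map, range_subtype]
    exact le_antisymm (map_subtype_commutator X ▸ map_subtype_le _) hX)
  choose σ hσ using fun x : X => F.aut x (h x x.2)
  let π : X →* Perm Ω := MonoidHom.mk' σ fun x y => (hσ (x * y)).unique F.inj h5 ((hσ x).mul (hσ y))
  let a : X →* alternatingGroup Ω := π.codRestrict _ fun x => bci_triv hp (sign.comp π) x
  have hc : ∀ x : X, (ι (a x))⁻¹ * x ∈ KK ι := fun x => Act.one_iff.1 (by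
    have := (Act.self (α := ι) (a x)).inv.mul (hσ x)
    rwa [show ((a x : Perm Ω))⁻¹ * σ x = 1 from inv_mul_cancel _] at this)
  have := F.bci_solv
  let f : X →* (KK ι ⊓ centralizer {t} : Subgroup G) := MonoidHom.mk'
    (fun x => ⟨(ι (a x))⁻¹ * x, hc x, fun _ e => e ▸ ((F.tC _).inv_right.mul_right (h x x.2).symm).eq⟩) fun x y =>
      Subtype.ext (by
        change (ι (a (x * y)))⁻¹ * (x * y : G) = (ι (a x))⁻¹ * x * ((ι (a y))⁻¹ * y)
        rw [map_mul, map_mul, mul_inv_rev, ← mul_assoc _ (ι (a y))⁻¹, (mem_KK.1 (hc x) (a y)).inv_right.eq]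
        simp only [mul_assoc])
  exact fun x hx => ⟨a ⟨x, hx⟩, inv_mul_eq_one.1 (congrArg Subtype.val (bci_triv hp f ⟨x, hx⟩))⟩

theorem bci_iA (ι : alternatingGroup Ω →* G) (Φ : Finset Ω) :
    iA ι Φ = (ι.comp (alternatingGroup.ofSubtype Φ)).range := by
  rw [MonoidHom.range_comp, iA]
  congr 1
  ext a
  rw [mem_subgroupOf, mem_altOn, alternatingGroup.mem_range_ofSubtype_iff]
  exact and_iff_left a.2

theorem bci_mem {Φ : Finset Ω} {x : G} : x ∈ iA ι Φ ↔ ∃ a : alternatingGroup Ω, (a : Perm Ω).support ⊆ Φ ∧ ι a = x :=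
  exists_congr fun a => and_congr_left' (mem_altOn.trans (and_iff_left a.2))

theorem bci_card (hi : Function.Injective ι) (Φ : Finset Ω) : Nat.card (iA ι Φ) = Nat.card (alternatingGroup Φ) := by
  rw [bci_iA]
  have : Function.Injective (ι.comp (alternatingGroup.ofSubtype Φ)) :=
    hi.comp (alternatingGroup.ofSubtype_injective (s := Φ))
  exact (Nat.card_congr (MonoidHom.ofInjective this).toEquiv).symm

/-- the permutations moving every point inside its `σ`-orbit -/
def bciT (σ : Perm Ω) (h : σ * σ = 1) : Subgroup (Perm Ω) where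
  carrier := {ρ | ∀ x, ρ x = x ∨ ρ x = σ x}
  one_mem' := fun _ => .inl rfl
  mul_mem' := fun {a b} ha hb x => by
    have e : σ (σ x) = x := congrArg (fun f : Perm Ω => f x) h
    rw [Perm.mul_apply]
    rcases hb x with h1 | h1 <;> rw [h1]
    · exact ha x
    · exact (ha (σ x)).symm.imp (fun h2 => h2.trans e) id
  inv_mem' := fun {a} ha x => by
    have e : σ (σ (a⁻¹ x)) = a⁻¹ x := congrArg (fun f : Perm Ω => f (a⁻¹ x)) h
    refine (ha (a⁻¹ x)).imp (fun h1 => ?_) fun h1 => ?_
    · rw [← h1]; simp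
    · rw [← e, ← h1]; simp

theorem bciT_conj {σ : Perm Ω} {h : σ * σ = 1} {ρ b : Perm Ω} (hρ : ρ ∈ bciT σ h) (hb : Commute σ b) :
    b * ρ * b⁻¹ ∈ bciT σ h := fun x => by
  have e : σ x = b (σ (b⁻¹ x)) := by
    have := congrArg (fun f : Perm Ω => f (b⁻¹ x)) hb.eq
    simpa using this
  rcases hρ (b⁻¹ x) with h1 | h1
  · exact .inl (by rw [Perm.mul_apply, Perm.mul_apply, h1]; simp)
  · exact .inr (by rw [Perm.mul_apply, Perm.mul_apply, h1, e])

theorem bciT_sq {σ : Perm Ω} {h : σ * σ = 1} {ρ : Perm Ω} (hρ : ρ ∈ bciT σ h) : ρ * ρ = 1 := by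
  ext x
  have e : σ (σ x) = x := congrArg (fun f : Perm Ω => f x) h
  rw [Perm.mul_apply, Perm.one_apply]
  rcases hρ x with h1 | h1
  · rw [h1, h1]
  · rcases hρ (σ x) with h2 | h2
    · have := ρ.injective (h1.trans h2.symm)
      rw [h1, ← this, h1, ← this]
    · rw [h1, h2, e]

theorem bciT_swap {σ : Perm Ω} (h : σ * σ = 1) (x : Ω) : swap x (σ x) ∈ bciT σ h ∧ Commute σ (swap x (σ x)) := by
  have e : σ (σ x) = x := congrArg (fun f : Perm Ω => f x) h
  refine ⟨fun y => ?_, ?_⟩
  · by_cases h1 : y = x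
    · exact .inr (by rw [h1, swap_apply_left])
    · by_cases h2 : y = σ x
      · exact .inr (by rw [h2, swap_apply_right, e])
      · exact .inl (swap_apply_of_ne_of_ne h1 h2)
  · exact mul_inv_eq_iff_eq_mul.1 (by rw [← swap_apply_apply, e, swap_comm])

/-- an element of order three centralising the even part of `bciT σ` fixes the support of `σ` -/
theorem bci_fix {σ : Perm Ω} (h : σ * σ = 1) {b : Perm Ω} (hb : Commute σ b) (b3 : b ^ 3 = 1)
    (hc : ∀ u ∈ bciT σ h, Commute σ u → sign u = 1 → Commute u b) {x : Ω} (hx : σ x ≠ x) : b x = x := by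
  have e : ∀ y, σ (σ y) = y := fun y => congrArg (fun f : Perm Ω => f y) h
  have e3 : ∀ y, b (b (b y)) = y := fun y => by
    have := congrArg (fun f : Perm Ω => f y) b3
    simpa [pow_succ] using this
  have ec : ∀ y, σ (b y) = b (σ y) := fun y => congrArg (fun f : Perm Ω => f y) hb.eq
  have k1 : b (b x) = x → b x = x := fun k => by have := e3 x; rwa [k] at this
  by_contra hn
  have hy : σ (b x) ≠ b x := fun k => hx (b.injective ((ec x).symm.trans k))
  have n2 : b x ≠ σ x := fun k => hn (k1 (by rw [k, ← ec, k, e]))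
  have n3 : σ (b x) ≠ x := fun k => n2 (by rw [← e (b x), k])
  have n4 : σ (b x) ≠ σ x := fun k => hn (σ.injective k)
  have h1 := hc _ (mul_mem (bciT_swap h x).1 (bciT_swap h (b x)).1)
    ((bciT_swap h x).2.mul_right (bciT_swap h (b x)).2) (by simp [hx.symm, hy.symm])
  have h2 := congrArg (fun f : Perm Ω => f (b x)) h1.eq
  simp only [Perm.mul_apply, swap_apply_left, swap_apply_of_ne_of_ne n3 n4] at h2
  by_cases c1 : b (b x) = x
  · exact hn (k1 c1)
  by_cases c2 : b (b x) = σ x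
  · exact hn (by
      have := e3 (b x)
      rw [c2, ← ec, ← ec, c2, e] at this
      exact this.symm)
  have c3 : b (b x) ≠ b x := fun k => hn (b.injective k)
  have c4 : b (b x) ≠ σ (b x) := fun k => n2 (b.injective (k.trans (ec x)))
  rw [swap_apply_of_ne_of_ne c3 c4, swap_apply_of_ne_of_ne c1 c2] at h2
  exact hy (b.injective h2).symm

theorem Fr.bci_le (F : Fr ι t) {κ : alternatingGroup Ω →* G} {s : G} (F' : Fr κ s) {σ σ' : Perm Ω} (hc : Commute s t)
    (h : Act ι s σ) (h' : Act κ t σ') (h5 : 5 ≤ σ.supportᶜ.card) : iA ι σ.supportᶜ ≤ iA κ σ'.supportᶜ := by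
  set Φ := σ.supportᶜ with hΦ
  have n5 : 5 ≤ Fintype.card Ω := h5.trans (Finset.card_le_univ _)
  have m5 : 5 ≤ Nat.card Φ := by simpa using h5
  have := alternatingGroup.isSimpleGroup m5
  set j := ι.comp (alternatingGroup.ofSubtype Φ)
  have dis : ∀ a : alternatingGroup Ω, (a : Perm Ω).support ⊆ Φ → Commute σ a := fun a ha =>
    Perm.Disjoint.commute (disjoint_iff_disjoint_support.2
      (Finset.disjoint_left.2 fun x h1 h2 => Finset.mem_compl.1 (ha h2) h1))
  have sup : ∀ a, (alternatingGroup.ofSubtype Φ a : Perm Ω).support ⊆ Φ := fun a =>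
    (alternatingGroup.mem_range_ofSubtype_iff Φ _).1 ⟨a, rfl⟩
  have h1 : j.range ≤ κ.range := F'.b_perf_le n5 (by
    rw [MonoidHom.range_eq_map, ← map_commutator, ← commutator_def, commutator_alternatingGroup_eq_top m5])
    (by rintro _ ⟨a, rfl⟩; exact (h.commute (dis _ (sup a))).symm)
  choose b hb using fun a => h1 ⟨a, rfl⟩
  let β : alternatingGroup Φ →* alternatingGroup Ω := MonoidHom.mk' b fun x y => F'.inj (by
    rw [map_mul, hb, hb, hb, map_mul])
  let γ : alternatingGroup Φ →* Perm Ω := (alternatingGroup Ω).subtype.comp β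
  have γi : ∀ a, γ a = 1 → a = 1 := fun a e => alternatingGroup.ofSubtype_injective (F.inj (by
    have := hb a
    rw [show b a = 1 from Subtype.ext e, map_one] at this
    rw [map_one, map_one]; exact this.symm))
  have cγ : ∀ a, Commute σ' (γ a) := fun a => h'.commute' F'.inj (a := b a) (by rw [hb]; exact F.tC _)
  have s2 : σ' * σ' = 1 := (h'.mul h').unique F'.inj n5 (F.t2 ▸ Act.one)
  have d3 : 3 ∣ Nat.card (alternatingGroup Φ) := by
    have : Nontrivial Φ := Finite.one_lt_card_iff_nontrivial.1 (by omega)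
    refine (Nat.Coprime.dvd_mul_left (m := 2) (by norm_num)).1 ?_
    rw [two_mul_nat_card_alternatingGroup, Nat.card_perm]
    exact Nat.dvd_factorial (by norm_num) (by omega)
  have := Fact.mk Nat.prime_three
  obtain ⟨c, c3⟩ := exists_prime_orderOf_dvd_card' 3 d3
  have hM : (bciT σ' s2).comap γ = ⊥ := by
    refine (IsSimpleGroup.eq_bot_or_eq_top_of_normal _ ⟨fun m hm a => ?_⟩).resolve_right fun e => ?_
    · rw [mem_comap, map_mul, map_mul, map_inv]; exact bciT_conj hm (cγ a)
    · have h2 := bciT_sq (show γ c ∈ bciT σ' s2 from e.ge (mem_top c))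
      rw [← map_mul] at h2
      have := orderOf_dvd_of_pow_eq_one ((sq c).trans (γi _ h2))
      rw [c3] at this
      omega
  have cen : ∀ a, ∀ u ∈ bciT σ' s2, Commute σ' u → sign u = 1 → Commute u (γ a) := fun a u hu h2 h3 => by
    obtain ⟨ρ, hρ⟩ := F.aut (κ ⟨u, h3⟩) (h'.commute (a := ⟨u, h3⟩) h2).symm
    have h4 : ρ * σ = σ * ρ := (hρ.mul h).unique F.inj n5 ((F'.tC ⟨u, h3⟩).eq ▸ h.mul hρ)
    obtain ⟨a', ha'⟩ := (alternatingGroup.mem_range_ofSubtype_iff Φ
      (MulAut.conjNormal ρ (alternatingGroup.ofSubtype Φ a))).2 fun x hx => by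
        change x ∈ (ρ * (alternatingGroup.ofSubtype Φ a : Perm Ω) * ρ⁻¹).support at hx
        rw [support_conj, Finset.mem_map] at hx
        obtain ⟨y, hy, rfl⟩ := hx
        have h6 : σ y = y := notMem_support.1 (Finset.mem_compl.1 (sup a hy))
        refine Finset.mem_compl.2 (notMem_support.2 ?_)
        have := congrArg (fun f : Perm Ω => f y) h4
        simpa [h6] using this.symm
    have h5 : u * γ a * u⁻¹ = γ a' := congrArg Subtype.val (F'.inj (show κ (⟨u, h3⟩ * b a * ⟨u, h3⟩⁻¹) = κ (b a') by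
      rw [map_mul, map_mul, map_inv, hb, hb]
      exact (hρ _).trans (congrArg ι ha'.symm)))
    have h6 : a' * a⁻¹ ∈ (bciT σ' s2).comap γ := by
      rw [mem_comap, map_mul, map_inv, ← h5]
      simpa only [mul_assoc] using mul_mem hu (bciT_conj (inv_mem hu) (cγ a))
    rw [hM, mem_bot, mul_inv_eq_one] at h6
    rw [h6] at h5
    exact mul_inv_eq_iff_eq_mul.1 h5
  let N : Subgroup (alternatingGroup Φ) :=
    { carrier := {a | ∀ x, σ' x ≠ x → γ a x = x}
      one_mem' := fun x _ => by simp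
      mul_mem' := fun {a a'} k1 k2 x hx => by rw [map_mul, Perm.mul_apply, k2 x hx, k1 x hx]
      inv_mem' := fun {a} k1 x hx => by rw [map_inv, Perm.inv_eq_iff_eq, k1 x hx] }
  have hN : N = ⊤ := by
    refine (IsSimpleGroup.eq_bot_or_eq_top_of_normal _ ⟨fun m hm a x hx => ?_⟩).resolve_left fun e => ?_
    · have : γ m ((γ a)⁻¹ x) = (γ a)⁻¹ x := hm _ fun k => hx (by
        have := congrArg (fun f : Perm Ω => f ((γ a)⁻¹ x)) (cγ a).eq
        simp only [Perm.mul_apply, k] at this
        simpa using this)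
      rw [map_mul, map_mul, map_inv, Perm.mul_apply, Perm.mul_apply, this]
      simp
    · have : c ∈ N := fun x hx => bci_fix s2 (cγ c) (by rw [← map_pow, ← c3, pow_orderOf_eq_one, map_one]) (cen c) hx
      rw [e, mem_bot] at this
      rw [this, orderOf_one] at c3
      omega
  rw [bci_iA ι]
  rintro _ ⟨a, rfl⟩
  exact bci_mem.2 ⟨b a, fun x hx => Finset.mem_compl.2 fun k =>
    mem_support.1 hx ((hN.ge (mem_top a) : a ∈ N) x (mem_support.1 k)), hb a⟩

theorem bci_card_le {κ : alternatingGroup Ω →* G} (hi : Function.Injective ι) (hk : Function.Injective κ) {Φ Φ' : Finset Ω}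
    (h5 : 5 ≤ Φ.card) (h : iA ι Φ ≤ iA κ Φ') : Φ.card ≤ Φ'.card := by
  have h1 := card_le_of_le h
  rw [bci_card hi, bci_card hk] at h1
  have : Nontrivial Φ := Finite.one_lt_card_iff_nontrivial.1 (by simp; omega)
  have h2 := two_mul_nat_card_alternatingGroup (α := Φ)
  have h3 := (alternatingGroup Φ').card_le_card_group
  have e : ∀ Ψ : Finset Ω, Nat.card (Perm Ψ) = Ψ.card.factorial := fun Ψ => by rw [Nat.card_perm]; simp
  rw [e] at h2 h3
  by_contra hn
  obtain ⟨k, hk⟩ : ∃ k, Φ.card = k + 1 := ⟨Φ.card - 1, by omega⟩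
  have h4 := Nat.factorial_le (show Φ'.card ≤ k by omega)
  have h6 := Nat.factorial_pos k
  rw [hk, Nat.factorial_succ] at h2
  have : 5 * k.factorial ≤ (k + 1) * k.factorial := Nat.mul_le_mul_right _ (by omega)
  omega

theorem Fr.bci_conj (F : Fr ι t) (g : G) : Fr (cα g ι) (g * t * g⁻¹) where
  inj := (MulAut.conj g).injective.comp F.inj
  t2 := by rw [conj_mul, F.t2]; simp
  t1 := fun e => F.t1 (by simpa using e)
  tC := fun a => (F.tC a).map (MulAut.conj g).toMonoidHom
  aut := fun k hk => by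
    obtain ⟨σ, h⟩ := F.aut (g⁻¹ * k * g) (by simpa [mul_assoc] using hk.map (MulAut.conj g⁻¹).toMonoidHom)
    exact ⟨σ, by simpa [mul_assoc] using h.cα g⟩
  two := fun c h1 h2 h3 => by
    refine (F.two (g⁻¹ * c * g) (fun a => ?_) (by simpa [mul_assoc] using h2.map (MulAut.conj g⁻¹).toMonoidHom) ?_).imp
      (fun e => ?_) fun e => ?_
    · simpa [mul_assoc, cα_apply] using (h1 a).map (MulAut.conj g⁻¹).toMonoidHom
    · have := isPGroup_cj g⁻¹ h3
      rwa [cj_zpowers, inv_inv] at this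
    · simpa [mul_assoc] using congrArg (fun x => g * x * g⁻¹) e
    · rw [← e]; group

/-- CI: the alternating group on the fixed points is the same in both views -/
theorem Fr.b_ci (F : Fr ι t) {s g : G} {σ σ' : Perm Ω} (h : Ty ι t s σ) (hs : s ≠ t)
    (hg : g * t * g⁻¹ = s) (h' : Act (cα g ι) t σ') (h5 : 5 ≤ σ.supportᶜ.card) :
    σ'.support.card = σ.support.card ∧ iA ι σ.supportᶜ = iA (cα g ι) σ'.supportᶜ := by
  have F' := hg ▸ F.bci_conj g
  have h1 := F.bci_le F' h.cm h.ac h' h5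
  have h2 := bci_card_le F.inj F'.inj h5 h1
  have h3 := F'.bci_le F h.cm.symm h' h.ac (h5.trans h2)
  have h4 := bci_card_le F'.inj F.inj (h5.trans h2) h3
  refine ⟨?_, le_antisymm h1 h3⟩
  have k1 := Finset.card_add_card_compl σ.support
  have k2 := Finset.card_add_card_compl σ'.support
  omega

end CfsgLib.ANX
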