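import Cfsg.Agent.Lib.ANX.BCi
import Cfsg.Agent.Lib.ANX.OPerm

/-! PART B: conjugating `t` to `s` inside the centraliser of the alternating group on the fixed points. -/

set_option autoImplicit false
set_option linter.unusedSectionVars false

namespace CfsgLib.ANX

open Subgroup Equiv Equiv.Perm Cfsg CfsgLib.Tech CfsgLib.Alt4 CfsgLib.AltSyl CfsgLib.NatSyl

universe u

variable {Ω : Type} [Fintype Ω] [DecidableEq Ω] {G : Type u} [Group G] [Finite G]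
  {ι : alternatingGroup Ω →* G} {t : G} {K : Subgroup G}

theorem bj_mem {Φ : Finset Ω} {x : G} :
    x ∈ iA ι Φ ↔ ∃ a : alternatingGroup Ω, (a : Perm Ω).support ⊆ Φ ∧ ι a = x :=
  ⟨fun ⟨a, h, e⟩ => ⟨a, (mem_altOn.1 h).1, e⟩,
    fun ⟨a, h, e⟩ => ⟨a, mem_altOn.2 ⟨h, mem_alternatingGroup.1 a.2⟩, e⟩⟩

theorem bj_range (Φ : Finset Ω) : (ι.comp (alternatingGroup.ofSubtype Φ)).range = iA ι Φ := by
  ext x
  rw [bj_mem]
  exact ⟨fun ⟨a, e⟩ => ⟨_, (alternatingGroup.mem_range_ofSubtype_iff Φ _).1 ⟨a, rfl⟩, e⟩, fun ⟨a, h, e⟩ => by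
    obtain ⟨b, rfl⟩ := (alternatingGroup.mem_range_ofSubtype_iff Φ a).2 h
    exact ⟨b, e⟩⟩

theorem bj_conj {Φ Ψ : Finset Ω} {π : alternatingGroup Ω} (h : ∀ x ∈ Φ, (π : Perm Ω) x ∈ Ψ) {x : G}
    (hx : x ∈ iA ι Φ) : ι π * x * (ι π)⁻¹ ∈ iA ι Ψ := by
  obtain ⟨a, h1, rfl⟩ := hx
  exact ⟨π * a * π⁻¹, conj_mem_altOn h1 h, by simp⟩

theorem bj_even {Φ Ψ : Finset Ω} (h : Φ.card ≤ Ψ.card) (h2 : 2 ≤ Ψ.card) :
    ∃ π : alternatingGroup Ω, ∀ x ∈ Φ, (π : Perm Ω) x ∈ Ψ := by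
  obtain ⟨Ψ', h3, h4⟩ := Finset.exists_subset_card_eq h
  obtain ⟨π, e⟩ := Equiv.Perm.exists_map_finset_eq Φ Ψ' h4.symm
  have h5 : ∀ x ∈ Φ, π x ∈ Ψ := fun x hx => h3 (e ▸ Finset.mem_map_of_mem _ hx)
  rcases Int.units_eq_one_or (sign π) with f | f
  · exact ⟨⟨π, mem_alternatingGroup.2 f⟩, h5⟩
  · obtain ⟨p, hp, q, hq, pq⟩ := Finset.one_lt_card.1 h2
    refine ⟨⟨swap p q * π, mem_alternatingGroup.2 (by simp [f, pq])⟩, fun x hx => ?_⟩
    show swap p q (π x) ∈ Ψ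
    rw [swap_apply_def]
    split_ifs
    exacts [hq, hp, h5 x hx]

theorem bj_five {σ : Perm Ω} (h5 : 5 ≤ σ.supportᶜ.card) : 5 ≤ Fintype.card Ω :=
  h5.trans (Finset.card_le_univ _)

theorem bj_sq (F : Fr ι t) {s : G} {σ : Perm Ω} (h : Ty ι t s σ) : s * s = 1 ∧ s ≠ 1 := by
  obtain ⟨g, rfl⟩ := isConj_iff.1 h.cj
  exact ⟨by rw [conj_mul, F.t2]; simp, by simpa using F.t1⟩

/-- a conjugating element that normalises the alternating group on the fixed points -/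
theorem bj_norm (F : Fr ι t) {s : G} {σ : Perm Ω} (h : Ty ι t s σ) (hs : s ≠ t)
    (h5 : 5 ≤ σ.supportᶜ.card) :
    ∃ g, g * t * g⁻¹ = s ∧ g ∈ normalizer (iA ι σ.supportᶜ : Set G) := by
  obtain ⟨g, hg⟩ := isConj_iff.1 h.cj
  obtain ⟨σ', h1⟩ := F.aut (g⁻¹ * t * g) (by
    have := (h.cm.symm.map (MulAut.conj g⁻¹))
    simpa [← hg, mul_assoc] using this)
  have h2 : Act (cα g ι) t σ' := by simpa [mul_assoc] using h1.cα g
  obtain ⟨h3, h4⟩ := F.b_ci h hs hg h2 h5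
  obtain ⟨π, h6⟩ := bj_even (Φ := σ.supportᶜ) (Ψ := σ'.supportᶜ) (by
    rw [Finset.card_compl, Finset.card_compl, h3]) (by
    rw [Finset.card_compl, h3, ← Finset.card_compl]; omega)
  refine ⟨g * ι π, ?_, mem_normalizer_of_forall fun x hx => ?_⟩
  · rw [← hg, mul_assoc g, ← (F.tC π).eq]; group
  · obtain ⟨a, h7, e⟩ := bj_mem.1 (bj_conj h6 hx)
    rw [h4]
    exact bj_mem.2 ⟨a, h7, by rw [cα_apply, e]; group⟩

theorem b_cj (F : Fr ι t) {s : G} {σ : Perm Ω} (h : Ty ι t s σ) (h5 : 5 ≤ σ.supportᶜ.card)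
    (h6 : σ.supportᶜ.card ≠ 6) : ∃ g ∈ HC ι σ.supportᶜ, g * t * g⁻¹ = s := by
  by_cases hs : s = t
  · exact ⟨1, one_mem _, by simp [hs]⟩
  obtain ⟨g, hg, hn⟩ := bj_norm F h hs h5
  obtain ⟨s2, s1⟩ := bj_sq F h
  have σ1 : σ ≠ 1 := fun e => by
    have := h.ac
    rw [e, Act.one_iff, mem_KK] at this
    exact (F.two s this h.cm (UFP.pgroup_zpowers_of_sq s2)).elim s1 hs
  obtain ⟨p, hp, q, hq, pq⟩ := Finset.one_lt_card.1 (one_lt_card_support_of_ne_one σ1)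
  generalize hΦ : σ.supportᶜ = Φ at *
  have hp' : p ∉ Φ := by rw [← hΦ]; simpa using mem_support.1 hp
  have hq' : q ∉ Φ := by rw [← hΦ]; simpa using mem_support.1 hq
  have hi : Function.Injective (ι.comp (alternatingGroup.ofSubtype Φ)) :=
    F.inj.comp alternatingGroup.ofSubtype_injective
  obtain ⟨ρ, hρ⟩ := (act_or_out hi (h := g) (by rwa [bj_range])).resolve_right fun ⟨θ, h1, _⟩ =>
    h6 (by simpa using h1.six (by simpa using h5))
  obtain ⟨a, ha⟩ : ∃ a : alternatingGroup Ω, Act (ι.comp (alternatingGroup.ofSubtype Φ)) (ι a) ρ := by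
    have key : ∀ (a : alternatingGroup Ω) (τ : Perm Ω), (a : Perm Ω) = Perm.ofSubtype ρ * τ →
        (∀ b : Perm Φ, Commute τ (Perm.ofSubtype b)) →
        Act (ι.comp (alternatingGroup.ofSubtype Φ)) (ι a) ρ := fun a τ e c b => by
      rw [MonoidHom.comp_apply, MonoidHom.comp_apply, ← map_inv, ← map_mul, ← map_mul]
      refine congrArg ι (Subtype.ext ?_)
      show (a : Perm Ω) * Perm.ofSubtype (b : Perm Φ) * (a : Perm Ω)⁻¹ = Perm.ofSubtype (ρ * (b : Perm Φ) * ρ⁻¹)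
      rw [e, map_mul, map_mul, map_inv, mul_assoc _ τ, (c b).eq]
      group
    rcases Int.units_eq_one_or (sign ρ) with f | f
    · exact ⟨⟨Perm.ofSubtype ρ, mem_alternatingGroup.2 (by rw [sign_ofSubtype, f])⟩,
        key _ 1 (mul_one _).symm fun _ => Commute.one_left _⟩
    · refine ⟨⟨Perm.ofSubtype ρ * swap p q, mem_alternatingGroup.2 (by simp [sign_ofSubtype, f, pq])⟩,
        key _ (swap p q) rfl fun b => ?_⟩
      have := swap_apply_apply (Perm.ofSubtype b) p q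
      rw [ofSubtype_apply_of_not_mem _ hp', ofSubtype_apply_of_not_mem _ hq', eq_mul_inv_iff_mul_eq] at this
      exact this
  have h7 := hρ.mul ha.inv
  rw [mul_inv_cancel, Act.one_iff, KK, bj_range] at h7
  refine ⟨_, h7, ?_⟩
  rw [← hg, mul_assoc g, ← map_inv, ← (F.tC a⁻¹).eq]
  group

theorem b_nz_of (F : Fr ι t) {s : G} {σ : Perm Ω} (h : Ty ι t s σ) (h4 : 4 ≤ σ.support.card)
    (h5 : 5 ≤ σ.supportᶜ.card) {Φ : Finset Ω} (hΦ : Φ.card ≤ σ.supportᶜ.card) : NZ (HC ι Φ) t := by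
  have h0 := bj_five h5
  have hs : s ≠ t := fun e => by
    have := h.ac.unique F.inj h0 (Act.one_iff.2 (mem_KK.2 (e ▸ F.tC)))
    rw [this, support_one] at h4
    simp at h4
  obtain ⟨g, hg, hn⟩ := bj_norm F h hs h5
  obtain ⟨s2, -⟩ := bj_sq F h
  have σ2 : σ * σ = 1 := (h.ac.mul h.ac).unique F.inj h0 (s2 ▸ Act.one)
  have ap : ∀ x, σ (σ x) = x := fun x => by rw [← Perm.mul_apply, σ2, Perm.one_apply]
  obtain ⟨p, hp⟩ := Finset.card_pos.1 (show 0 < σ.support.card by omega)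
  obtain ⟨r, hr, h1⟩ : ∃ r ∈ σ.support, r ∉ ({p, σ p} : Finset Ω) :=
    Finset.exists_mem_notMem_of_card_lt_card (Finset.card_le_two.trans_lt (by omega))
  simp only [Finset.mem_insert, Finset.mem_singleton, not_or] at h1
  obtain ⟨rp, rq⟩ := h1
  have pq : σ p ≠ p := mem_support.1 hp
  have ru : σ r ≠ r := mem_support.1 hr
  have up : σ r ≠ p := fun e => rq (by rw [← e, ap])
  have uq : σ r ≠ σ p := fun e => rp (σ.injective e)
  let a : alternatingGroup Ω := ⟨swap p (σ p) * swap (σ p) r, mem_alternatingGroup.2 (by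
    simp [pq.symm, Ne.symm rq])⟩
  let b : alternatingGroup Ω := a * MulAut.conjNormal σ a⁻¹
  have eb : (b : Perm Ω) = swap p r * swap (σ p) (σ r) := by
    show swap p (σ p) * swap (σ p) r * (σ * (swap p (σ p) * swap (σ p) r)⁻¹ * σ⁻¹) = _
    rw [mul_inv_rev, swap_inv, swap_inv, ← conj_mul, ← swap_apply_apply, ← swap_apply_apply, ap, swap_comm (σ p) p]
    have := op_c2 (swap p (σ p)) (σ p) r p (σ r)
    rw [swap_inv] at this
    rw [← mul_assoc, mul_assoc (swap p (σ p)), this]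
    simp [swap_apply_of_ne_of_ne, rp, rq, up, uq]
  have e1 : ι a * s * (ι a)⁻¹ = ι b * s := by
    rw [map_mul, ← h.ac a⁻¹, map_inv]; group
  have c1 : Commute s (ι b) := h.ac.commute (by
    rw [eb, Commute, SemiconjBy, ← mul_inv_eq_iff_eq_mul, op_c2, ap, ap]
    exact (op_sw pq (Ne.symm rq) up ru).eq)
  have b1 : ι b ≠ 1 := fun e => by
    have := congrArg (fun x : alternatingGroup Ω => (x : Perm Ω) p) (F.inj (e.trans (map_one ι).symm))
    simp only [eb, Perm.mul_apply, swap_apply_of_ne_of_ne pq.symm up.symm, swap_apply_left] at this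
    exact rp this
  have a1 : ι a ∈ HC ι σ.supportᶜ := fun x hx => by
    obtain ⟨c, h1, rfl⟩ := bj_mem.1 hx
    rw [← map_mul, ← map_mul]
    refine congrArg ι (Subtype.ext (Disjoint.commute ?_).eq)
    rw [disjoint_iff_disjoint_support]
    refine Finset.disjoint_of_subset_left h1 (Finset.disjoint_of_subset_right ?_ disjoint_compl_left)
    refine (support_tc_subset p (σ p) r).trans ?_
    simp only [Finset.insert_subset_iff, Finset.singleton_subset_iff]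
    exact ⟨hp, apply_mem_support.2 hp, hr⟩
  have a2 : g⁻¹ * ι a * g ∈ HC ι σ.supportᶜ := fun x hx => by
    have := a1 _ ((mem_normalizer_iff.1 hn x).1 hx)
    calc x * (g⁻¹ * ι a * g) = g⁻¹ * (g * x * g⁻¹ * ι a) * g := by group
      _ = _ := by rw [this]; group
  obtain ⟨π, h6⟩ := bj_even hΦ (by omega)
  have e2 : (ι π)⁻¹ * (g⁻¹ * ι a * g) * ι π * t * ((ι π)⁻¹ * (g⁻¹ * ι a * g) * ι π)⁻¹ =
      (g * ι π)⁻¹ * (ι b * s) * (g * ι π) := by
    rw [← e1, ← hg, mul_assoc _ (ι π) t, ← (F.tC π).eq]; group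
  have e3 : t = (g * ι π)⁻¹ * s * (g * ι π) := by
    rw [← hg]
    calc t = (ι π)⁻¹ * (t * ι π) := by rw [(F.tC π).eq]; group
      _ = _ := by group
  refine ⟨(ι π)⁻¹ * (g⁻¹ * ι a * g) * ι π, fun x hx => ?_, ?_, ?_⟩
  · have := a2 _ (bj_conj h6 hx)
    calc x * ((ι π)⁻¹ * (g⁻¹ * ι a * g) * ι π)
        = (ι π)⁻¹ * (ι π * x * (ι π)⁻¹ * (g⁻¹ * ι a * g)) * ι π := by group
      _ = _ := by rw [this]; group
  · rw [e2]
    nth_rw 1 [e3]
    simpa [mul_assoc] using (c1.symm.mul_left (Commute.refl s)).map (MulAut.conj (g * ι π)⁻¹)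
  · rw [e2]
    nth_rw 1 [e3]
    simpa using b1

end CfsgLib.ANX
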