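import Cfsg.Agent.Lib.ANX.Defs
import Cfsg.Agent.Lib.SLE.Red
import Cfsg.Agent.Lib.SLE.NG

/-! ANX part B: `L ≤ K` and the non-isolation of `t`. -/

set_option autoImplicit false
set_option linter.unusedSectionVars false

namespace CfsgLib.ANX

open Subgroup Equiv Equiv.Perm Cfsg CfsgLib.Tech CfsgLib.Alt4 CfsgLib.AltSyl CfsgLib.NatSyl

universe u

variable {Ω : Type} [Fintype Ω] [DecidableEq Ω] {G : Type u} [Group G] [Finite G]
  {ι : alternatingGroup Ω →* G} {t : G} {K : Subgroup G}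

theorem b_range_perf (h5 : 5 ≤ Fintype.card Ω) : ι.range ≤ ⁅ι.range, ι.range⁆ := by
  have h := commutator_alternatingGroup_eq_top (α := Ω) (by rwa [Nat.card_eq_fintype_card])
  rw [MonoidHom.range_eq_map, ← map_commutator, ← commutator_def, h]

theorem b_le_K (_F : Fr ι t) (h5 : 5 ≤ Fintype.card Ω) (g : SLE.Glob K t) : ι.range ≤ K :=
  g.pf_le (b_range_perf h5)

theorem b_even (hi : Function.Injective ι) (h5 : 5 ≤ Fintype.card Ω) : Even (Nat.card ι.range) := by
  have : Nontrivial Ω := Fintype.one_lt_card_iff_nontrivial.1 (by omega)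
  have h1 := two_mul_nat_card_alternatingGroup (α := Ω)
  rw [Nat.card_perm, Nat.card_eq_fintype_card (α := Ω)] at h1
  have h2 : Nat.factorial 4 ∣ (Fintype.card Ω).factorial := Nat.factorial_dvd_factorial (by omega)
  rw [← h1, show Nat.factorial 4 = 2 * (2 * 6) by rfl] at h2
  rw [← Nat.card_congr (MonoidHom.ofInjective hi).toEquiv]
  exact even_iff_two_dvd.2 ((Dvd.intro _ rfl).trans (Nat.dvd_of_mul_dvd_mul_left two_pos h2))

/-- Z*-theorem -/
theorem b_nz (F : Fr ι t) (h5 : 5 ≤ Fintype.card Ω) (g : SLE.Glob K t) : NZ ⊤ t := by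
  obtain ⟨s, h1, h2, h3⟩ := g.exists_conj (even_iff_two_dvd.2
    ((even_iff_two_dvd.1 (b_even F.inj h5)).trans (card_dvd_of_le (b_le_K F h5 g)))) F.t2 F.t1
  obtain ⟨c, rfl⟩ := isConj_iff.1 h1
  exact ⟨c, mem_top c, h2, h3⟩

end CfsgLib.ANX
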