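import Cfsg.Agent.Lib.ANX.Defs2
import Cfsg.Agent.Lib.ANX.BNz
import Cfsg.Agent.Lib.ANX.BRes
import Cfsg.Agent.Lib.ANX.BCi
import Cfsg.Agent.Lib.ANX.BCj

set_option autoImplicit false
set_option linter.unusedSectionVars false

namespace CfsgLib.ANX

open Subgroup Equiv Equiv.Perm Cfsg CfsgLib.Tech CfsgLib.Alt4 CfsgLib.AltSyl CfsgLib.NatSyl

universe u

variable {Ω : Type} [Fintype Ω] [DecidableEq Ω] {G : Type u} [Group G] [Finite G]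
  {ι : alternatingGroup Ω →* G} {t : G} {K : Subgroup G}

/-! PART B (basic API; captain 15). Proofs: plans/ANX.md. -/

theorem Fr.conj (F : Fr ι t) (g : G) : Fr (cα g ι) (g * t * g⁻¹) :=
  b_conj F g

/-- perfect subgroups of `C(t)` lie in `L` -/
theorem Fr.perf_le (F : Fr ι t) (h5 : 5 ≤ Fintype.card Ω) {X : Subgroup G} (hX : X ≤ ⁅X, X⁆)
    (h : ∀ x ∈ X, Commute x t) : X ≤ ι.range :=
  Fr.b_perf_le F h5 hX h

/-- Z*-theorem -/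
theorem Fr.nz (F : Fr ι t) (h5 : 5 ≤ Fintype.card Ω) (g : SLE.Glob K t) : NZ ⊤ t :=
  b_nz F h5 g

theorem Fr.le_K (F : Fr ι t) (h5 : 5 ≤ Fintype.card Ω) (g : SLE.Glob K t) : ι.range ≤ K :=
  b_le_K F h5 g

/-- CI: the alternating group on the fixed points is the same in both views -/
theorem Fr.ci (F : Fr ι t) {s g : G} {σ σ' : Perm Ω} (h : Ty ι t s σ) (hs : s ≠ t)
    (hg : g * t * g⁻¹ = s) (h' : Act (cα g ι) t σ') (h5 : 5 ≤ σ.supportᶜ.card) :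
    σ'.support.card = σ.support.card ∧ iA ι σ.supportᶜ = iA (cα g ι) σ'.supportᶜ :=
  Fr.b_ci F h hs hg h' h5

/-- CJ -/
theorem Fr.cj (F : Fr ι t) {s : G} {σ : Perm Ω} (h : Ty ι t s σ) (h5 : 5 ≤ σ.supportᶜ.card)
    (h6 : σ.supportᶜ.card ≠ 6) : ∃ g ∈ HC ι σ.supportᶜ, g * t * g⁻¹ = s :=
  b_cj F h h5 h6

/-- N1a -/
theorem Fr.nz_of (F : Fr ι t) {s : G} {σ : Perm Ω} (h : Ty ι t s σ) (h4 : 4 ≤ σ.support.card)
    (h5 : 5 ≤ σ.supportᶜ.card) {Φ : Finset Ω} (hΦ : Φ.card ≤ σ.supportᶜ.card) : NZ (HC ι Φ) t :=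
  b_nz_of F h h4 h5 hΦ

/-- restriction to `C(ι Alt Φ)` -/
theorem Fr.restrict (F : Fr ι t) {Φ : Finset Ω} (h3 : 3 ≤ Φ.card) (h5 : 5 ≤ Φᶜ.card) :
    ∃ (ι' : alternatingGroup (Φᶜ : Finset Ω) →* HC ι Φ) (t' : HC ι Φ), (t' : G) = t ∧ Fr ι' t' ∧
      (∀ a, (ι' a : G) = ι (alternatingGroup.ofSubtype Φᶜ a)) ∧
      ∀ s σ, Ty ι' t' s σ → Ty ι t s (Perm.ofSubtype σ) :=
  b_restrict F h3 h5

end CfsgLib.ANX
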