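import Cfsg.Agent.Lib.ANX.Defs2

/-! Relabelling of the points. -/

set_option autoImplicit false
set_option linter.unusedSectionVars false

namespace CfsgLib.ANX

open Subgroup Equiv Equiv.Perm Cfsg CfsgLib.Tech CfsgLib.Alt4

variable {Ω Ω' : Type} [Fintype Ω] [DecidableEq Ω] [Fintype Ω'] [DecidableEq Ω'] {G : Type*}
  [Group G] [Finite G] {ι : alternatingGroup Ω →* G} {t : G}

/-- `ι` on the points `Ω'` -/
def rl (e : Ω' ≃ Ω) (ι : alternatingGroup Ω →* G) : alternatingGroup Ω' →* G :=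
  ι.comp e.altCongrHom.toMonoidHom

theorem rl_apply (e : Ω' ≃ Ω) (a : alternatingGroup Ω') : rl e ι a = ι (e.altCongrHom a) := rfl

theorem rl_cl (e : Ω' ≃ Ω) {c : G} : CL (rl e ι) c ↔ CL ι c :=
  ⟨fun h a => by simpa [rl_apply] using h (e.altCongrHom.symm a), fun h a => h _⟩

theorem rl_conj (e : Ω' ≃ Ω) (σ : Perm Ω') (a : alternatingGroup Ω') :
    e.altCongrHom (MulAut.conjNormal σ a) = MulAut.conjNormal (e.permCongr σ) (e.altCongrHom a) := by
  ext x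
  simp [Equiv.altCongrHom, Equiv.permCongr_def]

theorem rl_act (e : Ω' ≃ Ω) {g : G} {σ : Perm Ω'} : Act (rl e ι) g σ ↔ Act ι g (e.permCongr σ) :=
  ⟨fun h a => by
    have := h (e.altCongrHom.symm a)
    rwa [rl_apply, rl_apply, rl_conj, MulEquiv.apply_symm_apply] at this,
   fun h a => by rw [rl_apply, rl_apply, rl_conj]; exact h _⟩

theorem Fr.rl (F : Fr ι t) (e : Ω' ≃ Ω) : Fr (rl e ι) t :=
  ⟨⟨F.inj.comp e.altCongrHom.injective, F.t2, F.t1, (rl_cl e).2 F.tC, fun g hg => by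
    obtain ⟨σ, h⟩ := F.aut g hg
    exact ⟨e.permCongr.symm σ, (rl_act e).2 (by rwa [Equiv.apply_symm_apply])⟩⟩,
   fun c hc => F.two c ((rl_cl e).1 hc)⟩

theorem rl_J (e : Ω' ≃ Ω) {w : ℕ} (h : J (rl e ι) t w) : J ι t w := by
  obtain ⟨s, σ, ⟨h1, h2, h3⟩, h4⟩ := h
  refine ⟨s, _, ⟨h1, h2, (rl_act e).1 h3⟩, ?_⟩
  rw [← h4]
  refine (Finset.card_bij (fun x _ => e x) (fun x hx => ?_) (fun _ _ _ _ h => e.injective h)
    fun y hy => ⟨e.symm y, ?_, by simp⟩).symm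
  · simpa using hx
  · rw [mem_support] at hy ⊢
    exact fun h => hy (by simp [h])

end CfsgLib.ANX
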