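import Mathlib.GroupTheory.Perm.Support
import Mathlib.GroupTheory.Perm.Sign
import Mathlib.Data.Fin.VecNotation
import Mathlib.Tactic.FinCases

/-! Five distinct pairwise commuting transpositions of ten points are conjugate to the standard ones. -/

set_option autoImplicit false

namespace CfsgLib.ANX

open Equiv Equiv.Perm

theorem bf_disj {α : Type*} [DecidableEq α] {a b c d : α} (hab : a ≠ b) (hcd : c ≠ d)
    (h : Commute (swap a b) (swap c d) ∧ swap a b ≠ swap c d) :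
    a ≠ c ∧ a ≠ d ∧ b ≠ c ∧ b ≠ d := by
  obtain ⟨h1, h2⟩ := h
  have key : ∀ {a b c d : α}, a ≠ b → c ≠ d → Commute (swap a b) (swap c d) →
      swap a b ≠ swap c d → a ≠ c := by
    intro a b c d hab hcd h1 h2 hac
    subst hac
    have hbd : b ≠ d := by
      rintro rfl
      exact h2 rfl
    have := congrArg (fun f : Perm α => f a) h1.eq
    simp only [Perm.mul_apply, swap_apply_left] at this
    rw [swap_apply_of_ne_of_ne hcd.symm hbd.symm, swap_apply_of_ne_of_ne hab.symm hbd] at this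
    exact hbd this.symm
  refine ⟨key hab hcd h1 h2, ?_, ?_, ?_⟩
  · exact key hab hcd.symm (by rwa [swap_comm d c]) (by rwa [swap_comm d c])
  · exact key hab.symm hcd (by rwa [swap_comm b a]) (by rwa [swap_comm b a])
  · exact key hab.symm hcd.symm (by rwa [swap_comm b a, swap_comm d c])
      (by rwa [swap_comm b a, swap_comm d c])

theorem bf_five {m1 m2 m3 m4 m5 : Perm (Fin 10)} (h : ∀ m ∈ [m1, m2, m3, m4, m5], m.IsSwap)
    (hc : [m1, m2, m3, m4, m5].Pairwise fun a b => Commute a b ∧ a ≠ b) :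
    ∃ l : Perm (Fin 10), l * swap 8 9 * l⁻¹ = m1 ∧ l * swap 0 1 * l⁻¹ = m2 ∧ l * swap 2 3 * l⁻¹ = m3 ∧
      l * swap 4 5 * l⁻¹ = m4 ∧ l * swap 6 7 * l⁻¹ = m5 := by
  obtain ⟨a1, b1, n1, rfl⟩ := h m1 (by simp)
  obtain ⟨a2, b2, n2, rfl⟩ := h m2 (by simp)
  obtain ⟨a3, b3, n3, rfl⟩ := h m3 (by simp)
  obtain ⟨a4, b4, n4, rfl⟩ := h m4 (by simp)
  obtain ⟨a5, b5, n5, rfl⟩ := h m5 (by simp)
  simp only [List.pairwise_cons, List.mem_cons, List.not_mem_nil, or_false, forall_eq_or_imp,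
    forall_eq] at hc
  obtain ⟨⟨h12, h13, h14, h15⟩, ⟨h23, h24, h25⟩, ⟨h34, h35⟩, h45, -⟩ := hc
  obtain ⟨p1, p2, p3, p4⟩ := bf_disj n1 n2 h12
  obtain ⟨q1, q2, q3, q4⟩ := bf_disj n1 n3 h13
  obtain ⟨r1, r2, r3, r4⟩ := bf_disj n1 n4 h14
  obtain ⟨s1, s2, s3, s4⟩ := bf_disj n1 n5 h15
  obtain ⟨t1, t2, t3, t4⟩ := bf_disj n2 n3 h23
  obtain ⟨u1, u2, u3, u4⟩ := bf_disj n2 n4 h24
  obtain ⟨v1, v2, v3, v4⟩ := bf_disj n2 n5 h25
  obtain ⟨w1, w2, w3, w4⟩ := bf_disj n3 n4 h34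
  obtain ⟨x1, x2, x3, x4⟩ := bf_disj n3 n5 h35
  obtain ⟨y1, y2, y3, y4⟩ := bf_disj n4 n5 h45
  have nd : [a2, b2, a3, b3, a4, b4, a5, b5, a1, b1].Nodup := by
    simp only [List.nodup_cons, List.mem_cons, List.not_mem_nil, or_false, not_or, List.nodup_nil,
      not_false_eq_true, and_true]
    refine ⟨⟨n2, t1, t2, u1, u2, v1, v2, p1.symm, p3.symm⟩,
      ⟨t3, t4, u3, u4, v3, v4, p2.symm, p4.symm⟩,
      ⟨n3, w1, w2, x1, x2, q1.symm, q3.symm⟩, ⟨w3, w4, x3, x4, q2.symm, q4.symm⟩,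
      ⟨n4, y1, y2, r1.symm, r3.symm⟩, ⟨y3, y4, r2.symm, r4.symm⟩,
      ⟨n5, s1.symm, s3.symm⟩, ⟨s2.symm, s4.symm⟩, n1⟩
  have inj : Function.Injective (![a2, b2, a3, b3, a4, b4, a5, b5, a1, b1] : Fin 10 → Fin 10) := by
    rw [← List.nodup_ofFn]
    exact nd
  refine ⟨Equiv.ofBijective _ (Finite.injective_iff_bijective.1 inj), ?_, ?_, ?_, ?_, ?_⟩ <;>
    rw [← swap_apply_apply] <;> rfl

end CfsgLib.ANX
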