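import Cfsg.Agent.Lib.ANX.B1S

/-! Bridge, BP: `b_p10` from `b1s_swap`. -/

set_option autoImplicit false

namespace CfsgLib.ANX

open Equiv Equiv.Perm

theorem bp3_p10 {e x ζ : Perm (Fin 10)} (e5 : e ^ 5 = 1) (x2 : x * x = 1) (ζ2 : ζ * ζ = 1) (ζ1 : ζ ≠ 1)
    (eζ : Commute e ζ) (xζ : Commute x ζ) (hc : ∀ i : ℕ, Commute x (e ^ i * x * (e ^ i)⁻¹))
    (hp : x * (e * x * e⁻¹) * (e ^ 2 * x * (e ^ 2)⁻¹) * (e ^ 3 * x * (e ^ 3)⁻¹) *
      (e ^ 4 * x * (e ^ 4)⁻¹) = 1) (h6 : 6 ≤ x.support.card) : (x * ζ).IsSwap := by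
  have hs : sign x = 1 := by
    have h := congrArg sign hp
    have k : ∀ p : Perm (Fin 10), sign (p * x * p⁻¹) = sign x := fun p => by
      rw [map_mul, map_mul, mul_right_comm, ← map_mul, mul_inv_cancel, map_one, one_mul]
    rw [map_mul, map_mul, map_mul, map_mul, k, k, k, k, map_one] at h
    rcases Int.units_eq_one_or (sign x) with e1 | e1
    · exact e1
    · rw [e1] at h; exact absurd h (by decide)
  have h8 : x.support.card = 8 := by
    have h2 : ∀ n ∈ x.cycleType, n = 2 := fun n hn =>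
      (Nat.dvd_prime Nat.prime_two).1 ((dvd_of_mem_cycleType hn).trans
        (orderOf_dvd_of_pow_eq_one (by rw [pow_two, x2]))) |>.resolve_left
        (by have := two_le_of_mem_cycleType hn; omega)
    have e1 : x.cycleType = Multiset.replicate (Multiset.card x.cycleType) 2 :=
      Multiset.eq_replicate_card.2 h2
    have e2 : x.support.card = Multiset.card x.cycleType * 2 := by
      rw [← sum_cycleType, e1]; simp
    have e3 := sign_of_cycleType x
    have e4 : x.support.card ≤ 10 := by simpa using x.support.card_le_univ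
    rw [hs, sum_cycleType, e2] at e3
    generalize Multiset.card x.cycleType = m at e2 e3
    have : m = 3 ∨ m = 4 ∨ m = 5 := by omega
    rcases this with rfl | rfl | rfl
    · exact absurd e3 (by decide)
    · exact e2
    · exact absurd e3 (by decide)
  have c1 := hc 1
  rw [pow_one] at c1
  rw [xζ.eq]
  exact (b1s_swap (by simp) e5 x2 rfl (by rw [pow_two]; group) (by rw [pow_succ' e 2]; group)
    (by rw [pow_succ' e 3]; group) c1 (hc 2) (hc 3) (hc 4) hp h8 ζ2 ζ1 eζ.symm xζ.symm).1

end CfsgLib.ANX
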