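import Cfsg.Agent.Lib.ANX.Defs

/-! ANX `u11`, pure permutation lemma (P). -/

set_option autoImplicit false
set_option linter.unusedSectionVars false

namespace CfsgLib.ANX

open Equiv Equiv.Perm

variable {Ω : Type} [Fintype Ω] [DecidableEq Ω]

theorem upa_fix {γ : Perm Ω} (h5 : γ ^ 5 = 1) {y : Ω} {k : ℕ} (hk : ¬ 5 ∣ k) (h : (γ ^ k) y = y) :
    γ y = y := by
  have h1 : Function.IsPeriodicPt γ k y := by rwa [Function.IsPeriodicPt, Function.IsFixedPt, ← coe_pow]
  have h2 : Function.IsPeriodicPt γ 5 y := by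
    rw [Function.IsPeriodicPt, Function.IsFixedPt, ← coe_pow, h5]; rfl
  have h3 := h1.gcd h2
  rwa [((Nat.Prime.coprime_iff_not_dvd Nat.prime_five).2 hk).symm.gcd_eq_one] at h3

theorem upa_cyc {w : Perm Ω} (w5 : w ^ 5 = 1) (h9 : w.support.card ≤ 9) (h1 : w ≠ 1) :
    w.IsCycle ∧ w.support.card = 5 := by
  have : Fact (Nat.Prime 5) := ⟨Nat.prime_five⟩
  have o : orderOf w = 5 := orderOf_eq_prime w5 h1
  have c : w.IsCycle := isCycle_of_prime_order (o ▸ Nat.prime_five) (by omega)
  exact ⟨c, by rw [← c.orderOf, o]⟩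

/-- PROOF. `5 ∣ #supp w` (cycle type / card_fixedPoints_modEq), so `#supp w ≤ 5`; show
`supp a0 ⊆ supp w`. Let `w p = p`, `q = a0 p ≠ p`; then `a_i p = w^i q`. If `w q = q` all `a_i` swap
`p, q` and the product moves `p`. Else the five points `a_i p = w^i q` are distinct, so they are all of
`supp w`. `u = a0 (a1 p)` has `w u = a1 (a2 p) ≠ u` (else `a0 p = a2 p`), so `u = a_k p`: `k = 0, 1` give
`a1 p = p`, `a0 p = p`; `k = 2, 3, 4` give with the product `a_l p = a_m p` for the other two. -/
theorem upa_five {w a0 a1 a2 a3 a4 : Perm Ω} (w5 : w ^ 5 = 1) (h9 : w.support.card ≤ 9)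
    (s0 : a0 * a0 = 1) (e1 : w * a0 * w⁻¹ = a1) (e2 : w * a1 * w⁻¹ = a2) (e3 : w * a2 * w⁻¹ = a3)
    (e4 : w * a3 * w⁻¹ = a4) (c1 : Commute a0 a1) (c2 : Commute a0 a2)
    (hp : a0 * a1 * a2 * a3 * a4 = 1) : a0.support.card ≤ 5 := by
  have hw : w.support.card ≤ 5 := by
    by_cases h1 : w = 1
    · simp [h1]
    · exact (upa_cyc w5 h9 h1).2.le
  refine le_trans (Finset.card_le_card fun p hq => ?_) hw
  rw [mem_support] at hq ⊢
  intro wp
  have g5 : ∀ z, w (w (w (w (w z)))) = z := fun z => by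
    simpa [pow_succ] using congrArg (· z) w5
  have wi : ∀ z, w⁻¹ z = w (w (w (w z))) := fun z => by rw [inv_eq_iff_eq, g5]
  have x2 : ∀ z, a0 (a0 z) = z := fun z => by rw [← mul_apply, s0, one_apply]
  obtain ⟨q, hq'⟩ : ∃ q, a0 p = q := ⟨_, rfl⟩
  have aq : a0 q = p := by rw [← hq', x2]
  rw [hq'] at hq
  by_cases wq : w q = q
  · have k := congrArg (· p) hp
    subst e1 e2 e3 e4
    simp only [mul_apply, wi, wp, wq, hq', aq, one_apply] at k
    exact hq k
  have n : ∀ k : ℕ, ¬ 5 ∣ k → (w ^ k) q ≠ q := fun k hk h => wq (upa_fix w5 hk h)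
  have n2 : w (w q) ≠ q := by simpa [pow_succ] using n 2 (by norm_num)
  have n3 : w (w (w q)) ≠ q := by simpa [pow_succ] using n 3 (by norm_num)
  have k1 : a0 (w q) = w (a0 (w (w (w (w q))))) := by
    have k := congrArg (· p) c1.eq
    subst e1
    simpa only [mul_apply, wi, wp, hq'] using k
  have k2 : a0 (w (w q)) = w (w (a0 (w (w (w q))))) := by
    have k := congrArg (· p) c2.eq
    subst e1 e2
    simpa only [mul_apply, wi, wp, hq', g5] using k
  by_cases hz : w (a0 (w (w (w (w q))))) = a0 (w (w (w (w q))))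
  · rw [hz] at k1
    exact n3 (w.injective (a0.injective k1)).symm
  obtain ⟨i, h⟩ := (upa_cyc w5 h9 (fun e => wq (by rw [e, one_apply]))).1.exists_pow_eq wq hz
  rw [pow_eq_pow_mod i w5] at h
  have hi : i % 5 < 5 := Nat.mod_lt _ (by norm_num)
  generalize i % 5 = j at h hi
  have h' := congrArg a0 h
  rw [x2] at h'
  rw [← h] at k1
  have k' := congrArg a0 k1
  rw [x2] at k'
  interval_cases j <;> simp only [pow_succ, pow_zero, one_mul, mul_apply, one_apply] at h h' k1 k'
  · rw [aq] at h'
    exact hq ((g5 q).symm.trans (by rw [← h', wp]))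
  · rw [k1] at h'; exact n2 (w.injective (w.injective h')).symm
  · rw [h', ← k'] at k2; exact wq (w.injective (w.injective (w.injective k2)))
  · rw [← h] at k'; exact n2 (w.injective k').symm
  · rw [g5, aq] at k'
    exact hq (w.injective (k'.trans wp.symm))

/-- PROOF. `r` has order 3 and commutes with `w`. If `w x ≠ x`: were `r x` outside the `w`-orbit of `x`,
the orbits of `x, r x, r² x` would give 15 points; so `r x = w^i x`, `w^(3 i) x = x`, `5 ∣ i`,
`r x = x`. So `supp r` (at least 3 points) is disjoint from `supp w`. -/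
theorem upa_three (h12 : Fintype.card Ω ≤ 12) {w r : Perm Ω} (w5 : w ^ 5 = 1) (r3 : r ^ 3 = 1)
    (r1 : r ≠ 1) (c : Commute w r) : w.support.card ≤ 9 := by
  have : Fact (Nat.Prime 5) := ⟨Nat.prime_five⟩
  have : Fact (Nat.Prime 3) := ⟨Nat.prime_three⟩
  by_contra h
  have hk : w.cycleFactorsFinset.card ≤ 2 := by
    have h1 := sum_cycleType w
    have h2 : w.cycleType.card = w.cycleFactorsFinset.card := by simp [cycleType_def]
    rw [cycleType_of_pow_prime_eq_one w5, Multiset.sum_replicate, smul_eq_mul, h2] at h1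
    have := Finset.card_le_univ w.support
    omega
  have r3' : ∀ z, r (r (r z)) = z := fun z => by simpa [pow_succ] using congrArg (· z) r3
  have cr : ∀ {x y}, w.SameCycle x y → w.SameCycle (r x) (r y) := fun h => by
    have := h.conj (g := r)
    rwa [← c.eq, mul_inv_cancel_right] at this
  have mv : ∀ {x}, x ∈ w.support → r x ∈ w.support := fun {x} hx => by
    rw [mem_support] at hx ⊢
    exact fun e => hx (r.injective (by rw [← mul_apply, ← c.eq, mul_apply, e]))
  have fx : ∀ x ∈ w.support, r x = x := fun x hx => by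
    have sc : w.SameCycle x (r x) := by
      by_contra hn
      have m := fun y (hy : y ∈ w.support) => cycleOf_mem_cycleFactorsFinset_iff.2 hy
      have : 2 < w.cycleFactorsFinset.card := Finset.two_lt_card_iff.2 ⟨_, _, _, m _ hx, m _ (mv hx), m _ (mv (mv hx)),
        fun e => hn ((sameCycle_iff_cycleOf_eq_of_mem_support hx (mv hx)).2 e),
        fun e => hn (by
          have := cr ((sameCycle_iff_cycleOf_eq_of_mem_support hx (mv (mv hx))).2 e)
          rw [r3'] at this; exact this.symm),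
        fun e => hn (by
          have := cr (cr ((sameCycle_iff_cycleOf_eq_of_mem_support (mv hx) (mv (mv hx))).2 e))
          rwa [r3'] at this)⟩
      omega
    obtain ⟨i, -, hi⟩ := sc.exists_pow_eq'
    by_cases h5 : 5 ∣ i
    · obtain ⟨j, rfl⟩ := h5
      rw [← hi, pow_mul, w5, one_pow, one_apply]
    · have cm : ∀ z, r ((w ^ i) z) = (w ^ i) (r z) := fun z => by
        rw [← mul_apply, ← (c.pow_left i).eq, mul_apply]
      refine absurd (upa_fix w5 (k := i * 3) (y := x) (by omega) ?_) (mem_support.1 hx)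
      rw [pow_mul, pow_succ, pow_succ, pow_one, mul_apply, mul_apply, hi, ← cm, hi, ← cm, ← cm, hi, r3']
  have h2 : r.support.card ≤ w.supportᶜ.card := Finset.card_le_card fun x hx =>
    Finset.mem_compl.2 fun h => mem_support.1 hx (fx x h)
  rw [Finset.card_compl] at h2
  have h3 := sum_cycleType r
  rw [cycleType_of_pow_prime_eq_one r3, Multiset.sum_replicate, smul_eq_mul] at h3
  have h4 : r.support.card ≠ 0 := fun e => r1 (card_support_eq_zero.1 e)
  omega

end CfsgLib.ANX
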