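import Cfsg.Agent.Lib.ANX.U5P
import Cfsg.Agent.Lib.ANX.UPa
import Cfsg.Agent.Lib.ANX.B0P2
import Cfsg.Agent.Lib.ANX.B0P3

/-! Bridge, BP: pure permutation lemmas.
`b_p10`: five conjugates have product 1, so `x` is even and `|supp x| = 8`; `upa_five` gives `|supp e| = 10`, so `ζ` has no fixed point
(its fixed points are `e`-invariant, the support is even); as `u5p_11` (or embed `Fin 10` into `Fin 11`).
`b_five`: distinct commuting swaps are disjoint, so `![a1, b1, ..]` is injective, hence a permutation `l`. -/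

set_option autoImplicit false

namespace CfsgLib.ANX

open Equiv Equiv.Perm

theorem b_p10 {e x ζ : Perm (Fin 10)} (e5 : e ^ 5 = 1) (x2 : x * x = 1) (ζ2 : ζ * ζ = 1) (ζ1 : ζ ≠ 1)
    (eζ : Commute e ζ) (xζ : Commute x ζ) (hc : ∀ i : ℕ, Commute x (e ^ i * x * (e ^ i)⁻¹))
    (hp : x * (e * x * e⁻¹) * (e ^ 2 * x * (e ^ 2)⁻¹) * (e ^ 3 * x * (e ^ 3)⁻¹) *
      (e ^ 4 * x * (e ^ 4)⁻¹) = 1) (h6 : 6 ≤ x.support.card) : (x * ζ).IsSwap :=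
  bp3_p10 e5 x2 ζ2 ζ1 eζ xζ hc hp h6

theorem b_five {m1 m2 m3 m4 m5 : Perm (Fin 10)} (h : ∀ m ∈ [m1, m2, m3, m4, m5], m.IsSwap)
    (hc : [m1, m2, m3, m4, m5].Pairwise fun a b => Commute a b ∧ a ≠ b) :
    ∃ l : Perm (Fin 10), l * swap 8 9 * l⁻¹ = m1 ∧ l * swap 0 1 * l⁻¹ = m2 ∧ l * swap 2 3 * l⁻¹ = m3 ∧
      l * swap 4 5 * l⁻¹ = m4 ∧ l * swap 6 7 * l⁻¹ = m5 :=
  b_five' h hc

end CfsgLib.ANX
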