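import Cfsg.Agent.Lib.Alt4.Defs
import Cfsg.Agent.Lib.SLE.Defs
import Cfsg.Agent.Lib.UFP.X

/-! Standard subgroup `A_n` with cyclic centraliser (plans/ANX.md): definitions. -/

set_option autoImplicit false
set_option linter.unusedSectionVars false

namespace CfsgLib.ANX

open Subgroup Equiv Equiv.Perm Cfsg CfsgLib.Tech CfsgLib.Alt4 CfsgLib.AltSyl CfsgLib.NatSyl

variable {Ω : Type} [Fintype Ω] [DecidableEq Ω] {G : Type*} [Group G] [Finite G]

/-- `g` is a 2-element -/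
abbrev Tw (g : G) : Prop := IsPGroup 2 (zpowers g)

/-- `g` centralises `L = ι A_n` -/
def CL (ι : alternatingGroup Ω →* G) (g : G) : Prop := ∀ a, Commute g (ι a)

structure FrB (ι : alternatingGroup Ω →* G) (t : G) : Prop where
  inj : Function.Injective ι
  t2 : t * t = 1
  t1 : t ≠ 1
  tC : CL ι t
  aut : ∀ g, Commute g t → ∃ σ, Act ι g σ

/-- standard, cyclic Sylow 2-subgroups of the centraliser -/
structure Fr0 (ι : alternatingGroup Ω →* G) (t : G) : Prop extends FrB ι t where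
  cyc : ∀ P ≤ centralizer (ι.range : Set G), IsPGroup 2 P → IsCyclic P

/-- `⟨t⟩` is Sylow in `C(L)` -/
structure Fr (ι : alternatingGroup Ω →* G) (t : G) : Prop extends FrB ι t where
  two : ∀ c, CL ι c → Commute c t → Tw c → c = 1 ∨ c = t

/-- the elements of odd order of `C(L) ∩ C(t)` -/
def Od (ι : alternatingGroup Ω →* G) (t o : G) : Prop := CL ι o ∧ Commute o t ∧ Odd (orderOf o)

/-- `s` is a conjugate of `t`, commutes with `t` and acts on `L` as `σ` -/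
structure Ty (ι : alternatingGroup Ω →* G) (t s : G) (σ : Perm Ω) : Prop where
  cj : IsConj t s
  cm : Commute s t
  ac : Act ι s σ

/-- some conjugate of `t` in `C(t)` moves exactly `w` points (`w = 2 j`) -/
def J (ι : alternatingGroup Ω →* G) (t : G) (w : ℕ) : Prop :=
  ∃ s σ, Ty ι t s σ ∧ σ.support.card = w

/-- `t` is not isolated in `H` -/
def NZ (H : Subgroup G) (t : G) : Prop :=
  ∃ g ∈ H, Commute (g * t * g⁻¹) t ∧ g * t * g⁻¹ ≠ t

/-- `ι (Alt Φ)` -/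
def iA (ι : alternatingGroup Ω →* G) (Φ : Finset Ω) : Subgroup G :=
  ((altOn Φ).subgroupOf (alternatingGroup Ω)).map ι

/-- `C(ι (Alt Φ))` -/
abbrev HC (ι : alternatingGroup Ω →* G) (Φ : Finset Ω) : Subgroup G := centralizer (iA ι Φ : Set G)

/-- a local product `A_Ψ × A_Ψ` over the diagonal `ι (Alt Ψ)` -/
structure Loc (ι : alternatingGroup Ω →* G) (t : G) (Ψ : Finset Ω)
    (ι₁ ι₂ : alternatingGroup Ψ →* G) : Prop where
  inj : Function.Injective ι₁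
  dia : ∀ a, ι (alternatingGroup.ofSubtype Ψ a) = ι₁ a * ι₂ a
  com : ∀ a b, Commute (ι₁ a) (ι₂ b)
  swp : ∀ a, t * ι₁ a * t⁻¹ = ι₂ a
  co : ∀ a o, Od ι t o → Commute (ι₁ a) o

/-- `C(ι Alt Ψᶜ)` has the normal subgroup `A₇ × A₇` -/
def W7 (ι : alternatingGroup Ω →* G) (t : G) (Ψ : Finset Ω) : Prop :=
  ∃ ι₁ ι₂, Loc ι t Ψ ι₁ ι₂ ∧ ι₁.range ≤ HC ι Ψᶜ ∧
    HC ι Ψᶜ ≤ normalizer ((ι₁.range ⊔ ι₂.range : Subgroup G) : Set G)

/-- `C(ι Alt Ψᶜ)` is `S₉` modulo its core, `t` is a transposition -/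
def T7 (ι : alternatingGroup Ω →* G) (t : G) (Ψ : Finset Ω) : Prop :=
  ∃ κ : HC ι Ψᶜ →* Perm (Fin 9), Function.Surjective κ ∧ Odd (Nat.card κ.ker) ∧
    ∀ h : t ∈ HC ι Ψᶜ, (κ ⟨t, h⟩).IsSwap

/-- the wreath configuration -/
structure Wr (ι : alternatingGroup Ω →* G) (t : G) (ι₁ ι₂ : alternatingGroup Ω →* G) : Prop where
  inj : Function.Injective ι₁
  dia : ∀ a, ι a = ι₁ a * ι₂ a
  com : ∀ a b, Commute (ι₁ a) (ι₂ b)
  swp : ∀ a, t * ι₁ a * t⁻¹ = ι₂ a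
  unq : ∀ a w, Root a → w * w = 1 → w * t * w⁻¹ = t * ι a →
    (∀ c, Commute c a → Commute w (ι c)) → w = ι₁ a ∨ w = ι₂ a

/-- the normaliser of `L₁ L₂` -/
abbrev WM (ι₁ ι₂ : alternatingGroup Ω →* G) : Subgroup G :=
  normalizer ((ι₁.range ⊔ ι₂.range : Subgroup G) : Set G)

/-- the transposition hypotheses -/
structure TT (ι : alternatingGroup Ω →* G) (t : G) : Prop where
  nt : ∀ s σ, Ty ι t s σ → σ.IsSwap → ¬ IsConj t (t * s)
  sw : ∀ s σ s' σ' g ξ, Ty ι t s σ → Ty ι t s' σ' → σ.IsSwap → σ'.IsSwap → σ.Disjoint σ' →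
    g * t * g⁻¹ = s → Act (cα g ι) s' ξ → ξ.IsSwap

/-- the two new points -/
abbrev Ω2 (Ω : Type) : Type := Ω ⊕ Fin 2

/-- `S_{n+2}` in `G` -/
structure Big (ι : alternatingGroup Ω →* G) (t : G) (θ : Perm (Ω2 Ω) →* G) : Prop where
  inj : Function.Injective θ
  ht : θ (swap (.inr 0) (.inr 1)) = t
  hi : ∀ a : alternatingGroup Ω, θ (Perm.sumCongr (a : Perm Ω) 1) = ι a
  cn : ∀ g, Commute g t → g ∈ normalizer (((alternatingGroup (Ω2 Ω)).map θ : Subgroup G) : Set G)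

/-- `M = N(θ A_{n+2})` -/
abbrev BM (θ : Perm (Ω2 Ω) →* G) : Subgroup G :=
  normalizer (((alternatingGroup (Ω2 Ω)).map θ : Subgroup G) : Set G)

/-- the centralisers of the roots lie in `M` -/
def CU (θ : Perm (Ω2 Ω) →* G) : Prop :=
  ∀ u : alternatingGroup (Ω2 Ω), Root u → ∀ g, Commute g (θ u) → g ∈ BM θ

end CfsgLib.ANX
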