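import Cfsg.Agent.Lib.ANX.Defs

/-! ANX `u11`, pure permutation lemma for eleven points. -/

set_option autoImplicit false
set_option linter.unusedSectionVars false

namespace CfsgLib.ANX

open Equiv Equiv.Perm

variable {Ω : Type} [Fintype Ω] [DecidableEq Ω]

theorem upb_card (σ : Perm Ω) :
    (Finset.univ.filter fun x => σ x = x).card + σ.support.card = Fintype.card Ω := by
  exact Finset.card_filter_add_card_filter_not (s := Finset.univ) (fun x => σ x = x)

theorem upb_app {σ τ : Perm Ω} (h : Commute σ τ) (x : Ω) : σ (τ x) = τ (σ x) :=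
  congrArg (fun f : Perm Ω => f x) h.eq

theorem upb_conj {σ a : Perm Ω} {z : Ω} (h : σ z = z) : (σ * a * σ⁻¹) z = z ↔ a z = z := by
  rw [Perm.mul_apply, Perm.mul_apply, Perm.inv_eq_iff_eq.2 h.symm]
  exact ⟨fun e => σ.injective (e.trans h.symm), fun e => by rw [e, h]⟩

theorem upb_pair (h11 : Fintype.card Ω = 11) {b a : Perm Ω} {p : Ω} (hp : ∀ x, b x = x ↔ x = p)
    (ba : Commute b a) (h : a.support.card = 8) :
    (∃ z, z ≠ p ∧ a z = z) ∧ ∀ z, z ≠ p → a z = z → ∀ x, x ≠ p → a x = x → x = z ∨ x = b z := by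
  have h3 := upb_card a
  have ap : a p = p := (hp _).1 (by rw [upb_app ba, (hp p).2 rfl])
  refine ⟨?_, fun z zp az x xp ax => ?_⟩
  · obtain ⟨z, h1, h2⟩ := Finset.exists_mem_ne (s := Finset.univ.filter fun x => a x = x)
      (by omega) p
    exact ⟨z, h2, by simpa using h1⟩
  by_contra hn
  push Not at hn
  have z1 : b z ≠ z := fun e => zp ((hp _).1 e)
  have z2 : b z ≠ p := fun e => zp (b.injective (e.trans ((hp p).2 rfl).symm))
  have : ({x, z, b z, p} : Finset Ω) ⊆ Finset.univ.filter fun x => a x = x := by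
    intro y hy
    simp only [Finset.mem_insert, Finset.mem_singleton] at hy
    rcases hy with rfl | rfl | rfl | rfl <;> simp [*, ← upb_app ba]
  have := Finset.card_le_card this
  rw [Finset.card_insert_of_notMem (by simp [hn.1, hn.2, xp]),
    Finset.card_insert_of_notMem (by simp [z1.symm, zp]), Finset.card_pair z2] at this
  omega

/-- PROOF. `S = supp b` has 10 points, `p` is the other one; whatever commutes with `b` fixes `p`, so
`supp w = S`, and `F_i = S \ supp a_i` has 2 points `{z, b z}`. The `F_i` are pairwise disjoint: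
`v = w^(j-i)` maps `F_i` to `F_j`, so for `z` in both `v z ∈ {z, b z}`, `v² z = z`, `w z = z`. So they
cover `S` (card_biUnion). `S \ supp c = {z, b z}` is preserved by `k`, so `k z = z` (`k³ = 1`). Now
`z ∈ F_i`: `i = 0, 1`: `c` puts `z` in `F_0 ∩ F_1`; `i = 2, 3, 4`: `k` puts it in two of them. -/
theorem upb_eleven (h11 : Fintype.card Ω = 11) {w b c k a0 a1 a2 a3 a4 : Perm Ω} (w5 : w ^ 5 = 1)
    (hw : 10 ≤ w.support.card) (b2 : b * b = 1) (hb : b.support.card = 10)
    (h0 : a0.support.card = 8) (e1 : w * a0 * w⁻¹ = a1) (e2 : w * a1 * w⁻¹ = a2)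
    (e3 : w * a2 * w⁻¹ = a3) (e4 : w * a3 * w⁻¹ = a4) (bw : Commute b w) (ba : Commute b a0)
    (bc : Commute b c) (bk : Commute b k) (c2 : c * c = 1) (hc : c.support.card = 8)
    (ca : c * a0 * c⁻¹ = a1) (k3 : k ^ 3 = 1) (kc : Commute k c) (k2 : k * a2 * k⁻¹ = a3)
    (k4 : k * a3 * k⁻¹ = a4) : False := by
  obtain ⟨p, hp⟩ : ∃ p, ∀ x, b x = x ↔ x = p := by
    have := upb_card b
    obtain ⟨p, hp⟩ := Finset.card_eq_one.1
      (show (Finset.univ.filter fun x => b x = x).card = 1 by omega)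
    exact ⟨p, fun x => by simpa using Finset.ext_iff.1 hp x⟩
  have bb : ∀ x, b (b x) = x := fun x => congrArg (fun f : Perm Ω => f x) b2
  have fp : ∀ {σ : Perm Ω}, Commute b σ → σ p = p := fun h =>
    (hp _).1 (by rw [upb_app h, (hp p).2 rfl])
  have np : ∀ {σ : Perm Ω}, Commute b σ → ∀ {x}, x ≠ p → σ x ≠ p := fun {σ} h x hx e =>
    hx (σ.injective (e.trans (fp h).symm))
  have wf : ∀ x, x ≠ p → w x ≠ x := fun x xp e => by
    have h1 := upb_card w
    have : ({x, p} : Finset Ω) ⊆ Finset.univ.filter fun x => w x = x := by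
      intro y hy
      simp only [Finset.mem_insert, Finset.mem_singleton] at hy
      rcases hy with rfl | rfl <;> simp [e, fp bw]
    have := Finset.card_le_card this
    rw [Finset.card_pair xp] at this
    omega
  have dv : ∀ (n : ℕ) y, y ≠ p → (w ^ n) y = y ∨ (w ^ n) y = b y → 5 ∣ n := fun n y yp h => by
    by_contra hn
    have h2 : (w ^ (n + n)) y = y := by
      rw [pow_add, Perm.mul_apply]
      rcases h with h | h
      · rw [h, h]
      · rw [h, ← upb_app (bw.pow_right n), h, bb]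
    obtain ⟨m, hm⟩ := exists_pow_eq_self_of_coprime (x := w) (n := n + n)
      (((Nat.coprime_comm.1 ((Nat.Prime.coprime_iff_not_dvd (by norm_num : Nat.Prime 5)).2
        (by omega)))).coprime_dvd_right (orderOf_dvd_of_pow_eq_one w5))
    exact wf y yp (hm ▸ Perm.pow_apply_eq_self_of_apply_eq_self h2 m)
  obtain ⟨⟨u, up, au⟩, ha⟩ := upb_pair h11 hp ba h0
  obtain ⟨⟨z, zp, cz⟩, hz⟩ := upb_pair h11 hp bc hc
  have kz : k z = z := by
    rcases hz z zp cz (k z) (np bk zp) (by rw [← upb_app kc, cz]) with e | e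
    · exact e
    · have := congrArg (fun f : Perm Ω => f z) k3
      simp only [pow_succ, pow_zero, one_mul, Perm.mul_apply, Perm.one_apply] at this
      rwa [e, ← upb_app bk, e, bb] at this
  have key : ∀ i : ℕ, (w ^ i * a0 * (w ^ i)⁻¹) z = z ↔ a0 ((w ^ i)⁻¹ z) = (w ^ i)⁻¹ z := fun i => by
    rw [Perm.mul_apply, Perm.mul_apply, Perm.eq_inv_iff_eq]
  have dj : ∀ i j : ℕ, (w ^ i * a0 * (w ^ i)⁻¹) z = z → (w ^ (i + j) * a0 * (w ^ (i + j))⁻¹) z = z →
      5 ∣ j := fun i j h1 h2 => by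
    rw [key] at h1 h2
    have n2 := np (bw.pow_right (i + j)).inv_right zp
    refine dv j _ n2 ?_
    have : (w ^ j) ((w ^ (i + j))⁻¹ z) = (w ^ i)⁻¹ z := by simp [pow_add]
    rw [this]
    exact ha _ n2 h2 _ (np (bw.pow_right i).inv_right zp) h1
  have cov : ∃ i < 5, (w ^ i * a0 * (w ^ i)⁻¹) z = z := by
    obtain ⟨f, hf⟩ : ∃ f : Fin 5 × Bool → Ω, ∀ i s, f (i, s) = (w ^ (i : ℕ)) (if s then b u else u) :=
      ⟨fun x => (w ^ (x.1 : ℕ)) (if x.2 then b u else u), fun _ _ => rfl⟩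
    have bu : b u ≠ p := np (Commute.refl b) up
    have inj0 : ∀ (i j : Fin 5) s t, i ≤ j → f (i, s) = f (j, t) → (i, s) = (j, t) := by
      intro i j s t ij e
      obtain ⟨d, hd⟩ := Nat.exists_eq_add_of_le (show (i : ℕ) ≤ j from ij)
      rw [hf, hf, hd, pow_add, Perm.mul_apply] at e
      have e := (w ^ (i : ℕ)).injective e
      have h5 : 5 ∣ d := dv d (if t then b u else u) (by cases t <;> simpa) (by
        rw [← e]; cases s <;> cases t <;> simp [bb])
      obtain rfl : d = 0 := by have := j.2; omega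
      rw [Prod.mk.injEq]
      refine ⟨Fin.ext (by omega), ?_⟩
      have : b u ≠ u := fun e => up ((hp _).1 e)
      rw [pow_zero, Perm.one_apply] at e
      cases s <;> cases t
      exacts [rfl, absurd e.symm this, absurd e this, rfl]
    have inj : Function.Injective f := fun ⟨i, s⟩ ⟨j, t⟩ e =>
      (le_total i j).elim (fun h => inj0 i j s t h e) fun h => (inj0 j i t s h e.symm).symm
    have : Finset.univ.image f = Finset.univ.erase p := Finset.eq_of_subset_of_card_le
      (fun y hy => by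
        obtain ⟨⟨i, s⟩, -, rfl⟩ := Finset.mem_image.1 hy
        rw [hf]
        exact Finset.mem_erase.2 ⟨np (bw.pow_right _) (by cases s <;> simpa), Finset.mem_univ _⟩)
      (by rw [Finset.card_image_of_injective _ inj]; simp [h11])
    obtain ⟨⟨i, s⟩, -, e⟩ := Finset.mem_image.1 (this ▸ Finset.mem_erase.2 ⟨zp, Finset.mem_univ z⟩)
    refine ⟨i, i.2, (key i).2 ?_⟩
    rw [← e, hf]
    cases s <;> simp [au, ← upb_app ba]
  have A0 : w ^ 0 * a0 * (w ^ 0)⁻¹ = a0 := by simp
  have A1 : w ^ 1 * a0 * (w ^ 1)⁻¹ = a1 := by rw [← e1]; group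
  have A2 : w ^ 2 * a0 * (w ^ 2)⁻¹ = a2 := by rw [← e2, ← e1]; simp [pow_succ, mul_assoc]
  have A3 : w ^ 3 * a0 * (w ^ 3)⁻¹ = a3 := by rw [← e3, ← e2, ← e1]; simp [pow_succ, mul_assoc]
  have A4 : w ^ 4 * a0 * (w ^ 4)⁻¹ = a4 := by rw [← e4, ← e3, ← e2, ← e1]; simp [pow_succ, mul_assoc]
  have q1 : a1 z = z ↔ a0 z = z := ca ▸ upb_conj cz
  have q3 : a3 z = z ↔ a2 z = z := k2 ▸ upb_conj kz
  have q4 : a4 z = z ↔ a3 z = z := k4 ▸ upb_conj kz
  have d0 := dj 0 1
  have d2 := dj 2 1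
  rw [A0, zero_add, A1] at d0
  rw [A2, A3] at d2
  obtain ⟨i, hi, h⟩ := cov
  interval_cases i
  · rw [A0] at h; exact absurd (d0 h (q1.2 h)) (by decide)
  · rw [A1] at h; exact absurd (d0 (q1.1 h) h) (by decide)
  · rw [A2] at h; exact absurd (d2 h (q3.2 h)) (by decide)
  · rw [A3] at h; exact absurd (d2 (q3.1 h) h) (by decide)
  · rw [A4] at h; exact absurd (d2 (q3.1 (q4.1 h)) (q4.1 h)) (by decide)

end CfsgLib.ANX
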