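import Cfsg.Agent.Lib.ANX.UPa
import Cfsg.Agent.Lib.ANX.U5P

/-! ANX, H0 bridge: the permutation core of step S1 (ten points). -/

set_option autoImplicit false
set_option linter.unusedSectionVars false

namespace CfsgLib.ANX

open Equiv Equiv.Perm

variable {Ω : Type} [Fintype Ω] [DecidableEq Ω]

theorem b1s_cj {w a : Perm Ω} (x : Ω) : (w * a * w⁻¹) (w x) = w x ↔ a x = x := by simp

theorem b1s_swap (h10 : Fintype.card Ω = 10) {w β a0 a1 a2 a3 a4 : Perm Ω} (w5 : w ^ 5 = 1)
    (s0 : a0 * a0 = 1) (e1 : w * a0 * w⁻¹ = a1) (e2 : w * a1 * w⁻¹ = a2) (e3 : w * a2 * w⁻¹ = a3)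
    (e4 : w * a3 * w⁻¹ = a4) (c1 : Commute a0 a1) (c2 : Commute a0 a2) (c3 : Commute a0 a3)
    (c4 : Commute a0 a4) (hp : a0 * a1 * a2 * a3 * a4 = 1) (h8 : a0.support.card = 8)
    (b2 : β * β = 1) (b1 : β ≠ 1) (bw : Commute β w) (ba : Commute β a0) :
    (β * a0).IsSwap ∧ β.support.card = 10 := by
  have le : ∀ S : Finset Ω, S.card ≤ 10 := fun S => h10 ▸ S.card_le_univ
  have all : ∀ S : Finset Ω, S.card = 10 → ∀ x, x ∈ S := fun S h x => by
    rw [Finset.eq_univ_of_card S (h.trans h10.symm)]; exact Finset.mem_univ x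
  have hw : ∀ x, w x ≠ x := fun x => mem_support.1 (all _ (by
    have := le w.support
    by_contra k
    have := upa_five w5 (by omega) s0 e1 e2 e3 e4 c1 c2 hp
    omega) x)
  have b2' : β ^ 2 = 1 := by rwa [pow_two]
  have hb : β.support.card = 10 := by
    have h1 := u5p_inv Nat.prime_five w5 (S := β.support)
      (fun x h => mem_support.2 fun k => mem_support.1 h ((u5p_fix bw x).1 k)) fun x _ => hw x
    have h2 := u5p_dvd Nat.prime_two b2'
    have h3 := le β.support
    have h4 : β.support.card ≠ 0 := fun k => b1 (card_support_eq_zero.1 k)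
    omega
  have hβ : ∀ x, β x ≠ x := fun x => mem_support.1 (all _ hb x)
  have e0 : w * a4 * w⁻¹ = a0 := by
    have : w * a4 * w⁻¹ = w ^ 5 * a0 * (w ^ 5)⁻¹ := by
      rw [← e4, ← e3, ← e2, ← e1]; simp [pow_succ, mul_assoc]
    rw [this, w5]; simp
  have st : ∀ {a b : Perm Ω}, w * a * w⁻¹ = b → Commute β a ∧ a.support.card = 8 →
      Commute β b ∧ b.support.card = 8 := fun e h =>
    e ▸ ⟨(bw.mul_right h.1).mul_right bw.inv_right, by rw [card_support_conj, h.2]⟩
  have p0 : Commute β a0 ∧ a0.support.card = 8 := ⟨ba, h8⟩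
  have p1 := st e1 p0
  have p2 := st e2 p1
  have p3 := st e3 p2
  have p4 := st e4 p3
  have two : ∀ a : Perm Ω, a.support.card = 8 → a.supportᶜ.card = 2 := fun a h => by
    rw [Finset.card_compl, h, h10]
  have key : ∀ {a : Perm Ω}, Commute β a ∧ a.support.card = 8 → Commute a0 a → ∀ x, a x = x →
      a0 x = x ∨ a0 x = β x := fun {a} h c x hx => by
    have : ({x, β x} : Finset Ω) = a.supportᶜ := Finset.eq_of_subset_of_card_le (by
      intro y hy
      rw [Finset.mem_compl, notMem_support]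
      rcases Finset.mem_insert.1 hy with rfl | hy
      · exact hx
      · rw [Finset.mem_singleton.1 hy]; exact (u5p_fix h.1.symm x).2 hx) (by
      rw [two a h.2, Finset.card_pair (hβ x).symm])
    have m : a0 x ∈ a.supportᶜ := by
      rw [Finset.mem_compl, notMem_support]; exact (u5p_fix c.symm x).2 hx
    simpa [← this] using m
  have cov := all (Finset.univ.filter fun x => a0 x = x ∨ a1 x = x ∨ a2 x = x ∨ a3 x = x ∨ a4 x = x) (by
    set S := Finset.univ.filter fun x => a0 x = x ∨ a1 x = x ∨ a2 x = x ∨ a3 x = x ∨ a4 x = x with hS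
    have h1 := u5p_inv Nat.prime_five w5 (S := S) (fun x h => by
      simp only [hS, Finset.mem_filter, Finset.mem_univ, true_and] at h ⊢
      rcases h with h | h | h | h | h
      · exact .inr (.inl (e1 ▸ (b1s_cj x).2 h))
      · exact .inr (.inr (.inl (e2 ▸ (b1s_cj x).2 h)))
      · exact .inr (.inr (.inr (.inl (e3 ▸ (b1s_cj x).2 h))))
      · exact .inr (.inr (.inr (.inr (e4 ▸ (b1s_cj x).2 h))))
      · exact .inl (e0 ▸ (b1s_cj x).2 h)) fun x _ => hw x
    have h2 := u5p_inv Nat.prime_two b2' (S := S) (fun x h => by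
      simp only [hS, Finset.mem_filter, Finset.mem_univ, true_and] at h ⊢
      rwa [u5p_fix p0.1.symm, u5p_fix p1.1.symm, u5p_fix p2.1.symm, u5p_fix p3.1.symm,
        u5p_fix p4.1.symm]) fun x _ => hβ x
    have h3 := le S
    have h4 : 2 ≤ S.card := two a0 h8 ▸ Finset.card_le_card fun x h => by
      simp only [hS, Finset.mem_filter, Finset.mem_univ, true_and]
      exact .inl (notMem_support.1 (Finset.mem_compl.1 h))
    omega)
  refine ⟨card_support_eq_two.1 ?_, hb⟩
  rw [← two a0 h8]
  congr 1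
  ext x
  have bb : β (β x) = x := congrArg (fun f : Perm Ω => f x) b2
  have k : a0 x = x ∨ a0 x = β x := by
    have h := cov x
    simp only [Finset.mem_filter, Finset.mem_univ, true_and] at h
    rcases h with h | h | h | h | h
    exacts [.inl h, key p1 c1 x h, key p2 c2 x h, key p3 c3 x h, key p4 c4 x h]
  rw [Finset.mem_compl, notMem_support, mem_support, Perm.mul_apply]
  rcases k with k | k
  · simp [k, hβ]
  · simp [k, bb, hβ]

end CfsgLib.ANX
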