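import Cfsg.Agent.Lib.ANX.PB

/-! ANX: the weight five case, the model on thirteen points. -/

set_option autoImplicit false
set_option linter.unusedSectionVars false
set_option linter.unusedVariables false
set_option Elab.async false

namespace CfsgLib.ANX

open Equiv Equiv.Perm Finset

abbrev M5 : Type := Fin 11 ⊕ Fin 2

def m5p : Fin 5 → M5 := ![.inr 0, .inl 0, .inl 2, .inl 4, .inl 6]
def m5q : Fin 5 → M5 := ![.inr 1, .inl 1, .inl 3, .inl 5, .inl 7]
def m5T (i : Fin 5) : Perm M5 := swap (m5p i) (m5q i)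
def m5B (i j : Fin 5) : Perm M5 := swap (m5p i) (m5p j) * swap (m5q i) (m5q j)
def m5w : Perm (Fin 11) := swap 0 1 * swap 2 3 * (swap 4 5 * swap 6 7)
def m5s : Perm M5 := Perm.sumCongr m5w (swap 0 1)
def m5r : Perm M5 := swap (.inl 8) (.inl 9)
def m5y : Perm M5 := swap (.inl 8) (.inl 9) * swap (.inl 9) (.inl 10)

theorem m5_T0 : m5T 0 = swap (.inr 0) (.inr 1) := rfl
theorem m5_Ts : ∀ i, m5T i * m5s = m5s * m5T i := by decide +kernel
theorem m5_Bs : ∀ i j, m5B i j * m5s = m5s * m5B i j := by decide +kernel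
theorem m5_rs : m5r * m5s = m5s * m5r := by decide +kernel
theorem m5_ys : m5y * m5s = m5s * m5y := by decide +kernel
theorem m5_TT : ∀ i, m5T i * m5T i = 1 := by decide +kernel
theorem m5_Tc : ∀ i j, m5T i * m5T j = m5T j * m5T i := by decide +kernel
theorem m5_BT : ∀ i j k, m5B i j * m5T k * (m5B i j)⁻¹ = m5T (swap i j k) := by decide +kernel
theorem m5_BB : ∀ i j, m5B i j * m5B i j = 1 := by decide +kernel
theorem m5_pr : m5T 0 * m5T 1 * m5T 2 * m5T 3 * m5T 4 = m5s := by decide +kernel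
theorem m5_cT : ∀ i, (m5T i).support.card = 2 ∧ m5T i ≠ 1 ∧ m5T i ≠ m5s := by decide +kernel
theorem m5_cTT : ∀ i j, i ≠ j → m5T i * m5T j * (m5T i * m5T j) = 1 ∧
    (m5T i * m5T j).support.card = 4 ∧ (m5T i * m5T j * m5s).support.card = 6 ∧
    m5T i * m5T j ≠ 1 ∧ m5T i * m5T j ≠ m5s := by decide +kernel
theorem m5_cBT : ∀ i, i = 3 ∨ i = 4 → m5B 0 1 * m5T i * (m5B 0 1 * m5T i) = 1 ∧
    (m5B 0 1 * m5T i).support.card = 6 ∧ (m5B 0 1 * m5T i * m5s).support.card = 8 ∧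
    m5B 0 1 * m5T i ≠ 1 ∧ m5B 0 1 * m5T i ≠ m5s := by decide +kernel
theorem m5_s : m5s * m5s = 1 ∧ m5s.support.card = 10 ∧ m5w.support.card = 8 := by
  decide +kernel
theorem m5_sw : sign m5w = 1 := by simp [m5w]
theorem m5_y : ∀ i, m5y * m5T i = m5T i * m5y := by decide +kernel
theorem m5_y3 : m5y ^ 3 = 1 ∧ m5r * m5r = 1 ∧ m5r * m5y ≠ m5y * m5r ∧
    m5r * m5B 0 1 * (m5r * m5B 0 1) = 1 ∧ m5r * m5B 0 1 * m5y ≠ m5y * (m5r * m5B 0 1) := by
  decide +kernel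
theorem m5_Bw : ∀ i k, m5B 0 i (.inl k) ≠ .inl k → m5w k ≠ k := by decide +kernel
theorem m5_u : (swap 0 1 * swap 2 3 : Perm (Fin 11)) * (swap 0 1 * swap 2 3) = 1 ∧
    (swap 0 1 * swap 2 3 : Perm (Fin 11)).support.card = 4 := by decide +kernel
theorem m5_su : sign (swap 0 1 * swap 2 3 : Perm (Fin 11)) = 1 := by simp

end CfsgLib.ANX
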