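import Cfsg.Agent.Lib.ANX.TFiveP
import Cfsg.Agent.Lib.ANX.TFiveM

/-! ANX: involutions of weight three and five of `θ S_{n+2}` are not conjugate to `t` (`n ≥ 11`). -/

set_option autoImplicit false
set_option linter.unusedSectionVars false
set_option linter.unusedVariables false

namespace CfsgLib.ANX

open Subgroup Equiv Equiv.Perm Cfsg CfsgLib.Tech CfsgLib.Alt4 CfsgLib.AltSyl CfsgLib.NatSyl
open CfsgLib.Alt.FinP

universe u

theorem f5_ext {α β : Type} [Fintype α] [DecidableEq α] [Fintype β] [DecidableEq β] (e : α ↪ β) :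
    ∃ V : Perm α →* Perm β, Function.Injective V ∧ (∀ x a, V x (e a) = e (x a)) ∧
      (∀ x b, b ∉ Set.range e → V x b = b) ∧ (∀ x, (V x).support.card = x.support.card) ∧
      ∀ x, sign (V x) = sign x := by
  classical
  exact ⟨extendDomainHom e.toEquivRange, extendDomainHom_injective _,
    fun x a => extendDomain_apply_image x e.toEquivRange a,
    fun x b h => extendDomain_apply_not_subtype x e.toEquivRange h,
    fun x => card_support_extend_domain _, fun x => sign_extendDomain x _⟩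

theorem f5_inv {α : Type} [Fintype α] [DecidableEq α] {a : Perm α} (ha : a * a = 1) :
    ∃ n, a.cycleType = Multiset.replicate n 2 ∧ a.support.card = 2 * n ∧ sign a = (-1) ^ n := by
  have h1 := cycleType_of_pow_prime_eq_one (σ := a) (p := 2) (by rw [sq]; exact ha)
  have h2 := sign_of_cycleType a
  have h3 := sum_cycleType a
  generalize Multiset.card a.cycleType = n at h1 h2
  rw [h1, Multiset.sum_replicate, smul_eq_mul] at h2 h3
  refine ⟨n, h1, by rw [← h3, mul_comm], ?_⟩
  rw [h2, pow_add, mul_comm n, pow_mul]; simp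

theorem f5_conj {α : Type} [Fintype α] [DecidableEq α] {a b : Perm α} (ha : a * a = 1)
    (hb : b * b = 1) (h : a.support.card = b.support.card) : IsConj a b := by
  obtain ⟨n, e1, e2, -⟩ := f5_inv ha
  obtain ⟨m, e3, e4, -⟩ := f5_inv hb
  exact isConj_iff_cycleType_eq.2 (by rw [e1, e3, show n = m by omega])

variable {Ω : Type} [Fintype Ω] [DecidableEq Ω] {G : Type u} [Group G] [Finite G]
  {ι : alternatingGroup Ω →* G} {t : G} {θ : Perm (Ω2 Ω) →* G}

theorem f5_card (a : Perm Ω) :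
    (Perm.sumCongr a (swap (0 : Fin 2) 1)).support.card = a.support.card + 2 := by
  simp [Perm.support, Finset.card_filter, Fintype.sum_sum_type, Fin.sum_univ_two]

/-- some involution moving `k` points is conjugate to `t` -/
def Dn (θ : Perm (Ω2 Ω) →* G) (t : G) (k : ℕ) : Prop :=
  ∃ σ, σ * σ = 1 ∧ σ.support.card = k ∧ IsConj t (θ σ)

theorem Dn.of {σ : Perm (Ω2 Ω)} (h : Dn θ t σ.support.card) (h2 : σ * σ = 1) : IsConj t (θ σ) := by
  obtain ⟨τ, a, b, c⟩ := h
  exact c.trans (θ.map_isConj (f5_conj a h2 b))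

section
variable (ht : θ (swap (.inr 0) (.inr 1)) = t)
  (hi : ∀ a : alternatingGroup Ω, θ (Perm.sumCongr (a : Perm Ω) 1) = ι a)
include ht hi

theorem f5_mul (a : alternatingGroup Ω) : θ (Perm.sumCongr (a : Perm Ω) (swap 0 1)) = ι a * t := by
  rw [← hi, ← ht, ← map_mul, ← Perm.sumCongr_one_swap, Perm.sumCongr_mul]; simp

theorem f5_dn {a : alternatingGroup Ω} (h : a * a = 1) : IsConj t (ι a * t) ↔ Dn θ t (W a + 2) := by
  have e : Perm.sumCongr (a : Perm Ω) (swap (0 : Fin 2) 1) * Perm.sumCongr (a : Perm Ω) (swap 0 1) = 1 := by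
    rw [Perm.sumCongr_mul, show (a : Perm Ω) * a = 1 from congrArg Subtype.val h]; simp
  rw [← f5_mul ht hi, W, ← f5_card]
  exact ⟨fun c => ⟨_, e, rfl, c⟩, fun c => c.of e⟩

theorem three_dn (F : Fr ι t) (h11 : 11 ≤ Fintype.card Ω) (h4 : ¬ J ι t 4) : ¬ Dn θ t 6 := fun h => by
  obtain ⟨e⟩ : Nonempty (Fin 11 ↪ Ω) := Function.Embedding.nonempty_of_card_le (by simpa using h11)
  obtain ⟨V, -, -, -, v4, v5⟩ := f5_ext e
  let a : alternatingGroup Ω := ⟨V (swap 0 1 * swap 2 3), mem_alternatingGroup.2 ((v5 _).trans m5_su)⟩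
  have a2 : a * a = 1 := Subtype.ext (by
    show V _ * V _ = 1
    rw [← map_mul, m5_u.1, map_one])
  have w : W a = 4 := (v4 _).trans m5_u.2
  exact h4 ⟨ι a * t, a, ⟨(f5_dn ht hi a2).2 (by rwa [w]), (F.tC a).symm.mul_left (Commute.refl t),
    by simpa using (Act.self a).mul (Act.one_iff.2 (mem_KK.2 F.tC))⟩, w⟩

theorem three_false (F : Fr ι t) (h11 : 11 ≤ Fintype.card Ω) (h4 : ¬ J ι t 4) {σ : Perm (Ω2 Ω)}
    (h2 : σ * σ = 1) (h : σ.support.card = 6) : ¬ IsConj t (θ σ) := fun c =>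
  three_dn ht hi F h11 h4 ⟨σ, h2, h, c⟩

theorem five_dn (F : Fr ι t) (h11 : 11 ≤ Fintype.card Ω) (inj : Function.Injective θ)
    (par : ∀ σ, IsConj t (θ σ) → sign σ ≠ 1) (h4 : ¬ J ι t 4) : ¬ Dn θ t 10 := fun d10 => by
  have n6 := three_dn ht hi F h11 h4
  have n4 : ∀ k, 4 ∣ k → ¬ Dn θ t k := fun k ⟨m, hm⟩ ⟨σ, a, b, c⟩ => by
    obtain ⟨n, -, e2, e3⟩ := f5_inv a
    exact par σ c (by rw [e3, show n = 2 * m by omega, pow_mul]; simp)
  have d2 : Dn θ t 2 := ⟨swap (.inr 0) (.inr 1), swap_mul_self _ _, card_support_swap (by simp), ht ▸ IsConj.refl _⟩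
  obtain ⟨e⟩ : Nonempty (Fin 11 ↪ Ω) := Function.Embedding.nonempty_of_card_le (by simpa using h11)
  obtain ⟨V', -, u2, u3, u4, u5⟩ := f5_ext e
  obtain ⟨V, v1, v2, v3, v4, -⟩ := f5_ext (e.sumMap (Function.Embedding.refl (Fin 2)))
  have vl : ∀ x k, V x (.inl (e k)) = e.sumMap (Function.Embedding.refl (Fin 2)) (x (.inl k)) :=
    fun x k => v2 x (.inl k)
  have vr : ∀ x k, V x (.inr k) = e.sumMap (Function.Embedding.refl (Fin 2)) (x (.inr k)) :=
    fun x k => v2 x (.inr k)
  have vn : ∀ x w, w ∉ Set.range e → V x (.inl w) = .inl w := fun x w hw => v3 x _ (by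
    rintro ⟨k | k, hk⟩
    · exact hw ⟨k, Sum.inl.inj hk⟩
    · cases hk)
  have link : ∀ x y, V (Perm.sumCongr x y) = Perm.sumCongr (V' x) y := fun x y => by
    ext1 z
    rcases z with w | k
    · by_cases hw : w ∈ Set.range e
      · obtain ⟨k, rfl⟩ := hw
        rw [vl]; simp [u2]
      · rw [vn _ _ hw]; simp [u3 _ _ hw]
    · rw [vr]; simp
  let Θ : Perm M5 →* G := θ.comp V
  have iΘ : Function.Injective Θ := inj.comp v1
  have dn : ∀ x, x * x = 1 → (IsConj t (Θ x) ↔ Dn θ t x.support.card) := fun x h => by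
    have e : V x * V x = 1 := by rw [← map_mul, h, map_one]
    rw [← v4]
    exact ⟨fun c => ⟨_, e, rfl, c⟩, fun c => c.of e⟩
  let w : alternatingGroup Ω := ⟨V' m5w, mem_alternatingGroup.2 ((u5 _).trans m5_sw)⟩
  have ed : Θ m5s = ι w * t := by rw [← f5_mul ht hi]; exact congrArg θ (link _ _)
  have et : Θ (m5T 0) = t := by
    rw [← ht, m5_T0, ← Perm.sumCongr_one_swap, ← Perm.sumCongr_one_swap, ← map_one V']
    exact congrArg θ (link _ _)
  have cd := (dn _ m5_s.1).2 (by rwa [m5_s.2.1])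
  obtain ⟨g, hg⟩ := isConj_iff.1 cd
  have F' := F.conj g
  rw [hg] at F'
  have h5 : 5 ≤ Fintype.card Ω := by omega
  let H : Subgroup (Perm M5) := centralizer {m5s}
  have cH : ∀ x : H, Commute (Θ x) (Θ m5s) := fun x =>
    Commute.map (mem_centralizer_singleton_iff.1 x.2) Θ
  choose ψ0 hψ0 using fun x : H => F'.aut _ (cH x)
  let ψ : H →* Perm Ω := MonoidHom.mk' ψ0 fun x y => Act.unique F'.inj h5 (hψ0 _) (by
    rw [Subgroup.coe_mul, map_mul]; exact (hψ0 x).mul (hψ0 y))
  have hψ : ∀ x : H, Act (cα g ι) (Θ x) (ψ x) := hψ0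
  have f0 : ∀ x : H, (x : Perm M5) * x = 1 → ∀ a : alternatingGroup Ω, ψ x = a →
      a * a = 1 ∧ (Θ x = cα g ι a ∨ Θ x = cα g ι a * Θ m5s) := fun x h a ha => by
    have a2 : a * a = 1 := Subtype.ext (by
      rw [Subgroup.coe_mul, ← ha, ← map_mul, show x * x = 1 from Subtype.ext h, map_one]; rfl)
    have k := mem_KK.1 (Act.mul_mem_KK (ha ▸ hψ x))
    have c : Commute (Θ x) (cα g ι a) := (hψ x).commute (ha ▸ Commute.refl _)
    have x2 : Θ x * Θ x = 1 := by rw [← map_mul, h, map_one]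
    have l2 : cα g ι a * cα g ι a = 1 := by rw [← map_mul, a2, map_one]
    refine ⟨a2, (F'.two _ k ((F'.tC a).symm.inv_left.mul_left (cH x)) (b_tw_iff.2 ⟨1, ?_⟩)).imp
      (fun e => (inv_mul_eq_one.1 e).symm) fun e => inv_mul_eq_iff_eq_mul.1 e⟩
    rw [pow_one, c.symm.inv_left.mul_pow, inv_pow, sq, sq, x2, l2]; simp
  have cv : ∀ a : alternatingGroup Ω, a * a = 1 →
      (IsConj t (cα g ι a * Θ m5s) ↔ Dn θ t (W a + 2)) := fun a h => by
    rw [← f5_dn ht hi h, ← hg, cα_apply, conj_mul]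
    exact ⟨fun c => c.trans (isConj_iff.2 ⟨g, rfl⟩).symm, fun c => c.trans (isConj_iff.2 ⟨g, rfl⟩)⟩
  have fA : ∀ x : H, (x : Perm M5) * x = 1 → sign (ψ x) = 1 → Dn θ t (x : Perm M5).support.card →
      Dn θ t ((ψ x).support.card + 2) := fun x h s c => by
    obtain ⟨a2, e | e⟩ := f0 x h ⟨_, mem_alternatingGroup.2 s⟩ rfl
    · have c' := (dn _ h).2 c
      rw [e, cα_apply, ← hi] at c'
      exact (par _ (c'.trans (isConj_iff.2 ⟨g, rfl⟩).symm) (by simp [s])).elim
    · exact (cv _ a2).1 (e ▸ (dn _ h).2 c)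
  have fB : ∀ x : H, (x : Perm M5) * x = 1 → sign (ψ x) = 1 → Dn θ t ((ψ x).support.card + 2) →
      Dn θ t (x : Perm M5).support.card ∨ Dn θ t ((x : Perm M5) * m5s).support.card := fun x h s c => by
    obtain ⟨a2, e | e⟩ := f0 x h ⟨_, mem_alternatingGroup.2 s⟩ rfl
    · refine .inr ((dn _ ?_).1 (by rw [map_mul, e]; exact (cv _ a2).2 c))
      rw [(show Commute (x : Perm M5) m5s from mem_centralizer_singleton_iff.1 x.2).symm.mul_mul_mul_comm,
        h, m5_s.1, one_mul]
    · exact .inl ((dn _ h).1 (e ▸ (cv _ a2).2 c))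
  have fC : ∀ x : H, (x : Perm M5) * x = 1 → (x : Perm M5) ≠ 1 → (x : Perm M5) ≠ m5s →
      sign (ψ x) = 1 → (ψ x).support.card ≠ 0 ∧ 4 ∣ (ψ x).support.card := fun x h a b s => by
    refine ⟨fun c => ?_, four_dvd (f0 x h ⟨_, mem_alternatingGroup.2 s⟩ rfl).1⟩
    rcases (f0 x h 1 (card_support_eq_zero.1 c)).2 with e | e
    · exact a (iΘ (by simpa using e))
    · exact b (iΘ (by simpa using e))
  let T : Fin 5 → H := fun i => ⟨m5T i, mem_centralizer_singleton_iff.2 (m5_Ts i)⟩
  let B : Fin 5 → Fin 5 → H := fun i j => ⟨m5B i j, mem_centralizer_singleton_iff.2 (m5_Bs i j)⟩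
  let r : H := ⟨m5r, mem_centralizer_singleton_iff.2 m5_rs⟩
  let y : H := ⟨m5y, mem_centralizer_singleton_iff.2 m5_ys⟩
  have fD : ψ y = 1 → ∀ x : H, (x : Perm M5) * x = 1 → sign (ψ x) = 1 → m5y * x = x * m5y :=
    fun hy x h s => by
    have k := mem_KK.1 (Act.one_iff.1 (hy ▸ hψ y))
    refine iΘ ?_
    rw [map_mul, map_mul]
    rcases (f0 x h ⟨_, mem_alternatingGroup.2 s⟩ rfl).2 with e | e <;> rw [e]
    · exact (k _).eq
    · exact ((k _).mul_right (cH y)).eq
  let η : Fin 5 → Perm Ω := fun i => ψ (T i)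
  have sq : ∀ i, η i * η i = 1 := fun i => by
    rw [← map_mul, show T i * T i = 1 from Subtype.ext (m5_TT i), map_one]
  have cm : ∀ i j, Commute (η i) (η j) := fun i j =>
    Commute.map (show Commute (T i) (T j) from Subtype.ext (m5_Tc i j)) ψ
  have bt : ∀ i j k, ψ (B i j) * η k * (ψ (B i j))⁻¹ = η (swap i j k) := fun i j k => by
    rw [← map_inv, ← map_mul, ← map_mul]; exact congrArg ψ (Subtype.ext (m5_BT i j k))
  have p0 : η 0 * η 1 * η 2 * η 3 * η 4 = 1 := by
    rw [← map_mul, ← map_mul, ← map_mul, ← map_mul]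
    refine Act.unique F'.inj h5 (hψ _) ?_
    rw [show ((T 0 * T 1 * T 2 * T 3 * T 4 : H) : Perm M5) = m5s from m5_pr]
    exact Act.one_iff.2 (mem_KK.2 F'.tC)
  have pr : ∀ i j k l m : Fin 5, [i, j, k, l, m].Nodup → η i * η j * (η k * η l) = η m := by
    intro i j k l m n
    have a : ([i, j, k, l, m].map η).prod = ([0, 1, 2, 3, 4].map η).prod := by
      refine List.Perm.prod_eq' (List.Perm.map _ ?_) ?_
      · exact (List.perm_of_nodup_nodup_toFinset_eq n (by decide) (by
          rw [Finset.eq_univ_of_card [i, j, k, l, m].toFinset (by rw [List.toFinset_card_of_nodup n]; rfl)]; decide))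
      · exact List.pairwise_map.2 (List.pairwise_of_forall fun a b => cm a b)
    simp only [List.map_cons, List.map_nil, List.prod_cons, List.prod_nil, mul_one, ← mul_assoc, p0] at a
    rw [← mul_assoc, eq_inv_of_mul_eq_one_left a, inv_eq_of_mul_eq_one_right (sq m)]
  have s0 : ∀ i, sign (η i) = sign (η 0) := fun i => by
    have := bt 0 i 0
    rw [swap_apply_left] at this
    rw [← this, Perm.sign_mul, Perm.sign_mul, sign_inv, mul_right_comm, Int.units_mul_self, one_mul]
  have s1 : ∀ i, sign (η i) = 1 := fun i => by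
    rw [s0, ← pr 1 2 3 4 0 (by decide), Perm.sign_mul, Perm.sign_mul, Perm.sign_mul, s0 1, s0 2, s0 3, s0 4,
      Int.units_mul_self]
  have c0 : ∀ i, (η i).support.card = (η 0).support.card := fun i => by
    have := bt 0 i 0
    rw [swap_apply_left] at this
    rw [← this, card_support_conj]
  have cc : ∀ u v i j, (η (swap u v i) * η (swap u v j)).support.card = (η i * η j).support.card :=
    fun u v i j => by rw [← bt, ← bt, conj_mul, card_support_conj]
  have c1 : ∀ i j, i ≠ j → (η i * η j).support.card = (η 0 * η 1).support.card := fun i j n => by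
    have a : swap 0 i 1 ≠ i := fun c => by
      simpa using (swap (0 : Fin 5) i).injective (c.trans (swap_apply_left 0 i).symm)
    rw [← cc 0 i 0 1, ← cc (swap 0 i 1) j (swap 0 i 0), swap_apply_left, swap_apply_left,
      swap_apply_of_ne_of_ne a.symm n]
  have k1 := fA (T 0) (m5_TT 0) (s1 0) (by rwa [show ((T 0 : H) : Perm M5) = m5T 0 from rfl, (m5_cT 0).1])
  have k1' := fC (T 0) (m5_TT 0) (m5_cT 0).2.1 (m5_cT 0).2.2 (s1 0)
  obtain ⟨q1, q2, q3, q4, q5⟩ := m5_cTT 0 1 (by decide)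
  have s01 : sign (ψ (T 0 * T 1)) = 1 := by rw [map_mul, Perm.sign_mul, s1, s1, one_mul]
  have k2 : ¬ Dn θ t ((η 0 * η 1).support.card + 2) := fun c =>
    (fB (T 0 * T 1) q1 s01 (by rwa [map_mul])).elim (fun c => n4 4 (dvd_refl _) (q2 ▸ c))
      fun c => n6 (q3 ▸ c)
  have k2' := fC (T 0 * T 1) q1 q4 q5 s01
  rw [map_mul] at k2'
  change Dn θ t ((η 0).support.card + 2) at k1
  change (η 0).support.card ≠ 0 ∧ 4 ∣ (η 0).support.card at k1'
  change (η 0 * η 1).support.card ≠ 0 ∧ 4 ∣ (η 0 * η 1).support.card at k2'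
  have a1 : (η 0).support.card ≠ 4 := fun c => n6 (by rwa [c] at k1)
  have a2 : (η 0 * η 1).support.card ≠ 8 := fun c => k2 (by rwa [c])
  have a3 : (η 0 * η 1).support.card ≠ (η 0).support.card := fun c => k2 (by rwa [c])
  by_cases h13 : 13 ≤ Fintype.card Ω
  · have wc : (w : Perm Ω).support.card = 8 := (u4 _).trans m5_s.2.2
    have ty : Ty ι t (Θ m5s) w := ⟨cd, ed ▸ (F.tC w).symm.mul_left (Commute.refl t), by
      simpa [ed] using (Act.self w).mul (Act.one_iff.2 (mem_KK.2 F.tC))⟩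
    have h5' : 5 ≤ (w : Perm Ω).supportᶜ.card := by rw [Finset.card_compl]; omega
    obtain ⟨i1, i2⟩ := F.ci ty (fun c => (m5_cT 0).2.2 (iΘ (et.trans c.symm))) hg (et ▸ hψ (T 0)) h5'
    change (η 0).support.card = _ at i1
    have fx : ∀ z, η 0 z = z → ∀ i, η i z = z := fun z hz i => by
      have m : Θ (B 0 i) ∈ HC (cα g ι) (η 0).supportᶜ := by
        rw [HC, ← i2]
        refine b_mem_HC.2 fun a ha => ?_
        rw [← hi]
        refine Commute.map (Perm.Disjoint.commute fun z => ?_) θ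
        rcases z with z | k
        · by_cases hw : z ∈ Set.range e
          · obtain ⟨k, rfl⟩ := hw
            by_cases c : m5B 0 i (.inl k) = .inl k
            · exact .inl (by rw [vl]; exact congrArg _ c)
            · refine .inr (congrArg Sum.inl (notMem_support.1 fun b => ?_))
              refine Finset.mem_compl.1 ((mem_altOn.1 ha).1 b) (mem_support.2 fun b => m5_Bw i k c ?_)
              exact e.injective ((u2 _ _).symm.trans b)
          · exact .inl (vn _ _ hw)
        · exact .inr rfl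
      have b3 := (b_cen (by rw [Finset.card_compl]; omega) (b_act_cen F'.inj m (hψ _))
        (Finset.mem_compl.2 (notMem_support.2 hz))).2
      have b2 : ψ (B 0 i) * ψ (B 0 i) = 1 := by
        rw [← map_mul, show B 0 i * B 0 i = 1 from Subtype.ext (m5_BB 0 i), map_one]
      rw [pow_succ, pow_two, b2, one_mul] at b3
      have := bt 0 i 0
      rw [swap_apply_left] at this
      rw [← this, inv_eq_of_mul_eq_one_right b2, Perm.mul_apply, Perm.mul_apply, b3, hz, b3]
    have : (η 0 * η 1).support ⊆ (η 0).support := fun z hz => mem_support.2 fun c =>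
      mem_support.1 hz (by rw [Perm.mul_apply, fx z c, c])
    have := Finset.card_le_card this
    exact F5.big ⟨sq, cm, pr, fun i => by rw [c0]; omega, fun i j n => by rw [c1 i j n]; omega⟩ fx
  have b1 := Finset.card_le_univ (η 0).support
  have b2 := Finset.card_le_univ (η 0 * η 1).support
  have b3 : (η 0).support.card ≤ 2 * (η 0 * η 1).support.card := by
    have a := Finset.card_le_card (support_mul_le (η 1 * η 2) (η 3 * η 4))
    have b := Finset.card_union_le (η 1 * η 2).support (η 3 * η 4).support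
    rw [pr 1 2 3 4 0 (by decide), Finset.sup_eq_union] at a
    rw [c1 1 2 (by decide), c1 3 4 (by decide)] at b
    omega
  have b4 : (η 0 * η 1).support.card ≠ 12 := fun c => by
    have fp : ∀ i j, i ≠ j → ∀ z, (η i * η j) z ≠ z := fun i j n z => mem_support.1 (by
      rw [Finset.eq_univ_of_card (η i * η j).support (by rw [c1 i j n]; omega)]; exact Finset.mem_univ z)
    have c4 : (η 4).supportᶜ.card = 4 := by rw [Finset.card_compl, c0]; omega
    obtain ⟨x, hx⟩ := Finset.card_pos.1 (by omega : 0 < (η 4).supportᶜ.card)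
    have hx' := notMem_support.1 (Finset.mem_compl.1 hx)
    have ne : ∀ i j, i ≠ j → η i x ≠ η j x := fun i j n c => fp i j n x (by
      rw [Perm.mul_apply, ← c, ← Perm.mul_apply, sq]; rfl)
    have := Finset.card_le_card_of_injOn (s := Finset.univ) (t := (η 4).supportᶜ) (fun i => η i x)
      (fun i _ => Finset.mem_coe.2 (Finset.mem_compl.2 (notMem_support.2 (by
        rw [← Perm.mul_apply, (cm 4 i).eq, Perm.mul_apply, hx']))))
      (fun i _ j _ c => by_contra fun n => ne i j n c)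
    simp only [Finset.card_univ, Fintype.card_fin] at this
    omega
  have h : F5 η := ⟨sq, cm, pr, fun i => by rw [c0]; omega, fun i j n => by rw [c1 i j n]; omega⟩
  have hy : ψ y = 1 := h.three (by omega)
    (by rw [← map_pow, show y ^ 3 = 1 from Subtype.ext m5_y3.1, map_one])
    fun i => Commute.map (show Commute y (T i) from Subtype.ext (m5_y i)) ψ
  have sr : sign (ψ r) ≠ 1 := fun c => m5_y3.2.2.1 (fD hy r m5_y3.2.1 c).symm
  have sb : sign (ψ (r * B 0 1)) ≠ 1 := fun c => m5_y3.2.2.2.2 (fD hy _ m5_y3.2.2.2.1 c).symm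
  rw [map_mul, Perm.sign_mul] at sb
  have sb' : sign (ψ (B 0 1)) = 1 := by_contra fun c => sb (by
    rw [Int.units_ne_iff_eq_neg.1 sr, Int.units_ne_iff_eq_neg.1 c]; simp)
  refine h.fin (by omega) (β := ψ (B 0 1)) ?_ (bt 0 1) fun i hi => ?_
  · rw [← map_mul, show B 0 1 * B 0 1 = 1 from Subtype.ext (m5_BB 0 1), map_one]
  obtain ⟨q1, q2, q3, q4, q5⟩ := m5_cBT i hi
  have s : sign (ψ (B 0 1 * T i)) = 1 := by rw [map_mul, Perm.sign_mul, sb', s1, one_mul]
  have k := fC (B 0 1 * T i) q1 q4 q5 s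
  have k' : (ψ (B 0 1 * T i)).support.card ≠ 8 := fun c =>
    (fB _ q1 s (by rwa [c])).elim (fun c => n6 (q2 ▸ c)) fun c => n4 8 (by decide) (q3 ▸ c)
  have := Finset.card_le_univ (ψ (B 0 1 * T i)).support
  rw [map_mul] at k k' this
  change (ψ (B 0 1) * ψ (T i)).support.card = 4 ∨ (ψ (B 0 1) * ψ (T i)).support.card = 12
  omega

theorem five_false (F : Fr ι t) (h11 : 11 ≤ Fintype.card Ω) (inj : Function.Injective θ)
    (par : ∀ σ, IsConj t (θ σ) → sign σ ≠ 1) (h4 : ¬ J ι t 4) {σ : Perm (Ω2 Ω)} (h2 : σ * σ = 1)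
    (h : σ.support.card = 10) : ¬ IsConj t (θ σ) := fun c =>
  five_dn ht hi F h11 inj par h4 ⟨σ, h2, h, c⟩

end

end CfsgLib.ANX
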