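import Cfsg.Agent.Lib.ANX.Defs2

/-! Part Q (captain helper5): definitions. -/

set_option autoImplicit false
set_option linter.unusedSectionVars false

namespace CfsgLib.ANX

open Subgroup Equiv Equiv.Perm Cfsg CfsgLib.Tech CfsgLib.Alt4 CfsgLib.AltSyl CfsgLib.NatSyl CfsgLib.Alt.FinP

universe u

variable {Ω : Type} [Fintype Ω] [DecidableEq Ω] {G : Type u} [Group G] [Finite G]
  {ι : alternatingGroup Ω →* G} {t g : G} {p p' : alternatingGroup Ω}

/-- `v` agrees with `p` on its support (a product of 2-cycles of `p`) -/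
def Ag (p v : Perm Ω) : Prop := ∀ x, v x = x ∨ v x = p x
/-- `v` fixes the fixed points of `p` -/
def In (p v : Perm Ω) : Prop := ∀ x, p x = x → v x = x
/-- `v` fixes the points moved by `p` -/
def Ou (p v : Perm Ω) : Prop := ∀ x, p x ≠ x → v x = x

theorem in_ou {p v w : Perm Ω} (h : In p v) (h' : Ou p w) : Commute v w :=
  Perm.Disjoint.commute fun x => (em (p x = x)).imp (h x) (h' x)

theorem Ag.in {p v : Perm Ω} (h : Ag p v) : In p v := fun x e => (h x).elim id fun k => k.trans e

theorem Ag.self (p : Perm Ω) : Ag p p := fun _ => .inr rfl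

theorem Ag.comm {p v : Perm Ω} (hp : p * p = 1) (h : Ag p v) : Commute v p := Equiv.ext fun x => by
  have pp : ∀ y, p (p y) = y := fun y => congrArg (fun f : Perm Ω => f y) hp
  change v (p x) = p (v x)
  rcases h x with e | e <;> rcases h (p x) with e' | e'
  · rw [e, e']
  · rw [pp] at e'
    rw [e, e']; exact (v.injective (e'.trans e.symm)).symm
  · have := v.injective (e'.trans e.symm)
    rw [e', e, this, this]
  · rw [e', e]

theorem Ag.sq {p v : Perm Ω} (hp : p * p = 1) (h : Ag p v) : v * v = 1 := Equiv.ext fun x => by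
  have pp : ∀ y, p (p y) = y := fun y => congrArg (fun f : Perm Ω => f y) hp
  change v (v x) = x
  rcases h x with e | e
  · rw [e, e]
  · rw [e, show v (p x) = p (v x) from congrArg (fun f : Perm Ω => f x) (h.comm hp).eq, e, pp]

theorem Ag.mul {p v w : Perm Ω} (hp : p * p = 1) (h : Ag p v) (h' : Ag p w) : Ag p (v * w) := fun x => by
  have pp : ∀ y, p (p y) = y := fun y => congrArg (fun f : Perm Ω => f y) hp
  change v (w x) = x ∨ v (w x) = p x
  rcases h' x with e | e
  · rw [e]; exact h x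
  · rw [e]; exact (h (p x)).symm.imp (fun k => k.trans (pp x)) id

theorem Ag.conj {p v m : Perm Ω} (hm : Commute m p) (h : Ag p v) : Ag p (m * v * m⁻¹) := fun x => by
  change m (v (m⁻¹ x)) = x ∨ m (v (m⁻¹ x)) = p x
  refine (h (m⁻¹ x)).imp (fun e => by rw [e]; simp) fun e => ?_
  rw [e, show m (p (m⁻¹ x)) = p (m (m⁻¹ x)) from congrArg (fun f : Perm Ω => f (m⁻¹ x)) hm.eq]; simp

theorem Ou.mul {p v w : Perm Ω} (h : Ou p v) (h' : Ou p w) : Ou p (v * w) := fun x e => by
  change v (w x) = x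
  rw [h' x e, h x e]

theorem Ou.conj {p v m : Perm Ω} (hm : Commute m p) (h : Ou p v) : Ou p (m * v * m⁻¹) := fun x e => by
  change m (v (m⁻¹ x)) = x
  rw [h (m⁻¹ x) fun k => e ?_]
  · simp
  · have := congrArg (fun f : Perm Ω => f (m⁻¹ x)) hm.eq
    simp only [Perm.mul_apply, k] at this
    simpa using this.symm

theorem Ou.comm {p v : Perm Ω} (h : Ou p v) : Commute p v := in_ou (fun _ e => e) h

/-- the two views: `g t g⁻¹ = t ι p`, `g⁻¹ t g = t ι p'` -/
structure Vw (ι : alternatingGroup Ω →* G) (t g : G) (p p' : alternatingGroup Ω) : Prop where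
  pp : p * p = 1
  pp' : p' * p' = 1
  h1 : g * t * g⁻¹ = t * ι p
  h2 : g⁻¹ * t * g = t * ι p'

theorem Vw.symm (V : Vw ι t g p p') : Vw ι t g⁻¹ p' p := ⟨V.pp', V.pp, by rw [inv_inv]; exact V.h2, by
  rw [inv_inv]; exact V.h1⟩

/-- `t` is isolated in the centraliser of every 3-cycle -/
def N3 (ι : alternatingGroup Ω →* G) (t : G) : Prop := ∀ Φ : Finset Ω, Φ.card = 3 → ¬ NZ (HC ι Φ) t

end CfsgLib.ANX
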