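import Cfsg.Agent.Lib.ANX.PB
import Cfsg.Agent.Lib.ANX.QDefs

/-! Row QG1a: involutions and elements of order 3 in `C(t)`, the two views. -/

set_option autoImplicit false
set_option linter.unusedSectionVars false

namespace CfsgLib.ANX

open Subgroup Equiv Equiv.Perm Cfsg CfsgLib.Tech CfsgLib.Alt4 CfsgLib.AltSyl CfsgLib.NatSyl CfsgLib.Alt.FinP

universe u

variable {Ω : Type} [Fintype Ω] [DecidableEq Ω] {G : Type u} [Group G] [Finite G]
  {ι : alternatingGroup Ω →* G} {t g : G} {p p' : alternatingGroup Ω}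

theorem Fr.q_even (F : Fr ι t) (h5 : 5 ≤ Fintype.card Ω) {x : G} (hx : Commute x t) (h2 : x * x = 1)
    {a : alternatingGroup Ω} (ha : Act ι x a) : x = ι a ∨ x = t * ι a := by
  have hk := mem_KK.1 ha.mul_mem_KK
  have a2 : a * a = 1 := by
    have := ha.mul ha
    rw [h2] at this
    exact Subtype.ext (this.unique F.inj h5 Act.one)
  have k2 : (ι a)⁻¹ * x * ((ι a)⁻¹ * x) = 1 := by
    rw [← mul_assoc, ((hk a).inv_right).eq, ← mul_assoc, ← map_inv, ← map_mul, ← mul_inv_rev, a2, inv_one, map_one,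
      one_mul, h2]
  have tw : Tw ((ι a)⁻¹ * x) := IsPGroup.of_card_dvd_pow (n := 1) (by
    rw [Nat.card_zpowers, pow_one]
    exact orderOf_dvd_of_pow_eq_one (by rw [pow_two, k2]))
  rcases F.two _ hk ((F.tC a).symm.inv_left.mul_left hx) tw with e | e
  · exact .inl (inv_mul_eq_one.1 e).symm
  · exact .inr (by rw [(F.tC a).eq, ← e, mul_inv_cancel_left])

theorem Fr.q_ex3 (F : Fr ι t) (h5 : 5 ≤ Fintype.card Ω) {X₁ X₂ : G} (c1 : Commute X₁ t) (c2 : Commute X₂ t)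
    (e1 : X₁ ^ 3 = 1) (e2 : X₂ ^ 3 = 1) (e : X₁ * X₂ * (X₁ * X₂) = 1) :
    ∃ φ₁ φ₂ : alternatingGroup Ω, Act ι X₁ φ₁ ∧ Act ι X₂ φ₂ ∧ φ₁ ^ 3 = 1 ∧ φ₂ ^ 3 = 1 ∧
      X₁ * X₂ = ι (φ₁ * φ₂) := by
  have key : ∀ X : G, Commute X t → X ^ 3 = 1 → ∃ φ : alternatingGroup Ω, Act ι X φ ∧ φ ^ 3 = 1 ∧
      ((ι φ)⁻¹ * X) ^ 3 = 1 := by
    intro X c e
    obtain ⟨σ, hσ⟩ := F.aut X c
    have s3 : σ ^ 3 = 1 := by
      have := hσ.pow 3
      rw [e] at this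
      exact this.unique F.inj h5 Act.one
    have sg : sign σ = 1 := by
      have := congrArg sign s3
      rwa [map_pow, map_one, pow_succ, Int.units_sq, one_mul] at this
    let φ : alternatingGroup Ω := ⟨σ, mem_alternatingGroup.2 sg⟩
    have hφ : Act ι X φ := hσ
    have f3 : φ ^ 3 = 1 := Subtype.ext s3
    refine ⟨φ, hφ, f3, ?_⟩
    have := (mem_KK.1 hφ.mul_mem_KK φ).symm.mul_pow 3
    rw [mul_inv_cancel_left, e, ← map_pow, f3, map_one, one_mul] at this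
    exact this.symm
  obtain ⟨φ₁, a1, f1, k1⟩ := key X₁ c1 e1
  obtain ⟨φ₂, a2, f2, k2⟩ := key X₂ c2 e2
  refine ⟨φ₁, φ₂, a1, a2, f1, f2, (F.q_even h5 (c1.mul_left c2) e (a := φ₁ * φ₂) (a1.mul a2)).resolve_right
    fun h => F.t1 ?_⟩
  have c : Commute t ((ι φ₂)⁻¹ * X₂) := (F.tC φ₂).inv_right.mul_right c2.symm
  have e3 : (ι φ₁)⁻¹ * X₁ = t * ((ι φ₂)⁻¹ * X₂)⁻¹ := by
    rw [eq_mul_inv_iff_mul_eq, ← mul_assoc, ((mem_KK.1 a1.mul_mem_KK φ₂).inv_right).eq, mul_assoc, mul_assoc, h,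
      (F.tC _).eq, map_mul]
    group
  rw [e3, c.inv_right.mul_pow, inv_pow, k2, inv_one, mul_one, pow_succ, pow_two, F.t2, one_mul] at k1
  exact k1

/-- `t ι y` has type `y` -/
theorem Fr.q_ty (F : Fr ι t) {y : alternatingGroup Ω} (h : IsConj t (t * ι y)) : Ty ι t (t * ι y) y := by
  refine ⟨h, (Commute.refl t).mul_left (F.tC y).symm, ?_⟩
  have := (Act.one_iff.2 (mem_KK.2 F.tC)).mul (Act.self (α := ι) y)
  rwa [one_mul] at this

/-- the action of `g⁻¹ ι m g` for `m` commuting with `p` -/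
theorem Vw.q_act (F : Fr ι t) (V : Vw ι t g p p') {m : alternatingGroup Ω} (hm : Commute m p) :
    Commute (g⁻¹ * ι m * g) t ∧ ∃ φ, Act ι (g⁻¹ * ι m * g) φ ∧ Commute φ p' := by
  have k : ∀ x, Commute (ι m) x → Commute (g⁻¹ * ι m * g) (g⁻¹ * x * g) := fun x h => by
    simpa using h.map (MulAut.conj g⁻¹)
  have c1 : Commute (g⁻¹ * ι m * g) t := by
    have := k (g * t * g⁻¹) (by rw [V.h1]; exact (F.tC m).symm.mul_right (hm.map ι))
    rwa [show g⁻¹ * (g * t * g⁻¹) * g = t by group] at this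
  obtain ⟨φ, hφ⟩ := F.aut _ c1
  refine ⟨c1, φ, hφ, hφ.commute' F.inj ?_⟩
  have := c1.inv_right.mul_right (k t (F.tC m).symm)
  rwa [V.h2, inv_mul_cancel_left] at this

theorem Vw.q_p (F : Fr ι t) (V : Vw ι t g p p') : g⁻¹ * ι p * g = ι p' := by
  have e : ι p = t⁻¹ * (g * t * g⁻¹) := by rw [V.h1, inv_mul_cancel_left]
  calc g⁻¹ * ι p * g = (g⁻¹ * t * g)⁻¹ * t := by rw [e]; group
    _ = ι p'⁻¹ := by rw [V.h2, map_inv]; group
    _ = ι p' := by rw [inv_eq_of_mul_eq_one_right V.pp']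

end CfsgLib.ANX
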