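import Cfsg.Agent.Lib.ANX.U5P
import Cfsg.Agent.Lib.ANX.UPa

/-! ANX part H, bridge: five commuting involutions permuted by an element of order five, on ten points. -/

set_option autoImplicit false
set_option linter.unusedSectionVars false

namespace CfsgLib.ANX

open Subgroup Equiv Equiv.Perm

variable {Ω : Type} [Fintype Ω] [DecidableEq Ω]

theorem b1p_fin : ∀ a b c d e : Fin 5, (∀ i, ![a, b, c, d, e] (![a, b, c, d, e] i) = i) →
    (∀ i, ![a, b, c, d, e] (![a, b, c, d, e] (i - 1) + 1) = ![a, b, c, d, e] (![a, b, c, d, e] i - 1) + 1) →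
    (∀ i, ![a, b, c, d, e] (![a, b, c, d, e] (i - 1 - 1) + 1 + 1) =
      ![a, b, c, d, e] (![a, b, c, d, e] i - 1 - 1) + 1 + 1) → ∀ i, ![a, b, c, d, e] i = i := by
  decide +kernel

theorem b1p_blk {σ η : Perm Ω} (η5 : η ^ 5 = 1) (σ2 : σ * σ = 1)
    (hc : ∀ i : ℕ, Commute σ (η ^ i * σ * (η ^ i)⁻¹)) (S : Fin 5 → Ω → Prop) (ne : ∀ i, ∃ x, S i x)
    (dj : ∀ i j x, S i x → S j x → i = j) (hη : ∀ i x, S i x → S (i + 1) (η x))
    (hσ : ∀ i, ∃ j, ∀ x, S i x → S j (σ x)) (i : Fin 5) (x : Ω) (hx : S i x) : S i (σ x) := by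
  choose p hp using hσ
  have e4 : η⁻¹ = η * η * η * η := inv_eq_of_mul_eq_one_right (by rw [← η5]; simp [pow_succ, mul_assoc])
  have hη' : ∀ i x, S i x → S (i - 1) (η⁻¹ x) := fun i x h => by
    have := hη _ _ (hη _ _ (hη _ _ (hη _ _ h)))
    rw [(by decide : ∀ i : Fin 5, i + 1 + 1 + 1 + 1 = i - 1)] at this
    rw [e4]; exact this
  have ep : p = ![p 0, p 1, p 2, p 3, p 4] := by
    funext i; fin_cases i <;> rfl
  have key := b1p_fin (p 0) (p 1) (p 2) (p 3) (p 4)
  rw [← ep] at key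
  have := key (fun i => ?_) (fun i => ?_) (fun i => ?_) i
  · exact this ▸ hp i x hx
  · obtain ⟨x, hx⟩ := ne i
    have h1 := hp _ _ (hp _ _ hx)
    rw [← Perm.mul_apply, σ2] at h1
    exact dj _ _ _ h1 hx
  · obtain ⟨x, hx⟩ := ne i
    have h1 := hp _ _ (hη _ _ (hp _ _ (hη' _ _ hx)))
    have h2 := hη _ _ (hp _ _ (hη' _ _ (hp _ _ hx)))
    have e := congrArg (fun f : Perm Ω => f x) (hc 1).eq
    simp only [pow_one, Perm.mul_apply] at e
    exact dj _ _ _ (e ▸ h1) h2
  · obtain ⟨x, hx⟩ := ne i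
    have h1 := hp _ _ (hη _ _ (hη _ _ (hp _ _ (hη' _ _ (hη' _ _ hx)))))
    have h2 := hη _ _ (hη _ _ (hp _ _ (hη' _ _ (hη' _ _ (hp _ _ hx)))))
    have e := congrArg (fun f : Perm Ω => f x) (hc 2).eq
    simp only [pow_two, mul_inv_rev, Perm.mul_apply] at e
    exact dj _ _ _ (e ▸ h1) h2

theorem b1p_mod {η : Perm Ω} (η5 : η ^ 5 = 1) (k : ℕ) : η ^ k = η ^ (k % 5) := by
  conv_lhs => rw [← Nat.div_add_mod k 5, pow_add, pow_mul, η5, one_pow, one_mul]

theorem b1p_succ {η : Perm Ω} (η5 : η ^ 5 = 1) (i : Fin 5) (x : Ω) :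
    η ((η ^ i.val) x) = (η ^ (i + 1).val) x := by
  rw [← Perm.mul_apply, ← pow_succ', b1p_mod η5, Fin.val_add]; rfl

theorem b1p_inj {η : Perm Ω} (η5 : η ^ 5 = 1) {a : Ω} (ha : η a ≠ a) {i j : Fin 5}
    (e : (η ^ i.val) a = (η ^ j.val) a) : i = j := by
  by_contra ne
  wlog h : i.val < j.val generalizing i j
  · exact this e.symm (Ne.symm ne) (by have := Fin.val_ne_of_ne ne; omega)
  obtain ⟨k, hk⟩ := Nat.exists_eq_add_of_lt h
  rw [hk, add_assoc, pow_add, Perm.mul_apply] at e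
  exact ha (upa_fix η5 (k := k + 1) (by have := j.2; omega) ((η ^ i.val).injective e).symm)

theorem b1p_free (h10 : Fintype.card Ω = 10) {σ η : Perm Ω} (η5 : η ^ 5 = 1) (σ2 : σ * σ = 1)
    (hc : ∀ i : ℕ, Commute σ (η ^ i * σ * (η ^ i)⁻¹))
    (hp : σ * (η * σ * η⁻¹) * (η ^ 2 * σ * (η ^ 2)⁻¹) * (η ^ 3 * σ * (η ^ 3)⁻¹) *
      (η ^ 4 * σ * (η ^ 4)⁻¹) = 1) (hn : η * σ * η⁻¹ ≠ σ) (x : Ω) : η x ≠ x := by
  intro hx
  have h9 : η.support.card ≤ 9 := by
    have : η.support.card < Fintype.card Ω :=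
      Finset.card_lt_card (Finset.ssubset_univ_iff.2 fun e => by
        have : x ∈ η.support := e ▸ Finset.mem_univ x
        exact mem_support.1 this hx)
    omega
  have h1 : η ≠ 1 := by rintro rfl; simp at hn
  obtain ⟨cy, c5⟩ := upa_cyc η5 h9 h1
  have s5 := upa_five η5 h9 σ2 rfl (a2 := η ^ 2 * σ * (η ^ 2)⁻¹) (by simp [pow_two, mul_assoc])
    (a3 := η ^ 3 * σ * (η ^ 3)⁻¹) (by group) (a4 := η ^ 4 * σ * (η ^ 4)⁻¹) (by group)
    (by simpa using hc 1) (hc 2) hp
  have ss : ∀ y, σ (σ y) = y := fun y => by rw [← Perm.mul_apply, σ2]; rfl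
  have c1 : ∀ x, η x = x → η (σ x) = σ x := fun x hx => by
    by_contra hy
    have mv : σ x ≠ x := fun e => hy (by rw [e, hx])
    have sub : insert x η.support ⊆ σ.support := fun y hy' => by
      rcases Finset.mem_insert.1 hy' with rfl | hy'
      · exact mem_support.2 mv
      obtain ⟨k, rfl⟩ := cy.exists_pow_eq hy (mem_support.1 hy')
      have e := congrArg (fun f : Perm Ω => f x) (hc k).eq
      have i1 : (η ^ k)⁻¹ x = x := by
        rw [Perm.inv_eq_iff_eq]; exact (Perm.pow_apply_eq_self_of_apply_eq_self hx k).symm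
      simp only [Perm.mul_apply, i1] at e
      refine mem_support.2 fun e' => mv ?_
      rw [e'] at e
      have := σ.injective ((η ^ k).injective e)
      rw [eq_comm, Perm.inv_eq_iff_eq, Perm.pow_apply_eq_self_of_apply_eq_self hx k] at this
      exact this
    have := Finset.card_le_card sub
    rw [Finset.card_insert_of_notMem (by simpa using hx)] at this
    omega
  obtain ⟨a, ha, -⟩ := id cy
  have orb : ∀ y, η y ≠ y → ∃ i : Fin 5, y = (η ^ i.val) a := fun y hy => by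
    obtain ⟨k, rfl⟩ := cy.exists_pow_eq ha hy
    exact ⟨⟨k % 5, Nat.mod_lt _ (by norm_num)⟩, by rw [b1p_mod η5]⟩
  have mv : ∀ k : ℕ, η ((η ^ k) a) ≠ (η ^ k) a := fun k e => ha ((η ^ k).injective (by
    rw [← Perm.mul_apply, ← pow_succ, pow_succ', Perm.mul_apply, e]))
  have fx : ∀ y, η y ≠ y → σ y = y := fun y hy => by
    obtain ⟨i, rfl⟩ := orb y hy
    refine b1p_blk η5 σ2 hc (fun i x => x = (η ^ i.val) a) (fun i => ⟨_, rfl⟩)
      (fun i j x h1 h2 => b1p_inj η5 ha (h1.symm.trans h2))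
      (fun i x h => by rw [h, b1p_succ η5]) (fun i => ?_) i _ rfl
    obtain ⟨j, hj⟩ := orb (σ ((η ^ i.val) a)) fun e => mv i.val (by simpa [ss] using c1 _ e)
    exact ⟨j, fun x h => h ▸ hj⟩
  refine hn (Equiv.ext fun y => ?_)
  by_cases hy : η y = y
  · have : η⁻¹ y = y := by rw [Perm.inv_eq_iff_eq]; exact hy.symm
    simp only [Perm.mul_apply, this, c1 y hy]
  · have : η (η⁻¹ y) ≠ η⁻¹ y := fun e => hy (by
      have e' : η⁻¹ y = y := by simpa using e.symm
      rw [e'] at e; exact e)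
    simp only [Perm.mul_apply, fx _ this, fx _ hy]
    simp

theorem b1p_five (h10 : Fintype.card Ω = 10) {σ ζ η φ : Perm Ω} (η5 : η ^ 5 = 1) (σ2 : σ * σ = 1)
    (hc : ∀ i : ℕ, Commute σ (η ^ i * σ * (η ^ i)⁻¹))
    (hp : σ * (η * σ * η⁻¹) * (η ^ 2 * σ * (η ^ 2)⁻¹) * (η ^ 3 * σ * (η ^ 3)⁻¹) *
      (η ^ 4 * σ * (η ^ 4)⁻¹) = 1) (hn : η * σ * η⁻¹ ≠ σ) (ζ2 : ζ * ζ = 1) (ζ1 : ζ ≠ 1)
    (ζη : Commute ζ η) (ζσ : Commute ζ σ) (φη : φ * η * φ⁻¹ = η ^ 2)
    (φσ : Commute φ σ) : ∃ x, σ * ζ = swap x (ζ x) ∧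
      Function.Bijective fun p : Fin 5 × Fin 2 => (ζ ^ p.2.val) ((η ^ p.1.val) x) := by
  have fr := b1p_free h10 η5 σ2 hc hp hn
  have zz : ∀ y, ζ (ζ y) = y := fun y => by rw [← Perm.mul_apply, ζ2]; rfl
  have ap : ∀ {a b : Perm Ω}, Commute a b → ∀ y, a (b y) = b (a y) := fun h y =>
    congrArg (fun f : Perm Ω => f y) h.eq
  have fz : ∀ y, ζ y ≠ y := by
    have d5 := u5p_inv (p := 5) (by norm_num) η5 (S := ζ.support) (fun y hy => mem_support.2 fun e =>
      mem_support.1 hy (η.injective (by rw [← ap ζη, e]))) fun y _ => fr y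
    have d2 := u5p_dvd (γ := ζ) Nat.prime_two (by rw [pow_two, ζ2])
    have le := Finset.card_le_univ ζ.support
    have n0 : ζ.support.card ≠ 0 := by simpa using ζ1
    have : ζ.support = Finset.univ := Finset.eq_univ_of_card _ (by omega)
    exact fun y => mem_support.1 (this ▸ Finset.mem_univ y)
  have nz : ∀ y (i j : Fin 5), ζ ((η ^ i.val) y) ≠ (η ^ j.val) y := fun y i j e => by
    have e2 : (η ^ (i + i).val) y = (η ^ (j + j).val) y := by
      rw [Fin.val_add, Fin.val_add, ← b1p_mod η5, ← b1p_mod η5, pow_add, pow_add, Perm.mul_apply,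
        Perm.mul_apply]
      apply ζ.injective
      conv_rhs => rw [← e, ap (ζη.pow_right _), zz]
      rw [ap (ζη.pow_right _), e, ← Perm.mul_apply, ← Perm.mul_apply, ← pow_add, ← pow_add, add_comm]
    have : i = j := (by decide : ∀ i j : Fin 5, i + i = j + j → i = j) _ _ (b1p_inj η5 (fr y) e2)
    exact fz _ (this ▸ e)
  have bij : ∀ y, Function.Bijective fun p : Fin 5 × Fin 2 => (ζ ^ p.2.val) ((η ^ p.1.val) y) := fun y => by
    refine (Fintype.bijective_iff_injective_and_card _).2 ⟨?_, by simp [h10]⟩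
    rintro ⟨i, a⟩ ⟨j, b⟩ e
    fin_cases a <;> fin_cases b <;> simp only [pow_zero, pow_one, Perm.one_apply] at e
    · exact Prod.ext (b1p_inj η5 (fr y) e) rfl
    · exact absurd e.symm (nz _ _ _)
    · exact absurd e (nz _ _ _)
    · exact Prod.ext (b1p_inj η5 (fr y) (ζ.injective e)) rfl
  have orb : ∀ y x, ∃ i : Fin 5, x = (η ^ i.val) y ∨ x = ζ ((η ^ i.val) y) := fun y x => by
    obtain ⟨⟨i, a⟩, e⟩ := (bij y).2 x
    refine ⟨i, ?_⟩
    fin_cases a <;> simp only [pow_zero, pow_one, Perm.one_apply] at e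
    exacts [.inl e.symm, .inr e.symm]
  have loc : ∀ x, σ x = x ∨ σ x = ζ x := fun x => by
    have := b1p_blk η5 σ2 hc (fun i y => y = (η ^ i.val) x ∨ y = ζ ((η ^ i.val) x))
      (fun i => ⟨_, .inl rfl⟩) (fun i j y h1 h2 => ?_) (fun i y h => ?_) (fun i => ?_) 0 x (.inl rfl)
    · simpa using this
    · rcases h1 with h1 | h1 <;> rcases h2 with h2 | h2
      · exact b1p_inj η5 (fr x) (h1.symm.trans h2)
      · exact absurd (h2.symm.trans h1) (nz _ _ _)
      · exact absurd (h1.symm.trans h2) (nz _ _ _)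
      · exact b1p_inj η5 (fr x) (ζ.injective (h1.symm.trans h2))
    · rcases h with h | h
      · exact .inl (by rw [h, b1p_succ η5])
      · exact .inr (by rw [h, ← ap ζη, b1p_succ η5])
    · obtain ⟨j, hj⟩ := orb x (σ ((η ^ i.val) x))
      refine ⟨j, fun y h => ?_⟩
      rcases h with h | h
      · rw [h]; exact hj
      · rw [h, ← ap ζσ]
        rcases hj with hj | hj
        · exact .inr (by rw [hj])
        · exact .inl (by rw [hj, zz])
  have φk : ∀ (k : ℕ) y, φ ((η ^ k) y) = (η ^ (2 * k)) (φ y) := fun k y => by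
    rw [pow_mul, ← φη, conj_pow]; simp
  obtain ⟨x, hx⟩ : ∃ x, φ x = x ∨ φ x = ζ x := by
    obtain ⟨y⟩ : Nonempty Ω := Fintype.card_pos_iff.1 (by omega)
    obtain ⟨k, hk⟩ := orb y (φ y)
    have e : (η ^ (2 * (5 - k.val))) ((η ^ k.val) y) = (η ^ (5 - k.val)) y := by
      rw [← Perm.mul_apply, ← pow_add, show 2 * (5 - k.val) + k.val = 5 + (5 - k.val) by
        have := k.2; omega, pow_add, η5, one_mul]
    refine ⟨(η ^ (5 - k.val)) y, ?_⟩
    rw [φk]
    rcases hk with hk | hk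
    · exact .inl (by rw [hk, e])
    · exact .inr (by rw [hk, ← ap (ζη.pow_right _), e])
  have fζ : ∀ y, σ (ζ y) = ζ y ↔ σ y = y := fun y => by rw [← ap ζσ, ζ.injective.eq_iff]
  have T2 : ∀ k : ℕ, σ ((η ^ k) x) = (η ^ k) x ↔ σ ((η ^ (2 * k)) x) = (η ^ (2 * k)) x := fun k => by
    rw [← φ.injective.eq_iff, ap φσ, φk]
    rcases hx with hx | hx
    · rw [hx]
    · rw [hx, ← ap (ζη.pow_right _), fζ]
  have t1 := T2 1
  have t2 := T2 2
  have t4 := T2 4
  rw [b1p_mod η5 (2 * 4)] at t4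
  norm_num at t1 t2 t4
  have sg : sign σ = 1 := by
    have := congrArg sign hp
    simp only [map_mul, map_inv, map_one, mul_inv_cancel_comm] at this
    rcases Int.units_eq_one_or (sign σ) with e | e
    · exact e
    · rw [e] at this; exact absurd this (by decide)
  have far : ∀ i : Fin 5, i ≠ 0 → (η ^ i.val) x ≠ x ∧ (η ^ i.val) x ≠ ζ x ∧
      ζ ((η ^ i.val) x) ≠ x ∧ ζ ((η ^ i.val) x) ≠ ζ x := fun i hi =>
    have h1 : (η ^ i.val) x ≠ x := fun e => hi (b1p_inj η5 (fr x) (j := 0) e)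
    ⟨h1, (nz x 0 i).symm, nz x i 0, fun e => h1 (ζ.injective e)⟩
  refine ⟨x, ?_, bij x⟩
  by_cases h1 : σ (η x) = η x
  · exfalso
    have all : ∀ i : Fin 5, i ≠ 0 → σ ((η ^ i.val) x) = (η ^ i.val) x := fun i hi => by
      fin_cases i
      · exact absurd rfl hi
      · simpa using h1
      · exact t1.1 h1
      · exact t4.1 (t2.1 (t1.1 h1))
      · exact t2.1 (t1.1 h1)
    rcases loc x with h0 | h0
    · refine hn ?_
      have : σ = 1 := Equiv.ext fun y => by
        obtain ⟨i, hi⟩ := orb x y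
        have : σ ((η ^ i.val) x) = (η ^ i.val) x := by
          by_cases e : i = 0
          · subst e; exact h0
          · exact all i e
        rcases hi with rfl | rfl
        exacts [this, (fζ _).2 this]
      simp [this]
    · have : σ = swap x (ζ x) := Equiv.ext fun y => by
        obtain ⟨i, hi⟩ := orb x y
        by_cases e : i = 0
        · subst e
          rcases hi with rfl | rfl
          · simpa using h0
          · simp only [Fin.val_zero, pow_zero, Perm.one_apply, swap_apply_right]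
            rw [← ap ζσ, h0, zz]
        · obtain ⟨n1, n2, n3, n4⟩ := far i e
          rcases hi with rfl | rfl
          · rw [swap_apply_of_ne_of_ne n1 n2, all i e]
          · rw [swap_apply_of_ne_of_ne n3 n4, (fζ _).2 (all i e)]
      rw [this, sign_swap (fz x).symm] at sg
      exact absurd sg (by decide)
  · have all : ∀ i : Fin 5, i ≠ 0 → σ ((η ^ i.val) x) = ζ ((η ^ i.val) x) := fun i hi => by
      refine (loc _).resolve_left ?_
      fin_cases i
      · exact absurd rfl hi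
      · simpa using h1
      · exact fun e => h1 (t1.2 e)
      · exact fun e => h1 (t1.2 (t2.2 (t4.2 e)))
      · exact fun e => h1 (t1.2 (t2.2 e))
    rcases loc x with h0 | h0
    · refine Equiv.ext fun y => ?_
      obtain ⟨i, hi⟩ := orb x y
      rw [Perm.mul_apply, ← ap ζσ]
      by_cases e : i = 0
      · subst e
        rcases hi with rfl | rfl
        · simp only [Fin.val_zero, pow_zero, Perm.one_apply, swap_apply_left, h0]
        · simp only [Fin.val_zero, pow_zero, Perm.one_apply, swap_apply_right]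
          rw [(fζ _).2 h0, zz]
      · obtain ⟨n1, n2, n3, n4⟩ := far i e
        rcases hi with rfl | rfl
        · rw [swap_apply_of_ne_of_ne n1 n2, all i e, zz]
        · rw [swap_apply_of_ne_of_ne n3 n4, ← ap ζσ, all i e, zz]
    · exfalso
      have : σ = ζ := Equiv.ext fun y => by
        obtain ⟨i, hi⟩ := orb x y
        have : σ ((η ^ i.val) x) = ζ ((η ^ i.val) x) := by
          by_cases e : i = 0
          · subst e; exact h0
          · exact all i e
        rcases hi with rfl | rfl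
        · exact this
        · rw [← ap ζσ, this]
      exact hn (by rw [this, ← ζη.eq, mul_inv_cancel_right])

end CfsgLib.ANX
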