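import Cfsg.Agent.Lib.ANX.Defs

/-! More definitions (plans/ANX.md). -/

set_option autoImplicit false
set_option linter.unusedSectionVars false

namespace CfsgLib.ANX

open Subgroup Equiv Equiv.Perm Cfsg CfsgLib.Tech CfsgLib.Alt4 CfsgLib.AltSyl CfsgLib.NatSyl

variable {Ω : Type} [Fintype Ω] [DecidableEq Ω] {G : Type*} [Group G] [Finite G]

/-- the transposition hypotheses -/
structure TT2 (ι : alternatingGroup Ω →* G) (t : G) : Prop where
  nt : ∀ s σ, Ty ι t s σ → σ.IsSwap → ¬ IsConj t (t * s)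
  sw : ∀ s σ s' σ' g ξ, Ty ι t s σ → Ty ι t s' σ' → σ.IsSwap → σ'.IsSwap → σ.Disjoint σ' →
    Commute s' s → g * t * g⁻¹ = s → Act (cα g ι) s' ξ → ξ.IsSwap

/-- `g` acts on `θ A_{n+2}` as `σ` -/
def BA (θ : Perm (Ω2 Ω) →* G) (g : G) (σ : Perm (Ω2 Ω)) : Prop :=
  Act (θ.comp (alternatingGroup (Ω2 Ω)).subtype) g σ

end CfsgLib.ANX
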