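import Cfsg.Agent.Lib.ANX.TFive

/-! ANX: ten points, the model and the permutation lemmas. -/

set_option autoImplicit false
set_option linter.unusedSectionVars false
set_option linter.unusedVariables false
set_option Elab.async false

namespace CfsgLib.ANX

open Equiv Equiv.Perm Finset

abbrev M6 : Type := Fin 10 ⊕ Fin 2

def m6p : Fin 6 → M6 := ![.inr 0, .inl 0, .inl 2, .inl 4, .inl 6, .inl 8]
def m6q : Fin 6 → M6 := ![.inr 1, .inl 1, .inl 3, .inl 5, .inl 7, .inl 9]
def m6T (i : Fin 6) : Perm M6 := swap (m6p i) (m6q i)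
def m6B (i j : Fin 6) : Perm M6 := swap (m6p i) (m6p j) * swap (m6q i) (m6q j)
def m6R (i j : Fin 6) : Perm M6 := m6B i j * m6T i
def m6z : Perm M6 := m6T 0 * m6T 1 * m6T 2 * m6T 3 * m6T 4 * m6T 5
def m6w : Perm (Fin 10) := swap 0 1 * swap 2 3 * (swap 4 5 * swap 6 7)
def m6s : Perm M6 := Perm.sumCongr m6w (swap 0 1)
def m6X (a b c d e f : Bool) : Perm M6 := (if a then m6T 0 else 1) * (if b then m6T 1 else 1) *
  (if c then m6T 2 else 1) * (if d then m6T 3 else 1) * (if e then m6T 4 else 1) *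
  (if f then m6T 5 else 1)
def m6y : Perm (Fin 10) := swap 0 2 * swap 1 3
def m6c : Perm M6 := swap (.inl 1) (.inl 2) * swap (.inl 2) (.inl 3)
def m6E : Fin 6 × Bool → M6 := fun x => if x.2 then m6p x.1 else m6q x.1

theorem m6_E : Function.Bijective m6E := by decide +kernel
theorem m6_pq : ∀ i, m6p i ≠ m6q i := by decide +kernel
theorem m6_all : ∀ z, ∃ k, z = m6p k ∨ z = m6q k := by decide +kernel
theorem m6_Ts : ∀ i, m6T i * m6s = m6s * m6T i := by decide +kernel
theorem m6_Bs : ∀ i j : Fin 5, m6B i.castSucc j.castSucc * m6s = m6s * m6B i.castSucc j.castSucc := by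
  decide +kernel
theorem m6_TT : ∀ i, m6T i * m6T i = 1 := by decide +kernel
theorem m6_Tc : ∀ i j, m6T i * m6T j = m6T j * m6T i := by decide +kernel
theorem m6_BT : ∀ i j k, m6B i j * m6T k * (m6B i j)⁻¹ = m6T (swap i j k) := by decide +kernel
theorem m6_BT' : ∀ i j k : Fin 5, m6B i.castSucc j.castSucc * m6T k.castSucc *
    (m6B i.castSucc j.castSucc)⁻¹ = m6T (swap i j k).castSucc := by decide +kernel
theorem m6_B5 : ∀ i j : Fin 5, m6B i.castSucc j.castSucc * m6T 5 = m6T 5 * m6B i.castSucc j.castSucc := by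
  decide +kernel
theorem m6_BB : ∀ i j, m6B i j * m6B i j = 1 := by decide +kernel
theorem m6_Bz : ∀ i j, m6B i j * m6z * (m6B i j)⁻¹ = m6z := by decide +kernel
theorem m6_pr : m6T 0 * m6T 1 * m6T 2 * m6T 3 * m6T 4 = m6s := by decide +kernel
theorem m6_cT : ∀ i, (m6T i).support.card = 2 ∧ m6T i ≠ 1 ∧ m6T i ≠ m6s := by decide +kernel
theorem m6_cTT : m6T 0 * m6T 1 * (m6T 0 * m6T 1) = 1 ∧ m6T 0 * m6T 1 ≠ 1 ∧ m6T 0 * m6T 1 ≠ m6s := by
  decide +kernel
theorem m6_s : m6s * m6s = 1 ∧ m6s.support.card = 10 ∧ m6w.support.card = 8 ∧ m6T 5 * m6z = m6s := by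
  decide +kernel
theorem m6_sw : sign m6w = 1 := by simp [m6w]
theorem m6_Tz : ∀ i, m6T i * m6z * (m6T i * m6z) = 1 ∧ (m6T i * m6z).support.card = 10 ∧
    m6T i * m6z = m6T i * m6T 5 * m6s ∧ ∀ j, m6T i * m6z * (m6T j * m6z) = m6T j * m6z * (m6T i * m6z) := by
  decide +kernel
theorem m6_X : ∀ a b c d e f k, m6X a b c d e f (m6p k) = (if ![a, b, c, d, e, f] k then m6q k else m6p k) ∧
    m6X a b c d e f (m6q k) = (if ![a, b, c, d, e, f] k then m6p k else m6q k) := by decide +kernel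
theorem m6_fx : ∀ a b c d e f k, k ≠ 1 → k ≠ 2 → ∀ z, z = m6p k ∨ z = m6q k →
    ((m6X a b c d e f * m6B 1 2) z = z ↔ ![a, b, c, d, e, f] k = false) := by decide +kernel
theorem m6_K : ∀ a b c, m6X a b c a a a * m6B 1 2 * (m6X a b c a a a * m6B 1 2) = m6T 1 * m6T 2 →
    m6X a b c a a a * m6B 1 2 = m6R 1 2 ∨ m6X a b c a a a * m6B 1 2 = (m6R 1 2)⁻¹ ∨
    m6c * (m6T 1 * m6T 2 * m6T 3 * m6T 4 * m6T 5) * m6c⁻¹ = m6X a b c a a a * m6B 1 2 * m6T 0 * m6T 1 ∨
    m6c * m6c * (m6T 1 * m6T 2 * m6T 3 * m6T 4 * m6T 5) * (m6c * m6c)⁻¹ =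
      m6X a b c a a a * m6B 1 2 * m6T 0 * m6T 1 := by decide +kernel
theorem m6_c : m6c * (m6T 0 * m6T 3) = m6T 0 * m6T 3 * m6c := by decide +kernel
theorem m6_R : ∀ k, m6R 1 2 * (m6T k * m6z) * (m6R 1 2)⁻¹ = m6T (swap 1 2 k) * m6z := by decide +kernel
theorem m6_R2 : m6R 1 2 ^ 4 = 1 ∧ m6R 1 2 * m6R 1 2 = m6T 1 * m6z * (m6T 2 * m6z) ∧
    m6T 0 * m6z * (m6T 3 * m6z) = m6T 0 * m6T 3 ∧
    m6T 1 * m6z * (m6T 2 * m6z) * (m6T 3 * m6z) * (m6T 4 * m6z) * (m6T 5 * m6z) = m6T 0 ∧
    m6R 1 2 * (m6T 0 * m6z) * (m6T 1 * m6z) = m6T 0 * Perm.sumCongr m6y 1 ∧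
    m6T 0 * m6T 3 = Perm.sumCongr (swap 4 5) 1 * m6T 0 := by decide +kernel
theorem m6_y : m6y * m6y = 1 ∧ m6y.support.card = 4 ∧ m6y 4 = 4 ∧ m6y 5 = 5 := by decide +kernel
theorem m6_sy : sign m6y = 1 := by simp [m6y]
theorem m6_B0 : ∀ k : Fin 6, k ≠ 1 → k ≠ 2 → m6B 0 k ^ 4 = 1 ∧ m6B 0 k * m6R 1 2 = m6R 1 2 * m6B 0 k ∧
    swap 0 k 1 = 1 ∧ swap 0 k 2 = 2 := by decide +kernel
theorem m6_tr : m6B 0 1 * m6B 2 5 * m6R 1 2 * (m6B 0 1 * m6B 2 5)⁻¹ = m6R 0 5 := by decide +kernel

variable {Ω : Type} [Fintype Ω] [DecidableEq Ω]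

theorem k5_mem {α : Type} [DecidableEq α] {β : Perm α} {a b c d : α} (ab : a ≠ b)
    (h : β * swap a b * β⁻¹ = swap c d) : β a = c ∨ β a = d := by
  by_contra! n
  have := congrArg (fun f : Perm α => f (β a)) h
  simp [swap_apply_of_ne_of_ne n.1 n.2] at this
  exact ab this.symm

theorem k5_X {τ : Perm M6} (h : ∀ k, τ * m6T k * τ⁻¹ = m6T k) : ∃ a b c d e f, τ = m6X a b c d e f := by
  let e : Fin 6 → Bool := fun k => decide (τ (m6p k) = m6q k)
  refine ⟨e 0, e 1, e 2, e 3, e 4, e 5, Equiv.ext fun z => ?_⟩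
  have ee : ∀ k, ![e 0, e 1, e 2, e 3, e 4, e 5] k = e k := fun k => by fin_cases k <;> rfl
  obtain ⟨k, hk⟩ := m6_all z
  have a := k5_mem (m6_pq k) (h k)
  have b := k5_mem (m6_pq k).symm (c := m6p k) (d := m6q k) (by rw [swap_comm]; exact h k)
  have c : τ (m6p k) ≠ τ (m6q k) := τ.injective.ne (m6_pq k)
  have d := m6_pq k
  rcases hk with rfl | rfl
  · rw [(m6_X _ _ _ _ _ _ k).1, ee]; simp only [e, decide_eq_true_eq]; grind
  · rw [(m6_X _ _ _ _ _ _ k).2, ee]; simp only [e, decide_eq_true_eq]; grind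

/-- the products have weight two -/
theorem k5_two (h10 : Fintype.card Ω = 10) {η : Fin 5 → Perm Ω} (sq : ∀ i, η i * η i = 1)
    (cm : ∀ i j, Commute (η i) (η j))
    (pr : ∀ i j k l m : Fin 5, [i, j, k, l, m].Nodup → η i * η j * (η k * η l) = η m)
    (k1 : ∀ i, (η i).support.card = 8) (k2 : ∀ i j, i ≠ j → (η i * η j).support.card = 8)
    {β : Fin 5 → Fin 5 → Perm Ω} (bt : ∀ i j k, β i j * η k * (β i j)⁻¹ = η (swap i j k)) : False := by
  have c2 : ∀ i, (η i).supportᶜ.card = 2 := fun i => by rw [card_compl, k1, h10]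
  have mc : ∀ i x, x ∈ (η i).supportᶜ ↔ η i x = x := fun i x => by simp
  have st : ∀ i j x, η i x = x → η i (η j x) = η j x := fun i j x h => by
    rw [← Perm.mul_apply, (cm i j).eq, Perm.mul_apply, h]
  have ss : ∀ i x, η i (η i x) = x := fun i x => by rw [← Perm.mul_apply, sq]; rfl
  by_cases c : ∃ i j x, i ≠ j ∧ η i x = x ∧ η j x = x
  · obtain ⟨i, j, x, n, a, b⟩ := c
    let C : Fin 5 → Fin 5 → Prop := fun i j => ∀ y, η i y = y → η j y = y
    have c0 : C i j := fun y hy => by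
      obtain ⟨u, v, -, uv⟩ := card_eq_two.1 (c2 i)
      have e1 := (mc i x).2 a
      have e2 := (mc i y).2 hy
      have e3 := (mc i _).2 (st i j y hy)
      have e4 : η j y = x → y = x := fun e => by rw [← ss j y, e, b]
      simp only [uv, mem_insert, mem_singleton] at e1 e2 e3
      grind
    have cs : ∀ u v i j, C i j → C (swap u v i) (swap u v j) := fun u v i j h y hy => by
      rw [← bt] at hy ⊢
      simp only [Perm.mul_apply] at hy ⊢
      rw [h _ ((Perm.eq_inv_iff_eq).2 hy)]; simp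
    have c1 : ∀ k, k ≠ 0 → C 0 k := fun k hk => by
      have a : swap i 0 j ≠ 0 := fun c => n ((swap i 0).injective ((swap_apply_left i 0).trans c.symm))
      have := cs (swap i 0 j) k _ _ (cs i 0 i j c0)
      rwa [swap_apply_left, swap_apply_left, swap_apply_of_ne_of_ne a.symm hk.symm] at this
    have fx : ∀ k y, η 0 y = y → η k y = y := fun k y hy => by
      by_cases e : k = 0
      · rwa [e]
      · exact c1 k e y hy
    have s1 : ∀ k, (η k).support = (η 0).support := fun k => eq_of_subset_of_card_le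
      (fun y hy => mem_support.2 fun e => mem_support.1 hy (fx k y e)) (by rw [k1, k1])
    have s2 : ∀ k l, k ≠ l → (η k * η l).support = (η 0).support := fun k l n => eq_of_subset_of_card_le
      (fun y hy => mem_support.2 fun e => mem_support.1 hy (by rw [Perm.mul_apply, fx l y e, fx k y e]))
      (by rw [k1, k2 k l n])
    obtain ⟨y, hy⟩ := card_pos.1 (by rw [k1]; omega : 0 < (η 0).support.card)
    have m1 : ∀ k, η k y ≠ y := fun k => mem_support.1 (s1 k ▸ hy)
    have m2 : ∀ k l, k ≠ l → η k (η l y) ≠ y := fun k l n => mem_support.1 (s2 k l n ▸ hy)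
    have ne : ∀ k l, η k y = η l y → k = l := fun k l e => by_contra fun n => m2 k l n (by rw [← e, ss])
    have ne' : ∀ k l, η k y ≠ η 0 (η l y) := fun k l e => by
      by_cases a : k = 0
      · exact m1 l ((η 0).injective (a ▸ e)).symm |> fun x => x
      by_cases b : l = 0
      · exact m1 k (by rw [e, b, ss])
      by_cases d : k = l
      · refine m1 0 ((η l).injective ?_)
        rw [← Perm.mul_apply, (cm l 0).eq, Perm.mul_apply, ← e, d]
      obtain ⟨u, v, uv⟩ : ∃ u v, [0, l, u, v, k].Nodup := by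
        revert a b d; generalize k = k; generalize l = l; revert k l; decide
      rw [← pr _ _ _ _ _ uv, ((cm 0 u).mul_right (cm 0 v)).mul_left ((cm l u).mul_right (cm l v)) |>.eq] at e
      have n : u ≠ v := by simp only [List.nodup_cons, List.mem_cons, not_or] at uv; exact uv.2.2.1.1
      have hz : η 0 (η l y) ∈ (η u * η v).support := by
        rw [s2 u v n, apply_mem_support, ← s1 l, apply_mem_support, s1 l]; exact hy
      exact mem_support.1 hz e
    have := card_le_card_of_injOn (s := univ) (t := (η 0).support)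
      (fun a : Fin 5 × Bool => if a.2 then η a.1 y else η 0 (η a.1 y))
      (fun a _ => by
        have : η a.1 y ∈ (η 0).support := by rw [← s1 a.1, apply_mem_support, s1]; exact hy
        dsimp only
        split_ifs
        · exact this
        · exact mem_coe.2 (apply_mem_support.2 this))
      (by
        rintro ⟨k, _ | _⟩ - ⟨l, _ | _⟩ - e <;> simp at e ⊢
        exacts [ne k l e, ne' l k e.symm, ne' k l e, ne k l e])
    rw [k1] at this
    simp at this
  · push Not at c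
    have f : ∀ k x, k ≠ 0 → k ≠ 1 → η k x = x → (η 0 * η 1) x = x := fun k x a b hx => by
      obtain ⟨u, v, -, uv⟩ := card_eq_two.1 (c2 k)
      have e1 := (mc k x).2 hx
      have e2 := (mc k _).2 (st k 0 x hx)
      have e3 := (mc k _).2 (st k 1 x hx)
      have e4 := c k 0 x a hx
      have e5 := c k 1 x b hx
      have : η 1 x = η 0 x := by
        simp only [uv, mem_insert, mem_singleton] at e1 e2 e3
        grind
      rw [Perm.mul_apply, this, ss]
    have := card_le_card (show (η 2).supportᶜ ∪ (η 3).supportᶜ ⊆ (η 0 * η 1).supportᶜ from fun x hx =>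
      mem_compl.2 (notMem_support.2 ((mem_union.1 hx).elim (fun a => f 2 x (by decide) (by decide) ((mc _ _).1 a))
        fun a => f 3 x (by decide) (by decide) ((mc _ _).1 a))))
    rw [card_union_of_disjoint (disjoint_left.2 fun x a b => c 2 3 x (by decide) ((mc _ _).1 a) ((mc _ _).1 b)),
      c2, c2, card_compl, k2 0 1 (by decide), h10] at this
    omega

theorem f5_four : ∀ j k : Fin 5, j ≠ k → ∃ l m n, [j, l, m, n, k].Nodup := by decide
theorem f5_four' : ∀ k : Fin 5, ∃ j l m n, [j, l, m, n, k].Nodup := by decide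

/-- the swaps -/
theorem F5.k5_swap {η : Fin 5 → Perm Ω} (h : F5 η) (h10 : Fintype.card Ω = 10) {ζ : Perm Ω}
    (z1 : ζ ≠ 1) (z2 : ζ * ζ = 1) (e : ∀ i, Commute ζ (η i)) {β : Fin 5 → Fin 5 → Perm Ω}
    (bt : ∀ i j k, β i j * η k * (β i j)⁻¹ = η (swap i j k)) (bz : ∀ i j, Commute (β i j) ζ) :
    ∃ u v : Fin 5 → Ω, (∀ k, η k * ζ = swap (u k) (v k)) ∧ (∀ k, u k ≠ v k) ∧
      ∀ k, f5P η k = {u k, v k} := by
  choose u v uv hP using fun k => card_eq_two.1 (h.card k)
  have all : ∀ x, ∃ i, x ∈ f5P η i := fun x => by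
    have b : (univ.biUnion (f5P η)).card = 10 := by
      rw [card_biUnion fun i _ j _ n => disjoint_left.2 fun x a b => h.disj n a b]
      simp [h.card]
    have c : x ∈ univ.biUnion (f5P η) := by rw [eq_univ_of_card _ (b.trans h10.symm)]; exact mem_univ x
    simpa using c
  have zz : ∀ x, ζ (ζ x) = x := fun x => by rw [← Perm.mul_apply, z2]; rfl
  have mv : ∀ x, ζ x ≠ x := fun x hx => by
    obtain ⟨y, hy⟩ : ∃ y, ζ y ≠ y := by
      by_contra! a
      exact z1 (Equiv.ext a)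
    obtain ⟨i, a⟩ := all y
    obtain ⟨j, b⟩ := all x
    have c := h.map (β := β i j) (π := swap i j) (fun k l => by rw [← bt, ← bt]; group) a
    rw [swap_apply_left] at c
    have d : ζ (β i j y) ≠ β i j y := fun c => hy ((β i j).injective (by
      rw [← Perm.mul_apply, (bz i j).eq, Perm.mul_apply, c]))
    have c' := h.map' e c
    have := zz (β i j y)
    simp only [hP, mem_insert, mem_singleton] at b c c'
    grind
  refine ⟨u, v, fun k => Equiv.ext fun x => ?_, uv, hP⟩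
  obtain ⟨j, a⟩ := all x
  have a' := h.map' e a
  have m := mv x
  rw [Perm.mul_apply]
  by_cases n : j = k
  · subst n
    obtain ⟨i, l, m', o, hn⟩ := f5_four' j
    have : η j (ζ x) = ζ x := by
      simp only [List.nodup_cons, List.mem_cons, not_or] at hn
      rw [← h.pr _ _ _ _ _ (by simpa using hn), Perm.mul_apply,
        h.fix (by simp [hn.2.2.1.1, Ne.symm hn.2.2.1.2.1, Ne.symm hn.2.2.2.1.1]) a',
        h.fix (by simp [hn.1.1, Ne.symm hn.1.2.2.2.1, Ne.symm hn.2.1.2.2.1]) a']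
    have := uv j
    simp only [hP, mem_insert, mem_singleton] at a a'
    grind [swap_apply_left, swap_apply_right]
  · obtain ⟨l, m', o, hn⟩ := f5_four j k n
    have b : η k (ζ x) ≠ ζ x := by
      have hn' := hn
      simp only [List.nodup_cons, List.mem_cons, not_or] at hn
      rw [← h.pr _ _ _ _ _ hn', Perm.mul_apply, h.fix (by simp [hn.1.2.1, hn.1.2.2.1, hn.2.2.1.1]) a']
      exact h.mv hn.1.1 a'
    have c := h.map' (h.cm k) a'
    have d1 : x ≠ u k := fun c => h.disj n a (by simp [hP, c])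
    have d2 : x ≠ v k := fun c => h.disj n a (by simp [hP, c])
    rw [swap_apply_of_ne_of_ne d1 d2]
    simp only [hP, mem_insert, mem_singleton] at a a' c
    grind

end CfsgLib.ANX
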