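import Cfsg.Agent.Lib.ANX.QDefs

/-! Row QP3b (pure permutations): nontrivial involutions with supports of the same size are conjugate
under the alternating group. -/

set_option autoImplicit false
set_option linter.unusedSectionVars false

namespace CfsgLib.ANX

open Subgroup Equiv Equiv.Perm Cfsg CfsgLib.Tech CfsgLib.Alt4 CfsgLib.AltSyl CfsgLib.NatSyl CfsgLib.Alt.FinP

variable {Ω : Type} [Fintype Ω] [DecidableEq Ω]

theorem qb_ct {p : Perm Ω} (hp : p * p = 1) :
    p.cycleType = Multiset.replicate (p.support.card / 2) 2 := by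
  have : Fact (Nat.Prime 2) := ⟨Nat.prime_two⟩
  have h := cycleType_of_pow_prime_eq_one (σ := p) (p := 2) (by rw [pow_two]; exact hp)
  have hs := sum_cycleType p
  rw [h, Multiset.sum_replicate, smul_eq_mul] at hs
  rw [← hs, Nat.mul_div_cancel _ two_pos]
  exact h

theorem qb_conj {p q : Perm Ω} (hp : p * p = 1) (hq : q * q = 1) (h1 : p ≠ 1)
    (h : p.support.card = q.support.card) : ∃ m : alternatingGroup Ω, (m : Perm Ω) * p * (m : Perm Ω)⁻¹ = q := by
  have hc : IsConj p q := isConj_iff_cycleType_eq.2 (by rw [qb_ct hp, qb_ct hq, h])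
  obtain ⟨m, hm⟩ := isConj_iff.1 hc
  rcases Int.units_eq_one_or (sign m) with hs | hs
  · exact ⟨⟨m, mem_alternatingGroup.2 hs⟩, hm⟩
  · obtain ⟨a, ha⟩ : ∃ a, p a ≠ a := by
      by_contra hn
      exact h1 (Equiv.ext fun x => by_contra fun k => hn ⟨x, k⟩)
    have pp : p (p a) = a := congrArg (fun f : Perm Ω => f a) hp
    have hcm : swap a (p a) * p * (swap a (p a))⁻¹ = p := by
      have e := mul_swap_eq_swap_mul p a (p a)
      rw [pp, swap_comm (p a) a] at e
      rw [← e, mul_inv_cancel_right]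
    refine ⟨⟨m * swap a (p a), mem_alternatingGroup.2 ?_⟩, ?_⟩
    · rw [Perm.sign_mul, hs, sign_swap ha.symm]; simp
    · change m * swap a (p a) * p * (m * swap a (p a))⁻¹ = q
      rw [← hm, mul_inv_rev]
      conv_rhs => rw [← hcm]
      simp only [mul_assoc]

end CfsgLib.ANX
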