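import Cfsg.Agent.Lib.ANX.QDefs
import Cfsg.Agent.Lib.ANX.OPerm
import Cfsg.Agent.Lib.ANX.QP3b

/-! Row QP3 (pure permutations).  q_conj: equal cycle types (`replicate k 2`, pattern `exists_cycleType`, `isConj_of_W`), fix the sign by a 2-cycle of `p` (`swap_comm_of`).
q_k3: 2-cycles `(a pa) (b pb) (c pc)`; `r = (a b)(pa pb)`.  If there is a 4th 2-cycle `(d pd)`: `u = (c d)(pc pd)` (then `supp (y p) = supp p`).  Otherwise two fixed points `e, f`: `u = (c pc)(e f)`
(`twist`-like: `supp (u p) = supp p - {c, pc} + {e, f}`, the same for `r u`) -/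

set_option autoImplicit false
set_option linter.unusedSectionVars false

namespace CfsgLib.ANX

open Subgroup Equiv Equiv.Perm Cfsg CfsgLib.Tech CfsgLib.Alt4 CfsgLib.AltSyl CfsgLib.NatSyl CfsgLib.Alt.FinP

variable {Ω : Type} [Fintype Ω] [DecidableEq Ω]

theorem q_conj {p q : Perm Ω} (hp : p * p = 1) (hq : q * q = 1) (h1 : p ≠ 1)
    (h : p.support.card = q.support.card) : ∃ m : alternatingGroup Ω, (m : Perm Ω) * p * (m : Perm Ω)⁻¹ = q :=
  qb_conj hp hq h1 h

theorem qk3_new (s : Finset Ω) (l : List Ω) (h : l.length < s.card) : ∃ x ∈ s, x ∉ l := by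
  obtain ⟨x, h1, h2⟩ := Finset.exists_mem_notMem_of_card_lt_card
    ((List.toFinset_card_le l).trans_lt h)
  exact ⟨x, h1, by simpa using h2⟩

theorem qk3_card {q : Perm Ω} {a b A B : Ω} (ha : q A = a) (hb : q B = b) (h1 : a ≠ A) (h2 : a ≠ B)
    (h3 : b ≠ A) (h4 : b ≠ B) : (swap a b * swap A B * q).support.card = q.support.card := by
  rw [← card_support_conj (σ := swap A B) (τ := q), swap_inv, mul_assoc (swap A B),
    Equiv.mul_swap_eq_swap_mul q A B, ha, hb, ← mul_assoc, (op_sw h1 h2 h3 h4).eq]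

theorem qk3_comm {q : Perm Ω} {a b A B : Ω} (ha : q A = a) (hb : q B = b) (ha' : q a = A)
    (hb' : q b = B) (h1 : a ≠ A) (h2 : a ≠ B) (h3 : b ≠ A) (h4 : b ≠ B) :
    Commute (swap a b * swap A B) q := by
  rw [Commute, SemiconjBy, ← mul_assoc q, Equiv.mul_swap_eq_swap_mul q a b, mul_assoc _ q,
    Equiv.mul_swap_eq_swap_mul q A B, ha, hb, ha', hb', (op_sw h1 h2 h3 h4).eq, mul_assoc]

theorem qk3_card2 {q : Perm Ω} {c C e f : Ω} (hc : q c = C) (hC : q C = c) (he : q e = e)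
    (hf : q f = f) (h1 : c ≠ C) (h2 : c ≠ e) (h3 : c ≠ f) (h4 : C ≠ e) (h5 : C ≠ f) (h6 : e ≠ f) :
    (swap c C * swap e f * q).support.card = q.support.card := by
  rw [← card_support_conj (σ := swap C f * swap c e) (τ := q)]
  congr 2
  rw [eq_mul_inv_iff_mul_eq]
  ext x
  simp only [Perm.mul_apply]
  by_cases x1 : x = c
  · subst x1; simp [swap_apply_def, *, h1.symm, h2.symm, h3.symm, h4.symm, h5.symm, h6.symm]
  by_cases x2 : x = C
  · subst x2; simp [swap_apply_def, *, h1.symm, h2.symm, h3.symm, h4.symm, h5.symm, h6.symm]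
  by_cases x3 : x = e
  · subst x3; simp [swap_apply_def, *, h1.symm, h2.symm, h3.symm, h4.symm, h5.symm, h6.symm]
  by_cases x4 : x = f
  · subst x4; simp [swap_apply_def, *, h1.symm, h2.symm, h3.symm, h4.symm, h5.symm, h6.symm]
  have y1 : q x ≠ C := fun k => x1 (q.injective (k.trans hc.symm))
  have y2 : q x ≠ c := fun k => x2 (q.injective (k.trans hC.symm))
  have y3 : q x ≠ e := fun k => x3 (q.injective (k.trans he.symm))
  have y4 : q x ≠ f := fun k => x4 (q.injective (k.trans hf.symm))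
  simp [swap_apply_def, *]

/-- the common end of both cases -/
theorem qk3_fin {p : Perm Ω} {a b A B : Ω} (ha : p A = a) (hb : p B = b) (ha' : p a = A)
    (hb' : p b = B) (h1 : a ≠ A) (h2 : a ≠ B) (h3 : b ≠ A) (h4 : b ≠ B) (ab : a ≠ b) (AB : A ≠ B)
    {w x y z : Ω} (wx : w ≠ x) (yz : y ≠ z) (k1 : w ≠ y) (k2 : w ≠ z) (k3 : x ≠ y) (k4 : x ≠ z)
    (dj : ∀ i ∈ [a, b, A, B], ∀ j ∈ [w, x, y, z], i ≠ j) (hc : Commute (swap w x * swap y z) p)
    (hs : (swap w x * swap y z * p).support.card = p.support.card) :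
    ∃ r u : alternatingGroup Ω, ∀ y, y = r ∨ y = u ∨ y = r * u → y ≠ 1 ∧ y * y = 1 ∧
      Commute (y : Perm Ω) p ∧ ((y : Perm Ω) * p).support.card = p.support.card := by
  simp only [List.mem_cons, List.not_mem_nil, or_false, forall_eq_or_imp, forall_eq] at dj
  obtain ⟨⟨d1, d2, d3, d4⟩, ⟨d5, d6, d7, d8⟩, ⟨e1, e2, e3, e4⟩, e5, e6, e7, e8⟩ := dj
  have rc := qk3_comm ha hb ha' hb' h1 h2 h3 h4
  have r2 := op_sq (swap_mul_self a b) (swap_mul_self A B) (op_sw h1 h2 h3 h4)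
  have u2 := op_sq (swap_mul_self w x) (swap_mul_self y z) (op_sw k1 k2 k3 k4)
  have ru : Commute (swap a b * swap A B) (swap w x * swap y z) :=
    ((op_sw d1 d2 d5 d6).mul_right (op_sw d3 d4 d7 d8)).mul_left
      ((op_sw e1 e2 e5 e6).mul_right (op_sw e3 e4 e7 e8))
  refine ⟨⟨_, op_even ab AB⟩, ⟨_, op_even wx yz⟩, ?_⟩
  rintro _ (rfl | rfl | rfl)
  · refine ⟨fun e => ab ?_, Subtype.ext r2, rc, qk3_card ha hb h1 h2 h3 h4⟩
    simpa [swap_apply_def, h1, h2, eq_comm] using congrArg (fun g : alternatingGroup Ω => (g : Perm Ω) a) e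
  · refine ⟨fun e => wx ?_, Subtype.ext u2, hc, hs⟩
    simpa [swap_apply_def, k1, k2, eq_comm] using congrArg (fun g : alternatingGroup Ω => (g : Perm Ω) w) e
  · refine ⟨fun e => ab ?_, Subtype.ext (op_sq r2 u2 ru), rc.mul_left hc, ?_⟩
    · simpa [swap_apply_def, h1, h2, d1, d2, d3, d4, eq_comm] using
        congrArg (fun g : alternatingGroup Ω => (g : Perm Ω) a) e
    · rw [← hs]
      show (swap a b * swap A B * (swap w x * swap y z) * p).support.card = _
      rw [mul_assoc (swap a b * swap A B)]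
      refine qk3_card ?_ ?_ h1 h2 h3 h4
      · simp [swap_apply_def, ha, d1, d2, d3, d4]
      · simp [swap_apply_def, hb, d5, d6, d7, d8]

theorem q_k3 {p : Perm Ω} (hp : p * p = 1) (h6 : 6 ≤ p.support.card) (h8 : 8 ≤ Fintype.card Ω) :
    ∃ r u : alternatingGroup Ω, ∀ y, y = r ∨ y = u ∨ y = r * u → y ≠ 1 ∧ y * y = 1 ∧ Commute (y : Perm Ω) p ∧
      ((y : Perm Ω) * p).support.card = p.support.card := by
  have pp : ∀ y, p (p y) = y := fun y => congrArg (fun f : Perm Ω => f y) hp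
  have sw : ∀ {x y}, x ≠ p y → p x ≠ y := fun h e => h (by rw [← e, pp])
  obtain ⟨a, ha, -⟩ := qk3_new p.support [] (by simp only [List.length_nil]; omega)
  obtain ⟨b, hb, b1⟩ := qk3_new p.support [a, p a] (by simp only [List.length_cons, List.length_nil]; omega)
  obtain ⟨c, hc, c1⟩ := qk3_new p.support [a, p a, b, p b] (by
    simp only [List.length_cons, List.length_nil]; omega)
  rw [mem_support] at ha hb hc
  simp only [List.mem_cons, List.not_mem_nil, or_false, not_or] at b1 c1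
  obtain ⟨b1, b2⟩ := b1
  obtain ⟨c1, c2, c3, c4⟩ := c1
  have fin := @qk3_fin Ω _ _ p a b (p a) (p b) (pp a) (pp b) rfl rfl ha.symm (sw b2).symm b2 hb.symm
    (Ne.symm b1) (p.injective.ne (Ne.symm b1))
  by_cases h4 : ∃ d, p d ≠ d ∧ d ∉ [a, p a, b, p b, c, p c]
  · obtain ⟨d, hd, d1⟩ := h4
    simp only [List.mem_cons, List.not_mem_nil, or_false, not_or] at d1
    obtain ⟨d1, d2, d3, d4, d5, d6⟩ := d1
    refine fin (Ne.symm d5) (p.injective.ne (Ne.symm d5)) hc.symm (sw d6).symm d6 hd.symm ?_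
      (qk3_comm (pp c) (pp d) rfl rfl hc.symm (sw d6).symm d6 hd.symm)
      (qk3_card (pp c) (pp d) hc.symm (sw d6).symm d6 hd.symm)
    simp only [List.mem_cons, List.not_mem_nil, or_false, forall_eq_or_imp, forall_eq]
    exact ⟨⟨Ne.symm c1, Ne.symm d1, (sw c2).symm, (sw d2).symm⟩,
      ⟨Ne.symm c3, Ne.symm d3, (sw c4).symm, (sw d4).symm⟩,
      ⟨Ne.symm c2, Ne.symm d2, p.injective.ne (Ne.symm c1), p.injective.ne (Ne.symm d1)⟩,
      Ne.symm c4, Ne.symm d4, p.injective.ne (Ne.symm c3), p.injective.ne (Ne.symm d3)⟩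
  · push Not at h4
    obtain ⟨e, e1⟩ := op_new [a, p a, b, p b, c, p c] (by
      simp only [List.length_cons, List.length_nil]; omega)
    obtain ⟨f, f1⟩ := op_new [e, a, p a, b, p b, c, p c] (by
      simp only [List.length_cons, List.length_nil]; omega)
    rw [List.mem_cons, not_or] at f1
    obtain ⟨fe, f1⟩ := f1
    have he : p e = e := by_contra fun k => e1 (h4 e k)
    have hf : p f = f := by_contra fun k => f1 (h4 f k)
    simp only [List.mem_cons, List.not_mem_nil, or_false, not_or] at e1 f1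
    obtain ⟨e1, e2, e3, e4, e5, e6⟩ := e1
    obtain ⟨f1, f2, f3, f4, f5, f6⟩ := f1
    refine fin hc.symm (Ne.symm fe) (Ne.symm e5) (Ne.symm f5) (Ne.symm e6) (Ne.symm f6) ?_ ?_
      (qk3_card2 rfl (pp c) he hf hc.symm (Ne.symm e5) (Ne.symm f5) (Ne.symm e6) (Ne.symm f6)
        (Ne.symm fe))
    · simp only [List.mem_cons, List.not_mem_nil, or_false, forall_eq_or_imp, forall_eq]
      exact ⟨⟨Ne.symm c1, (sw c2).symm, Ne.symm e1, Ne.symm f1⟩,
        ⟨Ne.symm c3, (sw c4).symm, Ne.symm e3, Ne.symm f3⟩,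
        ⟨Ne.symm c2, p.injective.ne (Ne.symm c1), Ne.symm e2, Ne.symm f2⟩,
        Ne.symm c4, p.injective.ne (Ne.symm c3), Ne.symm e4, Ne.symm f4⟩
    · refine Commute.mul_left ?_ ?_
      · rw [Commute, SemiconjBy, Equiv.mul_swap_eq_swap_mul, pp, swap_comm]
      · rw [Commute, SemiconjBy, Equiv.mul_swap_eq_swap_mul, he, hf]

end CfsgLib.ANX
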