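import Cfsg.Agent.Lib.ANX.QG3
import Cfsg.Agent.Lib.ANX.QP3

/-! Row QG4.  q_red: `x'` a root of `p'` (`q_root`), `g ι x' g⁻¹ = ι v`, `In p v` (`V.symm.q_in`), `Ag p v` by `q_ag` (the conjugates of `v` are images of elements `Ag p'`, `V.symm.q_nrm`, which commute: `Ag.sq`, `Ag.mul`).
`q_a4` gives `ρ₁ ρ₂`, `y₀ = ρ₁ρ₂`; `q_ex3`: `g⁻¹ ι y₀ g = ι y`, `y = φ₁φ₂`, `φᵢ` commutes with `x'`, `p'`, so `Ou x' y` (`q_fix_root`).  `In p' y`: `q_fix_two`, or `q_out` gives `m` with `y m y m⁻¹ ≠ 1`, but `g ι m g⁻¹` acts as `ψ`, `Ou p ψ` (`V.symm.q_ou`),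
which commutes with `y₀` (`in_ou`).  `q_cnt`.  `q_conj`: `y₀ p ~ p` in `A_n`, so `t ι p ~ t ι (y₀ p)`, conjugate by `g⁻¹`: `t ι y`.
q_eight: strong induction / `Nat.find` on `W p` over all `p` with `p² = 1`, `8 ≤ W p`, `t ~ t ι p`; minimal `p'`, `q_vw` gives the partner `p` (`8 ≤ W p` by `q_ty`, `n4`, `four_dvd`); if `12 ≤ W p` q_red gives a smaller one; so `W p = 8` and `W p' = 8` -/

set_option autoImplicit false
set_option linter.unusedSectionVars false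

namespace CfsgLib.ANX

open Subgroup Equiv Equiv.Perm Cfsg CfsgLib.Tech CfsgLib.Alt4 CfsgLib.AltSyl CfsgLib.NatSyl CfsgLib.Alt.FinP

universe u

variable {Ω : Type} [Fintype Ω] [DecidableEq Ω] {G : Type u} [Group G] [Finite G]
  {ι : alternatingGroup Ω →* G} {t g : G} {p p' : alternatingGroup Ω}

theorem qg4_cm (hi : Function.Injective ι) {X : G} {φ : Perm Ω} (h : Act ι X φ) {a : alternatingGroup Ω}
    (c : Commute X (ι a)) : Commute φ (a : Perm Ω) := by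
  have e := h a
  rw [c.eq, mul_inv_cancel_right] at e
  have e2 : (a : Perm Ω) = φ * a * φ⁻¹ := congrArg Subtype.val (hi e)
  exact (eq_mul_inv_iff_mul_eq.1 e2).symm

theorem qg4_cj {a b : G} (g : G) (c : Commute a b) : Commute (g⁻¹ * a * g) (g⁻¹ * b * g) := by
  have := c.map (MulAut.conj g⁻¹)
  simpa only [MulAut.conj_apply, inv_inv] using this

theorem qg4_sq {H : Type*} [Group H] {a b : H} (ha : a * a = 1) (hb : b * b = 1) (h : a * b * (a * b) = 1) :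
    Commute a b := by
  have e : a * b = (a * b)⁻¹ := eq_inv_of_mul_eq_one_left h
  rw [mul_inv_rev, inv_eq_of_mul_eq_one_right ha, inv_eq_of_mul_eq_one_right hb] at e
  exact e

theorem qg4_eight (F : Fr ι t) (n4 : ¬ J ι t 4) {y : alternatingGroup Ω} (hy : y * y = 1) (h1 : y ≠ 1)
    (h : IsConj t (t * ι y)) : 8 ≤ W y := by
  have h4 := four_dvd hy
  have h0 : W y ≠ 0 := fun e => h1 (W_eq_zero.1 e)
  have h5 : W y ≠ 4 := fun e => n4 ⟨_, _, F.q_ty h, e⟩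
  omega

theorem Vw.q_red (F : Fr ι t) (V : Vw ι t g p p') (h12 : 12 ≤ W p) (h8 : 8 ≤ W p') :
    ∃ y : alternatingGroup Ω, y * y = 1 ∧ y ≠ 1 ∧ W y + 4 ≤ W p' ∧ IsConj t (t * ι y) := by
  have hp : (p : Perm Ω) * p = 1 := congrArg Subtype.val V.pp
  have hp' : (p' : Perm Ω) * p' = 1 := congrArg Subtype.val V.pp'
  have h5 : 5 ≤ Fintype.card Ω := le_trans (by omega) (h12.trans (Finset.card_le_univ _))
  have cA : ∀ {a b : alternatingGroup Ω}, Commute (a : Perm Ω) b → Commute a b := fun h => Subtype.ext h.eq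
  have cP : ∀ {a b : alternatingGroup Ω}, Commute a b → Commute (a : Perm Ω) b := fun h =>
    congrArg Subtype.val h.eq
  have cI : ∀ {a b : alternatingGroup Ω}, Commute (ι a) (ι b) → Commute a b := fun h =>
    F.inj (by rw [map_mul, map_mul]; exact h.eq)
  obtain ⟨x', hx', ax'⟩ := q_root hp' (le_trans (by norm_num) h8)
  obtain ⟨v, ev, iv⟩ := V.symm.q_in F h8 hx' ax'
  have ev' : g⁻¹ * ι v * g = ι x' := by rw [← ev]; group
  have ep := V.q_p F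
  have ep' := V.symm.q_p F
  have vv : v * v = 1 := F.inj (by
    rw [map_mul, ← ev, map_one]
    have : ι x' * ι x' = 1 := by rw [← map_mul, hx'.1, map_one]
    calc _ = g⁻¹⁻¹ * (ι x' * ι x') * g⁻¹ := by group
      _ = 1 := by rw [this]; group)
  have vp : Commute v p := cI (by
    rw [← ev, ← ep']; exact qg4_cj g⁻¹ ((cA (ax'.comm hp')).map ι))
  have av : Ag (p : Perm Ω) v := q_ag hp (le_trans (by norm_num) h12) (congrArg Subtype.val vv) (cP vp) iv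
    fun m hm => by
      obtain ⟨w, aw, ew⟩ := V.symm.q_nrm F ax' ev (cA hm)
      have c : Commute x' w := cA (qg4_sq (ax'.sq hp') (aw.sq hp') ((ax'.mul hp' aw).sq hp'))
      have c2 : Commute v (m * v * m⁻¹) := cI (by rw [← ew, ← ev]; exact qg4_cj g⁻¹ (c.map ι))
      exact cP c2
  obtain ⟨ρ₁, ρ₂, r1, r2, c1, c2, d1, d2, y2, y1, yi, ys⟩ := q_a4 hp h12 av
  have cu : ∀ {ρ : alternatingGroup Ω}, ρ ^ 3 = 1 → (g⁻¹ * ι ρ * g) ^ 3 = 1 := fun {ρ} h => by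
    have : ι ρ ^ 3 = 1 := by rw [← map_pow, h, map_one]
    calc _ = g⁻¹ * ι ρ ^ 3 * g := by simp only [pow_succ, pow_zero]; group
      _ = 1 := by rw [this]; group
  have ey : g⁻¹ * ι ρ₁ * g * (g⁻¹ * ι ρ₂ * g) = g⁻¹ * ι (ρ₁ * ρ₂) * g := by rw [map_mul]; group
  have y2' : ι (ρ₁ * ρ₂) * ι (ρ₁ * ρ₂) = 1 := by rw [← map_mul, y2, map_one]
  have yy0 : g⁻¹ * ι (ρ₁ * ρ₂) * g * (g⁻¹ * ι (ρ₁ * ρ₂) * g) = 1 := by
    calc _ = g⁻¹ * (ι (ρ₁ * ρ₂) * ι (ρ₁ * ρ₂)) * g := by group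
      _ = 1 := by rw [y2']; group
  obtain ⟨φ₁, φ₂, a1, a2, f1, f2, e⟩ := F.q_ex3 h5 (V.q_act F (cA c1)).1 (V.q_act F (cA c2)).1 (cu r1) (cu r2)
    (by rw [ey]; exact yy0)
  rw [ey] at e
  have f1' : (φ₁ : Perm Ω) ^ 3 = 1 := congrArg Subtype.val f1
  have f2' : (φ₂ : Perm Ω) ^ 3 = 1 := congrArg Subtype.val f2
  have x1 : Commute (φ₁ : Perm Ω) x' := qg4_cm F.inj a1 (by rw [← ev']; exact qg4_cj g (d1.map ι))
  have x2 : Commute (φ₂ : Perm Ω) x' := qg4_cm F.inj a2 (by rw [← ev']; exact qg4_cj g (d2.map ι))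
  have p1 : Commute (φ₁ : Perm Ω) p' := qg4_cm F.inj a1 (by rw [← ep]; exact qg4_cj g ((cA c1).map ι))
  have p2 : Commute (φ₂ : Perm Ω) p' := qg4_cm F.inj a2 (by rw [← ep]; exact qg4_cj g ((cA c2).map ι))
  have yy : φ₁ * φ₂ * (φ₁ * φ₂) = 1 := F.inj (by rw [map_mul, ← e, map_one]; exact yy0)
  have ou : Ou (x' : Perm Ω) (φ₁ * φ₂ : alternatingGroup Ω) := (q_fix_root f1' hx' x1).mul (q_fix_root f2' hx' x2)
  have hin : In (p' : Perm Ω) (φ₁ * φ₂ : alternatingGroup Ω) := by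
    by_cases h2 : (p' : Perm Ω).supportᶜ.card ≤ 2
    · intro z hz
      change (φ₁ : Perm Ω) ((φ₂ : Perm Ω) z) = z
      rw [q_fix_two f2' p2 h2 z hz, q_fix_two f1' p1 h2 z hz]
    by_contra hn
    obtain ⟨m, m3, mo, -, mn⟩ := q_out (p := (p' : Perm Ω)) (x := (φ₁ * φ₂ : alternatingGroup Ω))
      (congrArg Subtype.val yy) (p1.mul_left p2) (by omega) hn
    obtain ⟨ψ, aψ, oψ⟩ := V.symm.q_ou F (le_trans (by norm_num) h12) m3 mo
    have c := in_ou yi oψ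
    have e1 := aψ (ρ₁ * ρ₂)
    have e2 : MulAut.conjNormal ψ (ρ₁ * ρ₂) = ρ₁ * ρ₂ := Subtype.ext (by
      change ψ * ((ρ₁ * ρ₂ : alternatingGroup Ω) : Perm Ω) * ψ⁻¹ = _
      rw [← c.eq, mul_inv_cancel_right])
    rw [e2] at e1
    have e3 : m * (φ₁ * φ₂) * m⁻¹ = φ₁ * φ₂ := F.inj (by
      rw [map_mul, map_mul, map_inv, ← e]
      conv_rhs => rw [← e1]
      group)
    have e4 := congrArg Subtype.val e3
    exact mn (by
      change _ * ((m * (φ₁ * φ₂) * m⁻¹ : alternatingGroup Ω) : Perm Ω) = 1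
      rw [e4]; exact congrArg Subtype.val yy)
  refine ⟨φ₁ * φ₂, yy, fun e1 => y1 (F.inj ?_), q_cnt hin hx' ax' ou, ?_⟩
  · rw [e1, map_one] at e
    rw [map_one]
    calc _ = g * (g⁻¹ * ι (ρ₁ * ρ₂) * g) * g⁻¹ := by group
      _ = 1 := by rw [e]; group
  · have cy : Commute (ρ₁ * ρ₂) p := (cA c1).mul_left (cA c2)
    have sq : ρ₁ * ρ₂ * p * (ρ₁ * ρ₂ * p) = 1 := by
      rw [cy.symm.mul_mul_mul_comm, y2, V.pp, one_mul]
    obtain ⟨m, hm⟩ := isConj_iff.1 (isConj_of_W V.pp sq ys.symm)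
    refine isConj_iff.2 ⟨g⁻¹ * ι m * g, ?_⟩
    have k1 : ι m * (t * ι p) * (ι m)⁻¹ = ι (ρ₁ * ρ₂) * (t * ι p) := by
      rw [← mul_assoc (ι m), ← (F.tC m).eq, ← mul_assoc (ι (ρ₁ * ρ₂)), ← (F.tC (ρ₁ * ρ₂)).eq, mul_assoc t,
        mul_assoc t, mul_assoc t, ← map_inv, ← map_mul, ← map_mul, hm, ← map_mul]
    rw [(F.tC _).eq, ← e]
    calc _ = g⁻¹ * (ι m * (g * t * g⁻¹) * (ι m)⁻¹) * g := by group
      _ = _ := by rw [V.h1, k1, ← V.h1]; group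

theorem Fr.q_eight (F : Fr ι t) (n4 : ¬ J ι t 4) (hp : p * p = 1) (h8 : 8 ≤ W p) (h : IsConj t (t * ι p)) :
    ∃ g p p', Vw ι t g p p' ∧ W p = 8 ∧ W p' = 8 := by
  induction hn : W p using Nat.strong_induction_on generalizing p with
  | _ n ih =>
    obtain ⟨g, q, V, q1⟩ := F.q_vw hp (le_trans (by norm_num) h8) h
    have hq : IsConj t (t * ι q) := isConj_iff.2 ⟨g⁻¹, by rw [inv_inv]; exact V.h2⟩
    have q8 := qg4_eight F n4 V.pp' q1 hq
    by_cases h12 : 12 ≤ W q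
    · obtain ⟨y, yy, y1, yw, hy⟩ := V.symm.q_red F h12 h8
      exact ih (W y) (by omega) yy (qg4_eight F n4 yy y1 hy) hy rfl
    have q4 := four_dvd V.pp'
    by_cases e : W p = 8
    · exact ⟨g, p, q, V, e, by omega⟩
    · exact ih (W q) (by have := four_dvd hp; omega) V.pp' q8 hq rfl

end CfsgLib.ANX
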