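import Cfsg.Agent.Lib.ANX.QG2
import Cfsg.Agent.Lib.ANX.QG4

set_option autoImplicit false
set_option linter.unusedSectionVars false

namespace CfsgLib.ANX

open Subgroup Equiv Equiv.Perm Cfsg CfsgLib.Tech CfsgLib.Alt4 CfsgLib.AltSyl CfsgLib.NatSyl

universe u

variable {Ω : Type} [Fintype Ω] [DecidableEq Ω] {G : Type u} [Group G] [Finite G]
  {ι : alternatingGroup Ω →* G} {t : G} {K : Subgroup G}

/-! PART Q (captain 5). -/

theorem Fr.alpha (F : Fr ι t) {w : ℕ} (hw : 10 ≤ w) (h : J ι t w) :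
    J ι t 4 ∨ J ι t 6 ∨ J ι t 8 := by
  refine or_iff_not_imp_left.2 fun n4 => .inr ?_
  obtain ⟨s, σ, h1, rfl⟩ := h
  obtain ⟨p, hp, h8, hc⟩ := F.q_evt ((by omega : 8 ≤ σ.support.card).trans (Finset.card_le_univ _)) h1
    (by omega) n4
  obtain ⟨g, q, q', V, e, -⟩ := F.q_eight n4 hp h8 hc
  exact ⟨_, _, F.q_ty (isConj_iff.2 ⟨g, V.h1⟩), e⟩

end CfsgLib.ANX
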