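import Cfsg.Agent.Lib.ANX.BCj
import Cfsg.Agent.Lib.ANX.BRes
import Mathlib.GroupTheory.Perm.Centralizer

/-! PART Q: the cases `n = 11, 12` with eight moved points. -/

set_option autoImplicit false
set_option linter.unusedSectionVars false

namespace CfsgLib.ANX

open Subgroup Equiv Equiv.Perm Cfsg CfsgLib.Tech CfsgLib.Alt4 CfsgLib.AltSyl CfsgLib.NatSyl

universe u

variable {Ω : Type} [Fintype Ω] [DecidableEq Ω] {G : Type u} [Group G] [Finite G]
  {ι : alternatingGroup Ω →* G} {t : G}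

/-- P3 -/
theorem qe_p3 {x : Perm Ω} (x3 : x ^ 3 = 1) {m : ℕ} (h : 2 ^ m ∣ Nat.card (centralizer {x}))
    (hn : (Fintype.card Ω = 8 ∧ m = 3) ∨ ((Fintype.card Ω = 11 ∨ Fintype.card Ω = 12) ∧ m = 6)) :
    x = 1 ∨ x.IsThreeCycle := by
  have : Fact (Nat.Prime 3) := ⟨Nat.prime_three⟩
  obtain ⟨k, hk⟩ : ∃ k, x.cycleType = Multiset.replicate k 3 :=
    ⟨_, Multiset.eq_replicate_card.2 (pow_prime_eq_one_iff.1 x3)⟩
  have h1 := x.sum_cycleType.trans_le (Finset.card_le_univ _)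
  rw [nat_card_centralizer, hk] at h
  rw [hk, Multiset.sum_replicate, smul_eq_mul] at h1
  rcases k with _ | _ | k
  · exact .inl (cycleType_eq_zero.1 hk)
  · exact .inr hk
  exfalso
  rw [Multiset.toFinset_replicate, if_neg (by omega), Finset.prod_singleton, Multiset.count_replicate_self,
    Multiset.sum_replicate, Multiset.prod_replicate, smul_eq_mul] at h
  have h2 : k ≤ 2 := by omega
  rcases hn with ⟨e, rfl⟩ | ⟨e | e, rfl⟩ <;> rw [e] at h h1 <;> interval_cases k <;>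
    first | omega | (revert h; decide)

/-- a 3-cycle commuting with an involution fixes its support -/
theorem qe_fix {x σ : Perm Ω} (hx : x = 1 ∨ x.IsThreeCycle) (σ2 : σ * σ = 1) (hc : Commute x σ) :
    Perm.Disjoint x σ := by
  rcases hx with rfl | hx
  · exact disjoint_one_left _
  intro p
  by_contra hp
  rw [not_or] at hp
  have h1 : x (σ p) ≠ σ p := fun e => hp.1 (σ.injective (by rw [← Perm.mul_apply, ← hc.eq]; exact e))
  obtain ⟨i, hi⟩ := hx.isCycle.exists_pow_eq hp.1 h1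
  have c := (hc.pow_left i).eq
  have h2 : (x ^ i) ((x ^ i) p) = p := by
    rw [hi, ← Perm.mul_apply, c, Perm.mul_apply, hi, ← Perm.mul_apply, σ2, Perm.one_apply]
  have h3 : (x ^ i) ^ 3 = 1 := by rw [← pow_mul, mul_comm, pow_mul, ← hx.orderOf, pow_orderOf_eq_one, one_pow]
  have h4 := congrArg (fun y : Perm Ω => y p) h3
  simp only [pow_succ (x ^ i), pow_zero, one_mul, Perm.mul_apply, h2, Perm.one_apply] at h4
  exact hp.2 (hi.symm.trans h4)

/-- the action of a subgroup of `C(t)` -/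
theorem qe_hom (F : Fr ι t) (h5 : 5 ≤ Fintype.card Ω) {Z : Subgroup G} (hZ : ∀ z ∈ Z, Commute z t) :
    ∃ θ : Z →* Perm Ω, ∀ z : Z, Act ι z (θ z) := by
  choose f hf using fun z : Z => F.aut z (hZ z z.2)
  exact ⟨MonoidHom.mk' f fun a b => (hf (a * b)).unique F.inj h5 ((hf a).mul (hf b)), hf⟩

theorem qe_up (F : Fr ι t) (h5 : 5 ≤ Fintype.card Ω) {Z : Subgroup G} (hZ : ∀ z ∈ Z, Commute z t)
    (ht : t ∈ Z) {W : Subgroup (Perm Ω)} (hW : ∀ w ∈ W, ∃ z ∈ Z, Act ι z w) :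
    2 * Nat.card W ∣ Nat.card Z := by
  obtain ⟨θ, hθ⟩ := qe_hom F h5 hZ
  rw [← θ.ker.card_mul_index, index_ker]
  refine mul_dvd_mul ?_ (card_dvd_of_le fun w hw => ?_)
  · have h1 : (⟨t, ht⟩ : Z) ∈ θ.ker := (hθ ⟨t, ht⟩).unique F.inj h5 (Act.one_iff.2 (mem_KK.2 F.tC))
    have h2 : orderOf (⟨t, ht⟩ : Z) = 2 := orderOf_eq_prime (Subtype.ext (by
      rw [pow_two]; exact F.t2)) fun e => F.t1 (congrArg Subtype.val e)
    exact h2 ▸ orderOf_dvd_natCard _ h1
  · obtain ⟨z, hz, e⟩ := hW w hw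
    exact ⟨⟨z, hz⟩, (hθ _).unique F.inj h5 e⟩

theorem qe_down (F : Fr ι t) (h5 : 5 ≤ Fintype.card Ω) {Z : Subgroup G} (hZ : ∀ z ∈ Z, Commute z t)
    {m : ℕ} (hm : 2 ^ (m + 1) ∣ Nat.card Z) {V : Subgroup (Perm Ω)}
    (hV : ∀ z ∈ Z, ∀ σ, Act ι z σ → σ ∈ V) : 2 ^ m ∣ Nat.card V := by
  classical
  obtain ⟨P, hP⟩ := Sylow.exists_subgroup_card_pow_prime 2 hm
  obtain ⟨θ, hθ⟩ := qe_hom F h5 (Z := P.map Z.subtype) fun z hz => hZ z (map_subtype_le _ hz)
  have h1 : Nat.card (P.map Z.subtype) = 2 ^ (m + 1) := by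
    rw [card_map_of_injective Z.subtype_injective, hP]
  have h2 := IsPGroup.of_card h1
  have h3 : Nat.card θ.ker ∣ 2 := by
    have h4 : Nat.card (θ.ker.map (P.map Z.subtype).subtype) ∣ Nat.card (zpowers t) := card_dvd_of_le (by
      rintro _ ⟨z, hz, rfl⟩
      have h6 := hθ z
      rw [MonoidHom.mem_ker.1 hz, Act.one_iff, mem_KK] at h6
      obtain ⟨k, hk⟩ := h2 z
      rcases F.two z h6 (hZ _ (map_subtype_le _ z.2)) (b_tw_iff.2 ⟨k, by
        exact_mod_cast congrArg Subtype.val hk⟩) with e | e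
      · exact (show (z : G) ∈ _ from e ▸ one_mem _)
      · exact (show (z : G) ∈ _ from e ▸ mem_zpowers t))
    rwa [card_map_of_injective (subtype_injective _), Nat.card_zpowers,
      orderOf_eq_prime (by rw [pow_two]; exact F.t2) F.t1] at h4
  refine Dvd.dvd.trans ?_ (card_dvd_of_le (H := θ.range) fun _ ⟨z, e⟩ =>
    hV z (map_subtype_le _ z.2) _ (e ▸ hθ z))
  rw [← θ.ker.card_mul_index, index_ker] at h1
  refine Nat.dvd_of_mul_dvd_mul_left two_pos ?_
  rw [← pow_succ', ← h1]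
  exact mul_dvd_mul_right h3 _

/-- an element of `L` supported on the support of `σ` moves `s` to a commuting conjugate -/
theorem qe_move (hi : Function.Injective ι) {s : G} {σ : Perm Ω} (h : Act ι s σ) (σ2 : σ * σ = 1)
    (h4 : 4 ≤ σ.support.card) : ∃ a : alternatingGroup Ω, (a : Perm Ω).support ⊆ σ.support ∧
      Commute (ι a * s * (ι a)⁻¹) s ∧ ι a * s * (ι a)⁻¹ ≠ s := by
  have ap : ∀ x, σ (σ x) = x := fun x => by rw [← Perm.mul_apply, σ2, Perm.one_apply]
  obtain ⟨p, hp⟩ := Finset.card_pos.1 (show 0 < σ.support.card by omega)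
  obtain ⟨r, hr, h1⟩ : ∃ r ∈ σ.support, r ∉ ({p, σ p} : Finset Ω) :=
    Finset.exists_mem_notMem_of_card_lt_card (Finset.card_le_two.trans_lt (by omega))
  simp only [Finset.mem_insert, Finset.mem_singleton, not_or] at h1
  obtain ⟨rp, rq⟩ := h1
  have pq : σ p ≠ p := mem_support.1 hp
  have ru : σ r ≠ r := mem_support.1 hr
  have up : σ r ≠ p := fun e => rq (by rw [← e, ap])
  have uq : σ r ≠ σ p := fun e => rp (σ.injective e)
  let a : alternatingGroup Ω := ⟨swap p (σ p) * swap (σ p) r, mem_alternatingGroup.2 (by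
    simp [pq.symm, Ne.symm rq])⟩
  let b : alternatingGroup Ω := a * MulAut.conjNormal σ a⁻¹
  have eb : (b : Perm Ω) = swap p r * swap (σ p) (σ r) := by
    show swap p (σ p) * swap (σ p) r * (σ * (swap p (σ p) * swap (σ p) r)⁻¹ * σ⁻¹) = _
    rw [mul_inv_rev, swap_inv, swap_inv, ← conj_mul, ← swap_apply_apply, ← swap_apply_apply, ap, swap_comm (σ p) p]
    have := op_c2 (swap p (σ p)) (σ p) r p (σ r)
    rw [swap_inv] at this
    rw [← mul_assoc, mul_assoc (swap p (σ p)), this]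
    simp [swap_apply_of_ne_of_ne, rp, rq, up, uq]
  have e1 : ι a * s * (ι a)⁻¹ = ι b * s := by
    rw [map_mul, ← h a⁻¹, map_inv]; group
  have c1 : Commute s (ι b) := h.commute (by
    rw [eb, Commute, SemiconjBy, ← mul_inv_eq_iff_eq_mul, op_c2, ap, ap]
    exact (op_sw pq (Ne.symm rq) up ru).eq)
  have b1 : ι b ≠ 1 := fun e => by
    have := congrArg (fun x : alternatingGroup Ω => (x : Perm Ω) p) (hi (e.trans (map_one ι).symm))
    simp only [eb, Perm.mul_apply, swap_apply_of_ne_of_ne pq.symm up.symm, swap_apply_left] at this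
    exact rp this
  refine ⟨a, (support_tc_subset p (σ p) r).trans ?_, ?_, ?_⟩
  · simp only [Finset.insert_subset_iff, Finset.singleton_subset_iff]
    exact ⟨hp, apply_mem_support.2 hp, hr⟩
  · rw [e1]; exact c1.symm.mul_left (Commute.refl s)
  · rw [e1]; simpa using b1

/-- the centraliser of `2^4 3` in `A_11`, `A_12` -/
theorem qe_cen (hn : Fintype.card Ω = 11 ∨ Fintype.card Ω = 12) {σ ρ : Perm Ω} (σ2 : σ * σ = 1)
    (h8 : σ.support.card = 8) (hρ : ρ.IsThreeCycle) (hd : Perm.Disjoint σ ρ) :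
    64 ∣ Nat.card (alternatingGroup Ω ⊓ centralizer {σ * ρ} : Subgroup (Perm Ω)) := by
  have : Fact (Nat.Prime 2) := ⟨Nat.prime_two⟩
  obtain ⟨k, hk⟩ : ∃ k, σ.cycleType = Multiset.replicate k 2 :=
    ⟨_, Multiset.eq_replicate_card.2 (pow_prime_eq_one_iff.1 (by rw [pow_two, σ2]))⟩
  have h1 := σ.sum_cycleType
  rw [hk, Multiset.sum_replicate, smul_eq_mul, h8] at h1
  obtain rfl : k = 4 := by omega
  have h2 : Nat.card (centralizer {σ * ρ}) = 1152 := by
    rw [nat_card_centralizer, hd.cycleType_mul, hk, hρ.cycleType]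
    rcases hn with e | e <;> rw [e] <;> decide
  have h3 := ((alternatingGroup Ω).subgroupOf (centralizer {σ * ρ})).card_mul_index
  have h4 : ((alternatingGroup Ω).subgroupOf (centralizer {σ * ρ})).index ∣ 2 := by
    have : Nontrivial Ω := Fintype.one_lt_card_iff_nontrivial.1 (by omega)
    exact alternatingGroup.index_eq_two (α := Ω) ▸ relIndex_dvd_index_of_normal _ _
  rw [← subgroupOf_map_subtype, card_map_of_injective (subtype_injective _)]
  rcases (Nat.dvd_prime Nat.prime_two).1 h4 with e | e <;> rw [e, h2] at h3 <;> omega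

theorem q_el (F : Fr ι t) (hn : Fintype.card Ω = 11 ∨ Fintype.card Ω = 12)
    (N3 : ∀ Φ : Finset Ω, Φ.card = 3 → ¬ NZ (HC ι Φ) t) (h2 : ¬ J ι t 2) (h : J ι t 8) : False := by
  obtain ⟨s, σ, h, h8⟩ := h
  have h5 : 5 ≤ Fintype.card Ω := by omega
  have hs : s ≠ t := fun e => by
    have := h.ac.unique F.inj h5 (Act.one_iff.2 (mem_KK.2 (e ▸ F.tC)))
    rw [this, support_one] at h8
    simp at h8
  obtain ⟨s2, -⟩ := bj_sq F h
  have σ2 : σ * σ = 1 := (h.ac.mul h.ac).unique F.inj h5 (s2 ▸ Act.one)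
  obtain ⟨g, hg⟩ := isConj_iff.1 h.cj
  have F' : Fr (cα g ι) s := hg ▸ b_conj F g
  obtain ⟨σ', h1⟩ := F'.aut t h.cm.symm
  have σ'2 : σ' * σ' = 1 := (h1.mul h1).unique F'.inj h5 (F.t2 ▸ Act.one)
  have h4 : 4 ≤ σ'.support.card := by
    have e1 : σ' ≠ 1 := fun e => by
      rw [e, Act.one_iff, mem_KK] at h1
      exact (F'.two t h1 h.cm.symm (UFP.pgroup_zpowers_of_sq F.t2)).elim F.t1 hs.symm
    have e2 : σ'.support.card ≠ 2 := fun e => h2 ⟨g⁻¹ * t * g, σ', ⟨isConj_iff.2 ⟨g⁻¹, by simp⟩, by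
      simpa [← hg, mul_assoc] using h.cm.symm.map (MulAut.conj g⁻¹), fun a => by
        have := h1 a
        rw [cα_apply, cα_apply] at this
        calc g⁻¹ * t * g * ι a * (g⁻¹ * t * g)⁻¹ = g⁻¹ * (t * (g * ι a * g⁻¹) * t⁻¹) * g := by group
          _ = _ := by rw [this]; group⟩, e⟩
    have e3 := one_lt_card_support_of_ne_one e1
    have e4 := two_dvd_card_support (σ := σ') (by rw [pow_two, σ'2])
    omega
  obtain ⟨a, ha, c1, c2⟩ := qe_move F'.inj h1 σ'2 h4
  obtain ⟨Φ, hΦ, h3⟩ := Finset.exists_subset_card_eq (s := σ.supportᶜ) (n := 3) (by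
    rw [Finset.card_compl]; omega)
  refine N3 Φ h3 ⟨_, b_mem_HC.2 fun ρ hρ => ?_, c1, c2⟩
  by_cases ρ1 : (ρ : Perm Ω) = 1
  · rw [show ρ = 1 from Subtype.ext ρ1, map_one]; exact Commute.one_right _
  obtain ⟨r1, r2⟩ := mem_altOn.1 hρ
  have r3 : (ρ : Perm Ω).IsThreeCycle := by
    have e1 := one_lt_card_support_of_ne_one ρ1
    have e2 := Finset.card_le_card r1
    refine card_support_eq_three_iff.1 ?_
    by_contra e3
    have := (card_support_eq_two.1 (show (ρ : Perm Ω).support.card = 2 by omega)).sign_eq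
    rw [r2] at this
    exact absurd this (by decide)
  have ρ3 : (ρ : Perm Ω) ^ 3 = 1 := by rw [← r3.orderOf, pow_orderOf_eq_one]
  have hd : Perm.Disjoint σ ρ := disjoint_iff_disjoint_support.2
    (Finset.disjoint_of_subset_right (r1.trans hΦ) disjoint_compl_right)
  obtain ⟨x, hx⟩ := F'.aut (ι ρ) (h.ac.commute hd.commute).symm
  have x3 : x ^ 3 = 1 := (hx.pow 3).unique F'.inj h5 (by
    rw [← map_pow, show ρ ^ 3 = 1 from Subtype.ext ρ3, map_one]; exact Act.one)
  have cx : ∀ z y, Commute z (ι ρ) → Act (cα g ι) z y → Commute x y := fun z y c e =>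
    (hx.mul e).unique F'.inj h5 (c.eq ▸ e.mul hx)
  let Z : Subgroup G := centralizer {t} ⊓ (centralizer {s} ⊓ centralizer {ι ρ})
  have e1 := qe_up F h5 (Z := Z) (fun z hz => mem_centralizer_singleton_iff.1 hz.1)
    ⟨mem_centralizer_singleton_iff.2 rfl, mem_centralizer_singleton_iff.2 h.cm.symm,
      mem_centralizer_singleton_iff.2 (F.tC ρ)⟩
    (W := alternatingGroup Ω ⊓ centralizer {σ * ρ}) fun w hw => by
      have c : Commute w (σ * ρ) := mem_centralizer_singleton_iff.1 hw.2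
      have e3 : (σ * ρ) ^ 3 = σ := by
        rw [hd.commute.mul_pow, ρ3, mul_one, pow_succ, pow_two, σ2, one_mul]
      have c3 : Commute w σ := e3 ▸ c.pow_right 3
      have c4 : Commute w ρ := by
        have := c3.mul_right c
        rwa [← mul_assoc, σ2, one_mul] at this
      exact ⟨ι ⟨w, hw.1⟩, ⟨mem_centralizer_singleton_iff.2 (F.tC _).symm,
        mem_centralizer_singleton_iff.2 (h.ac.commute (a := ⟨w, hw.1⟩) c3.symm).symm,
        mem_centralizer_singleton_iff.2 ((Act.self ⟨w, hw.1⟩).commute c4)⟩, Act.self ⟨w, hw.1⟩⟩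
  have e2 := qe_down F' h5 (Z := Z) (fun z hz => mem_centralizer_singleton_iff.1 hz.2.1) (m := 6)
    ((mul_dvd_mul_left 2 (qe_cen hn σ2 h8 r3 hd)).trans e1) (V := centralizer {x})
    fun z hz y e => mem_centralizer_singleton_iff.2
      (cx z y (mem_centralizer_singleton_iff.1 hz.2.2) e).symm
  have e3 := qe_fix (qe_p3 x3 e2 (.inr ⟨hn, rfl⟩)) σ'2 (cx t σ' (F.tC ρ) h1)
  exact (hx.commute (disjoint_iff_disjoint_support.2 (Finset.disjoint_of_subset_right ha
    (disjoint_iff_disjoint_support.1 e3))).commute).symm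

end CfsgLib.ANX
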