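import Cfsg.Agent.Lib.ANX.QDefs

/-! Row QP7. -/

set_option autoImplicit false
set_option linter.unusedSectionVars false

namespace CfsgLib.ANX

open Subgroup Equiv Equiv.Perm Cfsg CfsgLib.Tech CfsgLib.Alt4 CfsgLib.AltSyl CfsgLib.NatSyl CfsgLib.Alt.FinP

variable {Ω : Type} [Fintype Ω] [DecidableEq Ω]

theorem q_sq (h10 : Fintype.card Ω = 10) {p : alternatingGroup Ω} (hp : p * p = 1) (h8 : W p = 8) {e : Perm Ω}
    (hc : Commute e p) (h : ∀ v : alternatingGroup Ω, Root v → Ag (p : Perm Ω) v → Commute e v) : e * e = 1 := by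
  have pp : ∀ y, (p : Perm Ω) ((p : Perm Ω) y) = y := fun y =>
    congrArg (fun f : alternatingGroup Ω => (f : Perm Ω) y) hp
  have ep : ∀ y, e ((p : Perm Ω) y) = (p : Perm Ω) (e y) := fun y =>
    congrArg (fun f : Perm Ω => f y) hc.eq
  have h8' : (p : Perm Ω).support.card = 8 := h8
  generalize (p : Perm Ω) = q at *
  refine Equiv.ext fun x => ?_
  change e (e x) = x
  by_cases hx : q x = x
  · by_contra k
    have k1 : e x ≠ x := fun f => k (by rw [f, f])
    have f1 : q (e x) = e x := by rw [← ep, hx]
    have f2 : q (e (e x)) = e (e x) := by rw [← ep, f1]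
    have : ({x, e x, e (e x)} : Finset Ω).card ≤ q.supportᶜ.card := Finset.card_le_card fun y hy => by
      simp only [Finset.mem_insert, Finset.mem_singleton] at hy
      rcases hy with rfl | rfl | rfl <;> simpa
    rw [Finset.card_compl, h8', h10, Finset.card_eq_three.2 ⟨_, _, _, k1.symm, Ne.symm k,
      fun f => k1 (e.injective f).symm, rfl⟩] at this
    omega
  have key : e x = x ∨ e x = q x := by
    by_contra k
    rw [not_or] at k
    obtain ⟨y, hy, hy'⟩ := Finset.exists_mem_notMem_of_card_lt_card (t := q.support)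
      (s := {x, q x, e x, q (e x)}) (by rw [h8']; exact Finset.card_le_four.trans_lt (by norm_num))
    simp only [Finset.mem_insert, Finset.mem_singleton, not_or] at hy'
    rw [mem_support] at hy
    have a1 : x ≠ y := Ne.symm hy'.1
    have a2 : x ≠ q y := fun f => hy'.2.1 (by rw [f, pp])
    have a3 : q x ≠ y := Ne.symm hy'.2.1
    have a4 : q x ≠ q y := fun f => a1 (q.injective f)
    have a5 : e x ≠ q y := fun f => hy'.2.2.2 (by rw [f, pp])
    have dj : (swap x (q x)).Disjoint (swap y (q y)) := fun a => by
      by_cases b : a = x ∨ a = q x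
      · right
        rcases b with rfl | rfl
        exacts [swap_apply_of_ne_of_ne a1 a2, swap_apply_of_ne_of_ne a3 a4]
      · rw [not_or] at b
        exact .inl (swap_apply_of_ne_of_ne b.1 b.2)
    have ag : ∀ u, Ag q (swap u (q u)) := fun u a => by
      by_cases b1 : a = u
      · rw [b1, swap_apply_left]; exact .inr rfl
      by_cases b2 : a = q u
      · rw [b2, swap_apply_right, pp]; exact .inr rfl
      · exact .inl (swap_apply_of_ne_of_ne b1 b2)
    have hv := h ⟨swap x (q x) * swap y (q y), by
        rw [mem_alternatingGroup, Perm.sign_mul, sign_swap (Ne.symm hx), sign_swap (Ne.symm hy)]; rfl⟩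
      ⟨Subtype.ext (by
        change swap x (q x) * swap y (q y) * (swap x (q x) * swap y (q y)) = 1
        rw [mul_assoc, ← mul_assoc (swap y (q y)), ← dj.commute.eq, mul_assoc, swap_mul_self, mul_one,
          swap_mul_self]), by
        change (swap x (q x) * swap y (q y)).support.card = 4
        rw [dj.card_support_mul, card_support_swap (Ne.symm hx), card_support_swap (Ne.symm hy)]⟩
      (Ag.mul (Equiv.ext pp) (ag x) (ag y))
    have := congrArg (fun f : Perm Ω => f x) hv.eq
    simp only [Perm.mul_apply] at this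
    rw [swap_apply_of_ne_of_ne a1 a2, swap_apply_left,
      swap_apply_of_ne_of_ne (Ne.symm hy'.2.2.1) a5, swap_apply_of_ne_of_ne k.1 k.2] at this
    exact hx (e.injective this)
  rcases key with k | k
  · rw [k, k]
  · rw [k, ep, k, pp]

end CfsgLib.ANX
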