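import Cfsg.Agent.Lib.ANX.PB
import Cfsg.Agent.Lib.ANX.BRes
import Cfsg.Agent.Lib.ANX.OPerm

/-! ANX part Q, ten points: `t` is isolated in the centraliser of an involution acting as a swap. -/

set_option autoImplicit false
set_option linter.unusedSectionVars false

namespace CfsgLib.ANX

open Subgroup Equiv Equiv.Perm Cfsg CfsgLib.Tech CfsgLib.Alt4 CfsgLib.AltSyl CfsgLib.NatSyl

universe u

variable {Ω : Type} [Fintype Ω] [DecidableEq Ω] {G : Type u} [Group G] [Finite G]
  {ι : alternatingGroup Ω →* G} {t : G}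

/-- the eight point case of `Fr.ql` -/
def QL8 : Prop := ∀ (Ω' : Type) [Fintype Ω'] [DecidableEq Ω'] (H : Type u) [Group H] [Finite H]
  (κ : alternatingGroup Ω' →* H) (s : H), Fr κ s → Fintype.card Ω' = 8 → NZ ⊤ s → J κ s 2 ∨ J κ s 4

theorem qn_comm (hi : Function.Injective ι) (h5 : 5 ≤ Fintype.card Ω) {h k : G} {σ τ : Perm Ω}
    (h1 : Act ι h σ) (h2 : Act ι k τ) (c : Commute h k) : Commute σ τ :=
  (h1.mul h2).unique hi h5 (c.eq ▸ h2.mul h1)

theorem qn_pow (hi : Function.Injective ι) (h5 : 5 ≤ Fintype.card Ω) {h : G} {σ : Perm Ω}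
    (h1 : Act ι h σ) {n : ℕ} (e : h ^ n = 1) : σ ^ n = 1 :=
  (h1.pow n).unique hi h5 (e ▸ Act.one)

theorem qn_pres {σ : Perm Ω} {p q : Ω} (pq : p ≠ q) (h : Commute σ (swap p q)) :
    (σ p = p ∧ σ q = q) ∨ (σ p = q ∧ σ q = p) := by
  have e : swap (σ p) (σ q) = swap p q := by rw [swap_apply_apply, h.eq, mul_inv_cancel_right]
  have e1 := congrArg (fun f : Perm Ω => f (σ p)) e
  have n : σ p ≠ σ q := fun k => pq (σ.injective k)
  simp only [swap_apply_left] at e1
  rw [swap_apply_def] at e1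
  split_ifs at e1 with a b
  exacts [.inl ⟨a, e1⟩, .inr ⟨b, e1⟩, (n e1.symm).elim]

/-- an element of order three commuting with an element of order four and a swap -/
theorem qn_B (h10 : Fintype.card Ω = 10) {ξ η τ : Perm Ω} {p q : Ω} (pq : p ≠ q) (x3 : ξ ^ 3 = 1)
    (e4 : η ^ 4 = 1) (e2 : η * η ≠ 1) (c1 : Commute ξ η) (c2 : Commute ξ (swap p q))
    (c3 : Commute η (swap p q)) (t2 : τ * τ = 1) (c4 : Commute τ ξ) {y : Ω} (hy : τ y ≠ y) :
    ξ y = y := by
  have a3 : ∀ z, ξ (ξ (ξ z)) = z := fun z => by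
    simpa [pow_succ] using congrArg (fun f : Perm Ω => f z) x3
  have a4 : ∀ z, η (η (η (η z))) = z := fun z => by
    simpa [pow_succ] using congrArg (fun f : Perm Ω => f z) e4
  have ac : ∀ z, ξ (η z) = η (ξ z) := fun z => congrArg (fun f : Perm Ω => f z) c1.eq
  have xp : ξ p = p ∧ ξ q = q := by
    rcases qn_pres pq c2 with h | h
    · exact h
    · have := a3 p
      rw [h.1, h.2, h.1] at this
      exact (pq this.symm).elim
  have ep : η (η p) = p ∧ η (η q) = q := by
    rcases qn_pres pq c3 with h | h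
    · exact ⟨by rw [h.1, h.1], by rw [h.2, h.2]⟩
    · exact ⟨by rw [h.1, h.2], by rw [h.2, h.1]⟩
  obtain ⟨a, ha⟩ : ∃ a, η (η a) ≠ a := by
    by_contra h
    push Not at h
    exact e2 (Equiv.ext h)
  have inj := η.injective
  have d1 : ∀ {z}, η (η z) ≠ z → η z ≠ z := fun h e => h (by rw [e, e])
  have d3 : ∀ {z}, η (η z) ≠ z → η (η (η z)) ≠ z := fun {z} h e => by
    have := a4 z
    rw [e] at this
    exact d1 h this
  -- `ξ` fixes a point as soon as it keeps it in its `η`-orbit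
  have orb : ∀ {z}, η (η z) ≠ z → ξ z ≠ z →
      ξ z ≠ η z ∧ ξ z ≠ η (η z) ∧ ξ z ≠ η (η (η z)) := fun {z} h n => by
    refine ⟨fun e => ?_, fun e => ?_, fun e => ?_⟩
    · have := a3 z
      rw [e, ac, e, ac, ac, e] at this
      exact d3 h this
    · have := a3 z
      simp only [e, ac, a4] at this
      exact h this
    · have := a3 z
      simp only [e, ac, a4] at this
      exact d1 h this
  have xa : ξ a = a := by
    by_contra n
    have hb : η (η (ξ a)) ≠ ξ a := by rw [← ac, ← ac]; exact fun e => ha (ξ.injective e)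
    have hc : η (η (ξ (ξ a))) ≠ ξ (ξ a) := by rw [← ac, ← ac]; exact fun e => hb (ξ.injective e)
    have nb : ξ (ξ a) ≠ ξ a := fun e => n (ξ.injective e)
    have nc : ξ (ξ (ξ a)) ≠ ξ (ξ a) := fun e => nb (ξ.injective e)
    obtain ⟨o1, o2, o3⟩ := orb ha n
    obtain ⟨o4, o5, o6⟩ := orb hb nb
    obtain ⟨o7, o8, o9⟩ := orb hc nc
    rw [a3] at o7 o8 o9 nc
    generalize ξ (ξ a) = c at *
    generalize ξ a = b at *
    have dis : ∀ {u v}, η (η u) ≠ u → v ≠ u → v ≠ η u → v ≠ η (η u) → v ≠ η (η (η u)) →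
        Disjoint ({u, η u, η (η u), η (η (η u))} : Finset Ω) {v, η v, η (η v), η (η (η v))} := by
      intro u v hu k0 k1 k2 k3
      have f : ∀ w, w ∈ ({u, η u, η (η u), η (η (η u))} : Finset Ω) →
          η w ∈ ({u, η u, η (η u), η (η (η u))} : Finset Ω) := fun w hw => by
        simp only [Finset.mem_insert, Finset.mem_singleton] at hw ⊢
        rcases hw with rfl | rfl | rfl | rfl <;> simp [a4]
      have nv : v ∉ ({u, η u, η (η u), η (η (η u))} : Finset Ω) := by simp [k0, k1, k2, k3]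
      rw [Finset.disjoint_right]
      intro w hw hw'
      simp only [Finset.mem_insert, Finset.mem_singleton] at hw
      rcases hw with rfl | rfl | rfl | rfl
      · exact nv hw'
      · exact nv (a4 v ▸ f _ (f _ (f _ hw')))
      · exact nv (a4 v ▸ f _ (f _ hw'))
      · exact nv (a4 v ▸ f _ hw')
    have c4 : ∀ {u}, η (η u) ≠ u → ({u, η u, η (η u), η (η (η u))} : Finset Ω).card = 4 := by
      intro u hu
      exact Finset.card_eq_four.2 ⟨_, _, _, _, (d1 hu).symm, hu.symm, (d3 hu).symm,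
        fun e => d1 hu (inj e).symm, fun e => hu (inj e).symm, fun e => d1 hu (inj (inj e)).symm, rfl⟩
    have := Finset.card_le_univ ((({a, η a, η (η a), η (η (η a))} : Finset Ω) ∪
      {b, η b, η (η b), η (η (η b))}) ∪ {c, η c, η (η c), η (η (η c))})
    rw [Finset.card_union_of_disjoint (Finset.disjoint_union_left.2
      ⟨(dis hc nc o7 o8 o9).symm, dis hb nb o4 o5 o6⟩),
      Finset.card_union_of_disjoint (dis ha n o1 o2 o3), c4 ha, c4 hb, c4 hc] at this
    omega
  have sup : ξ.support.card ≤ 4 := by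
    have h6 : ({a, η a, η (η a), η (η (η a)), p, q} : Finset Ω).card = 6 := by
      have k1 : η (η (η a)) ≠ η a := fun e => ha (inj e)
      have k2 : η (η (η (η a))) ≠ η (η a) := fun e => k1 (inj e)
      have k3 : η (η (η (η (η a)))) ≠ η (η (η a)) := fun e => k2 (inj e)
      have np : ∀ {z}, η (η z) ≠ z → z ≠ p ∧ z ≠ q := fun h =>
        ⟨fun e => h (e ▸ ep.1), fun e => h (e ▸ ep.2)⟩
      have m1 := (d1 ha).symm
      have m2 := ha.symm
      have m3 := (d3 ha).symm
      rw [Finset.card_insert_of_notMem, Finset.card_insert_of_notMem, Finset.card_insert_of_notMem,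
        Finset.card_insert_of_notMem, Finset.card_pair pq] <;>
        simp [np ha, np k1, np k2, np k3, m1, m2, m3]
    have : ξ.support ⊆ ({a, η a, η (η a), η (η (η a)), p, q} : Finset Ω)ᶜ := fun z hz => by
      rw [Finset.mem_compl]
      intro hz'
      refine mem_support.1 hz ?_
      simp only [Finset.mem_insert, Finset.mem_singleton] at hz'
      rcases hz' with rfl | rfl | rfl | rfl | rfl | rfl <;> simp [ac, xa, xp]
    have := Finset.card_le_card this
    rw [Finset.card_compl, h6, h10] at this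
    exact this
  by_contra hx
  have o3 : orderOf ξ = 3 := orderOf_eq_prime x3 fun e => hx (by rw [e]; rfl)
  have cy := isCycle_of_prime_order (σ := ξ) (o3 ▸ Nat.prime_three) (by omega)
  obtain ⟨i, hi⟩ := cy.exists_pow_eq hx (y := τ y) (by
    rw [← Perm.mul_apply, ← c4.eq, Perm.mul_apply]; simpa using hx)
  have : ξ ^ i * ξ ^ i = 1 := by
    rw [← pow_add, cy.pow_eq_one_iff' hx, pow_add, Perm.mul_apply, hi, ← Perm.mul_apply,
      ← (c4.pow_right i).eq, Perm.mul_apply, hi, ← Perm.mul_apply, t2, one_apply]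
  have e1 : ξ ^ i = 1 := by
    have k : (ξ ^ i) ^ 3 = 1 := by rw [← pow_mul, mul_comm, pow_mul, x3, one_pow]
    rwa [pow_succ, pow_two, this, one_mul] at k
  exact hy (by rw [← hi, e1]; rfl)

/-- two 2-cycles of an involution -/
theorem qn_two {σ : Perm Ω} (σ2 : σ * σ = 1) {S : Finset Ω} (h3 : 3 ≤ S.card) (hS : S ⊆ σ.support) :
    ∃ a ∈ S, ∃ r ∈ S, σ a ≠ a ∧ σ r ≠ r ∧ r ≠ a ∧ r ≠ σ a ∧ σ r ≠ a ∧ σ r ≠ σ a := by
  have ap : ∀ x, σ (σ x) = x := fun x => by rw [← Perm.mul_apply, σ2, Perm.one_apply]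
  obtain ⟨p, hp⟩ := Finset.card_pos.1 (show 0 < S.card by omega)
  obtain ⟨r, hr, h1⟩ : ∃ r ∈ S, r ∉ ({p, σ p} : Finset Ω) :=
    Finset.exists_mem_notMem_of_card_lt_card (Finset.card_le_two.trans_lt (by omega))
  simp only [Finset.mem_insert, Finset.mem_singleton, not_or] at h1
  exact ⟨p, hp, r, hr, mem_support.1 (hS hp), mem_support.1 (hS hr), h1.1, h1.2,
    fun e => h1.2 (by rw [← e, ap]), fun e => h1.1 (σ.injective e)⟩

/-- an element of `L` moved into the support of `σ` moves `s` to a commuting conjugate -/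
theorem qn_C (hi : Function.Injective ι) {s : G} {σ : Perm Ω} (h : Act ι s σ) (σ2 : σ * σ = 1)
    (h3 : 3 ≤ σ.support.card) : ∃ a : alternatingGroup Ω, (a : Perm Ω).support ⊆ σ.support ∧
      Commute (ι a * s * (ι a)⁻¹) s ∧ ι a * s * (ι a)⁻¹ ≠ s := by
  have ap : ∀ x, σ (σ x) = x := fun x => by rw [← Perm.mul_apply, σ2, Perm.one_apply]
  obtain ⟨p, hp, r, hr, pq, ru, rp, rq, up, uq⟩ := qn_two σ2 h3 subset_rfl
  let a : alternatingGroup Ω := ⟨swap p (σ p) * swap (σ p) r, mem_alternatingGroup.2 (by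
    simp [pq.symm, Ne.symm rq])⟩
  let b : alternatingGroup Ω := a * MulAut.conjNormal σ a⁻¹
  have eb : (b : Perm Ω) = swap p r * swap (σ p) (σ r) := by
    show swap p (σ p) * swap (σ p) r * (σ * (swap p (σ p) * swap (σ p) r)⁻¹ * σ⁻¹) = _
    rw [mul_inv_rev, swap_inv, swap_inv, ← conj_mul, ← swap_apply_apply, ← swap_apply_apply, ap, swap_comm (σ p) p]
    have := op_c2 (swap p (σ p)) (σ p) r p (σ r)
    rw [swap_inv] at this
    rw [← mul_assoc, mul_assoc (swap p (σ p)), this]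
    simp [swap_apply_of_ne_of_ne, rp, rq, up, uq]
  have e1 : ι a * s * (ι a)⁻¹ = ι b * s := by
    rw [map_mul, ← h a⁻¹, map_inv]; group
  have c1 : Commute s (ι b) := h.commute (by
    rw [eb, Commute, SemiconjBy, ← mul_inv_eq_iff_eq_mul, op_c2, ap, ap]
    exact (op_sw pq (Ne.symm rq) up ru).eq)
  have b1 : ι b ≠ 1 := fun e => by
    have := congrArg (fun x : alternatingGroup Ω => (x : Perm Ω) p) (hi (e.trans (map_one ι).symm))
    simp only [eb, Perm.mul_apply, swap_apply_of_ne_of_ne pq.symm up.symm, swap_apply_left] at this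
    exact rp this
  refine ⟨a, (support_tc_subset p (σ p) r).trans ?_, ?_, ?_⟩
  · simp only [Finset.insert_subset_iff, Finset.singleton_subset_iff]
    exact ⟨hp, apply_mem_support.2 hp, hr⟩
  · rw [e1]; exact c1.symm.mul_left (Commute.refl s)
  · rw [e1]; simpa using b1

theorem qn_three {Φ : Finset Ω} (h3 : Φ.card = 3) {b : alternatingGroup Ω}
    (hb : (b : Perm Ω).support ⊆ Φ) : b ^ 3 = 1 := by
  have h1 := Finset.card_le_card hb
  have h2 := card_support_ne_one (b : Perm Ω)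
  have h4 : (b : Perm Ω).support.card ≠ 2 := fun e => by
    have := (card_support_eq_two.1 e).sign_eq
    rw [mem_alternatingGroup.1 b.2] at this
    exact absurd this (by decide)
  refine Subtype.ext ?_
  show (b : Perm Ω) ^ 3 = 1
  rcases (show (b : Perm Ω).support.card = 0 ∨ (b : Perm Ω).support.card = 3 by omega) with e | e
  · rw [card_support_eq_zero.1 e, one_pow]
  · rw [← (card_support_eq_three_iff.1 e).orderOf, pow_orderOf_eq_one]

/-- the configuration `σ = (a b)(e f)(p q)` contradicts `N3` -/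
theorem qn_main (F : Fr ι t) (h10 : Fintype.card Ω = 10)
    (N3 : ∀ Φ : Finset Ω, Φ.card = 3 → ¬ NZ (HC ι Φ) t) (h2 : ¬ J ι t 2) {c g : G} {p q : Ω}
    (pq : p ≠ q) (hc : Commute c t) (ha : Act ι c (swap p q)) (gc : Commute g c)
    (hd : Commute (g * t * g⁻¹) t) {σ : Perm Ω} (hσ : Act ι (g * t * g⁻¹) σ) (hp : σ p = q)
    (h6 : σ.support.card = 6) : False := by
  have h5 : 5 ≤ Fintype.card Ω := by omega
  have F' := b_conj F g
  have ha' : Act (cα g ι) c (swap p q) := by
    have := ha.cα g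
    rwa [gc.eq, mul_inv_cancel_right] at this
  have dc : Commute (g * t * g⁻¹) c := (gc.mul_left hc.symm).mul_left gc.inv_left
  obtain ⟨τ, hτ⟩ := F'.aut t hd.symm
  have τ3 : 3 ≤ τ.support.card := by
    have k1 := card_support_ne_one τ
    have k2 : τ.support.card ≠ 2 := fun e => h2 ⟨g⁻¹ * t * g, τ, ⟨isConj_iff.2 ⟨g⁻¹, by simp⟩, by
      simpa [mul_assoc] using hd.symm.map (MulAut.conj g⁻¹), by
      have := hτ.cα g⁻¹
      rwa [cα_cα, inv_mul_cancel, cα_one, inv_inv] at this⟩, e⟩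
    have k0 : τ.support.card ≠ 0 := fun e => by
      rw [card_support_eq_zero.1 e] at hτ
      rcases F'.two t (mem_KK.1 (Act.one_iff.1 hτ)) hd.symm (UFP.pgroup_zpowers_of_sq F.t2) with k | k
      · exact F.t1 k
      · rw [← k] at hσ
        have := hσ.unique F.inj h5 (Act.one_iff.2 (mem_KK.2 F.tC))
        rw [this] at hp
        exact pq hp
    omega
  generalize g * t * g⁻¹ = d at *
  generalize cα g ι = κ at *
  have σ2 : σ * σ = 1 := by rw [← pow_two]; exact qn_pow F.inj h5 hσ (by rw [pow_two, F'.t2])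
  have τ2 : τ * τ = 1 := by rw [← pow_two]; exact qn_pow F'.inj h5 hτ (by rw [pow_two, F.t2])
  have ap : ∀ x, σ (σ x) = x := fun x => by rw [← Perm.mul_apply, σ2, Perm.one_apply]
  have hq : σ q = p := by rw [← hp, ap]
  obtain ⟨a, ha1, r, hr1, aa, rr, ra, rb, fa, fb⟩ := qn_two σ2 (S := σ.support \ {p, q}) (by
    have := Finset.le_card_sdiff {p, q} σ.support
    have := Finset.card_le_two (a := p) (b := q)
    omega) Finset.sdiff_subset
  simp only [Finset.mem_sdiff, Finset.mem_insert, Finset.mem_singleton, not_or] at ha1 hr1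
  have ap' : a ≠ p := ha1.2.1
  have aq : a ≠ q := ha1.2.2
  have rp : r ≠ p := hr1.2.1
  have rq : r ≠ q := hr1.2.2
  have bp : σ a ≠ p := fun e => aq (by rw [← hp, ← e, ap])
  have bq : σ a ≠ q := fun e => ap' (by rw [← hq, ← e, ap])
  have fp : σ r ≠ p := fun e => rq (by rw [← hp, ← e, ap])
  have fq : σ r ≠ q := fun e => rp (by rw [← hq, ← e, ap])
  let u : Perm Ω := swap a r * swap (σ a) (σ r)
  let v : Perm Ω := swap a (σ a) * swap p q
  let x : alternatingGroup Ω := ⟨u * v, mul_mem (op_even ra.symm fb.symm) (op_even aa.symm pq)⟩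
  have uu : u * u = 1 := op_sq (swap_mul_self _ _) (swap_mul_self _ _) (op_sw aa.symm fa.symm rb rr.symm)
  have xx : (x : Perm Ω) * x = swap r (σ r) * swap a (σ a) := by
    have e : u * v * u⁻¹ = swap r (σ r) * swap p q := by
      rw [op_c2]
      simp [u, swap_apply_of_ne_of_ne, aa.symm, fa.symm, fa, rr, ap'.symm, aq.symm, rp.symm, rq.symm,
        bp.symm, bq.symm, fp.symm, fq.symm]
    show u * v * (u * v) = _
    rw [← mul_assoc]
    nth_rw 2 [← inv_eq_of_mul_eq_one_right uu]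
    rw [e, mul_assoc, ← mul_assoc (swap p q), ← (op_sw ap' aq bp bq).eq, mul_assoc, swap_mul_self,
      mul_one]
  have σu : Commute σ u := mul_inv_eq_iff_eq_mul.1 (by
    rw [op_c2, ap, ap]; exact (op_sw aa rb.symm fa rr).eq)
  have σv : Commute σ v := mul_inv_eq_iff_eq_mul.1 (by
    rw [op_c2, ap, hp, hq, swap_comm (σ a), swap_comm q])
  have su : Commute (swap p q) u :=
    (op_sw ap' aq rp rq).symm.mul_right (op_sw bp bq fp fq).symm
  have sv : Commute (swap p q) v := (op_sw ap' aq bp bq).symm.mul_right (Commute.refl _)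
  have xd : Commute (ι x) d := (hσ.commute (σu.mul_right σv)).symm
  have xc : Commute (ι x) c := (ha.commute (su.mul_right sv)).symm
  obtain ⟨η, hη⟩ := F'.aut _ xd
  have x4 : x ^ 4 = 1 := Subtype.ext (by
    show (x : Perm Ω) ^ 4 = 1
    rw [show (4 : ℕ) = 2 * 2 from rfl, pow_mul, pow_two (x : Perm Ω), xx, pow_two]
    exact op_sq (swap_mul_self _ _) (swap_mul_self _ _) (op_sw ra rb fa fb))
  have η4 : η ^ 4 = 1 := qn_pow F'.inj h5 hη (by rw [← map_pow, x4, map_one])
  have η2 : η * η ≠ 1 := fun e => by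
    have k := hη.mul hη
    rw [e, ← map_mul] at k
    rcases F'.two _ (mem_KK.1 (Act.one_iff.1 k)) (by rw [map_mul]; exact xd.mul_left xd)
      (UFP.pgroup_zpowers_of_sq (by
        rw [← map_mul, ← map_one ι, ← x4]; congr 1)) with k | k
    · have := congrArg (fun y : alternatingGroup Ω => (y : Perm Ω) a) (F.inj (k.trans (map_one ι).symm))
      simp only [Subgroup.coe_mul, xx, Perm.mul_apply, swap_apply_left,
        swap_apply_of_ne_of_ne rb.symm fb.symm] at this
      exact aa this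
    · have := (Act.self (α := ι) (x * x)).unique F.inj h5 (k ▸ hσ)
      have := congrArg (fun y : Perm Ω => y p) this
      simp only [Subgroup.coe_mul, xx, Perm.mul_apply, swap_apply_of_ne_of_ne ap'.symm bp.symm,
        swap_apply_of_ne_of_ne rp.symm fp.symm, hp] at this
      exact pq this
  obtain ⟨Φ, hΦ, Φ3⟩ := Finset.exists_subset_card_eq (s := σ.supportᶜ) (n := 3) (by
    rw [Finset.card_compl, h6, h10]; decide)
  obtain ⟨l, l1, l2, l3⟩ := qn_C F'.inj hτ τ2 τ3
  refine N3 Φ Φ3 ⟨κ l, b_mem_HC.2 fun b hb => ?_, l2, l3⟩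
  have hb' := (mem_altOn.1 hb).1
  have dj : ∀ ω : Perm Ω, (∀ z, σ z = z → ω z = z) → Commute ω b := fun ω h =>
    Disjoint.commute fun z => (em (z ∈ Φ)).imp (fun m => h z (by simpa using hΦ m))
      fun m => notMem_support.1 fun k => m (hb' k)
  have ne : ∀ {z w}, σ z = z → σ w ≠ w → z ≠ w ∧ z ≠ σ w := fun {z w} e n =>
    ⟨fun k => n (k ▸ e), fun k => n (by rw [k, ap] at e; exact e.symm)⟩
  have pp : σ p ≠ p := by rw [hp]; exact pq.symm
  have s1 : ∀ z, σ z = z → swap p q z = z := fun z e =>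
    swap_apply_of_ne_of_ne (ne e pp).1 (hp ▸ (ne e pp).2)
  have bd : Commute (ι b) d := (hσ.commute (dj σ fun _ e => e)).symm
  obtain ⟨ξ, hξ⟩ := F'.aut _ bd
  have bx : Commute (ι b) (ι x) := Commute.map (Subtype.ext (dj x fun z e => by
    show (swap a r) ((swap (σ a) (σ r)) ((swap a (σ a)) (swap p q z))) = z
    rw [s1 z e, swap_apply_of_ne_of_ne (ne e aa).1 (ne e aa).2,
      swap_apply_of_ne_of_ne (ne e aa).2 (ne e rr).2,
      swap_apply_of_ne_of_ne (ne e aa).1 (ne e rr).1]).symm.eq) ι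
  refine (hξ.commute (Disjoint.commute fun z => (em (τ z = z)).symm.imp (fun m => ?_)
    fun m => notMem_support.1 fun k => mem_support.1 (l1 k) m)).symm
  exact qn_B h10 pq (qn_pow F'.inj h5 hξ (by rw [← map_pow, qn_three Φ3 hb', map_one])) η4 η2
    (qn_comm F'.inj h5 hξ hη bx) (qn_comm F'.inj h5 hξ ha' (ha.commute (dj _ s1)).symm)
    (qn_comm F'.inj h5 hη ha' xc) τ2 (qn_comm F'.inj h5 hτ hξ (F.tC b)) m

theorem qn_zp {H : Type*} [Group H] {c x : H} (c2 : c * c = 1) (h : x ∈ zpowers c) : x = 1 ∨ x = c := by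
  obtain ⟨n, rfl⟩ := mem_zpowers_iff.1 h
  have e : c ^ (2 : ℤ) = 1 := by rw [zpow_two, c2]
  rcases Int.even_or_odd' n with ⟨k, rfl | rfl⟩
  · exact .inl (by rw [zpow_mul, e, one_zpow])
  · exact .inr (by rw [zpow_add, zpow_mul, e, one_zpow, one_mul, zpow_one])

/-- the frame on eight points in `C(c) / ⟨c⟩` -/
theorem qn_quot (ql : QL8.{u}) (F : Fr ι t) (h10 : Fintype.card Ω = 10) (h2 : ¬ J ι t 2) {c : G}
    {p q : Ω} (pq : p ≠ q) (hc : Commute c t) (c2 : c * c = 1) (ha : Act ι c (swap p q))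
    (h : NZ (centralizer {c}) t) : ∃ g σ, Commute g c ∧ Commute (g * t * g⁻¹) t ∧
      Act ι (g * t * g⁻¹) σ ∧
      ((σ.support \ {p, q}).card = 2 ∨ (σ.support \ {p, q}).card = 4) := by
  have h5 : 5 ≤ Fintype.card Ω := by omega
  set Φ : Finset Ω := {p, q} with hΦ
  have c8 : Fintype.card (Φᶜ : Finset Ω) = 8 := by
    rw [Fintype.card_coe, Finset.card_compl, hΦ, Finset.card_pair pq, h10]
  have c5 : 5 ≤ Fintype.card (Φᶜ : Finset Ω) := by omega
  set H : Subgroup G := centralizer {c}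
  have mH : ∀ {x}, x ∈ H ↔ Commute x c := mem_centralizer_singleton_iff
  have ta : Act ι t 1 := Act.one_iff.2 (mem_KK.2 F.tC)
  have ntc : ¬ IsConj t (t * c) := fun k => h2 ⟨t * c, swap p q, ⟨k, (Commute.refl t).mul_left hc,
    by simpa using ta.mul ha⟩, card_support_swap pq⟩
  let c' : H := ⟨c, mH.2 (Commute.refl c)⟩
  let t' : H := ⟨t, mH.2 hc.symm⟩
  have cc : c' * c' = 1 := Subtype.ext c2
  have hN : (zpowers c').Normal := ⟨fun x hx g => by
    rcases qn_zp cc hx with rfl | rfl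
    · simp
    · rw [show g * c' * g⁻¹ = c' from Subtype.ext (mul_inv_eq_iff_eq_mul.2 (mH.1 g.2).eq)]
      exact mem_zpowers _⟩
  let f := QuotientGroup.mk' (zpowers c')
  have fe : ∀ {x y : H}, f x = f y → (x : G) = y ∨ (x : G) = y * c := fun {x y} e => by
    rcases qn_zp cc (QuotientGroup.eq.1 e.symm) with k | k
    · exact .inl (congrArg Subtype.val (inv_mul_eq_one.1 k)).symm
    · exact .inr (congrArg Subtype.val (inv_mul_eq_iff_eq_mul.1 k))
  have fc : f c' = 1 := (QuotientGroup.eq_one_iff _).2 (mem_zpowers _)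
  have sw : ∀ a : Perm (Φᶜ : Finset Ω), Commute (swap p q) (Perm.ofSubtype a) := fun a =>
    Disjoint.commute fun z => (em (z ∈ Φᶜ)).imp (fun m => by
      simp only [hΦ, Finset.mem_compl, Finset.mem_insert, Finset.mem_singleton, not_or] at m
      exact swap_apply_of_ne_of_ne m.1 m.2) fun m => ofSubtype_apply_of_not_mem _ m
  let j : alternatingGroup (Φᶜ : Finset Ω) →* H :=
    (ι.comp (alternatingGroup.ofSubtype Φᶜ)).codRestrict _ fun a => mH.2 (ha.commute (sw a)).symm
  have hj : ∀ a, (j a : G) = ι (alternatingGroup.ofSubtype Φᶜ a) := fun _ => rfl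
  have inj : Function.Injective (f.comp j) := (injective_iff_map_eq_one _).2 fun a e => by
    rcases fe (e.trans (map_one f).symm) with k | k
    · exact alternatingGroup.ofSubtype_injective (F.inj (k.trans (by simp)))
    · rw [hj, OneMemClass.coe_one, one_mul] at k
      have := congrArg sign ((Act.self _).unique F.inj h5 (k ▸ ha))
      rw [mem_alternatingGroup.1 (alternatingGroup.ofSubtype Φᶜ a).2, sign_swap pq] at this
      exact absurd this (by decide)
  have pres : ∀ (g : H) σ, Act ι g σ → ∀ x, σ x ∈ Φᶜ ↔ x ∈ Φᶜ := fun g σ h x => by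
    simp only [hΦ, Finset.mem_compl, Finset.mem_insert, Finset.mem_singleton]
    rcases qn_pres pq (qn_comm F.inj h5 h ha (mH.1 g.2)) with ⟨e1, e2⟩ | ⟨e1, e2⟩
    · nth_rw 1 [← e1, ← e2]; simp
    · nth_rw 1 [← e2]; nth_rw 2 [← e1]; simp [or_comm]
  have act : ∀ (g : H) σ (h : Act ι g σ), Act (f.comp j) (f g) (σ.subtypePerm (pres g σ h)) :=
    fun g σ h a => by
      rw [MonoidHom.comp_apply, MonoidHom.comp_apply, ← map_inv, ← map_mul, ← map_mul]
      exact congrArg f (Subtype.ext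
        (h.eq (a := alternatingGroup.ofSubtype Φᶜ a) (b_conj_sub (pres g σ h) a)))
  have lift : ∀ g : H, Commute (f g) (f t') → Commute (g : G) t := fun g h => by
    rcases fe (x := g * t' * g⁻¹) (y := t') (by simp [h.eq]) with k | k
    · exact mul_inv_eq_iff_eq_mul.1 k
    · exact (ntc (isConj_iff.2 ⟨g, k⟩)).elim
  have F' : Fr (f.comp j) (f t') := by
    refine ⟨⟨inj, by rw [← map_mul, show t' * t' = 1 from Subtype.ext F.t2, map_one], fun e => ?_,
      fun a => Commute.map (Subtype.ext (F.tC _).eq) f, fun g hg => ?_⟩, fun x h1 h3 h4 => ?_⟩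
    · rcases fe (e.trans (map_one f).symm) with k | k
      · exact F.t1 k
      · have k' : t = c := k.trans (one_mul c)
        have := congrArg (· p) (ta.unique F.inj h5 (k' ▸ ha))
        exact pq (by simpa using this)
    · obtain ⟨g, rfl⟩ := QuotientGroup.mk'_surjective _ g
      obtain ⟨σ, h⟩ := F.aut _ (lift g hg)
      exact ⟨_, act g σ h⟩
    · obtain ⟨x, rfl⟩ := QuotientGroup.mk'_surjective _ x
      have xt := lift x h3
      obtain ⟨σ, h⟩ := F.aut _ xt
      have e1 : σ.subtypePerm (pres x σ h) = 1 :=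
        (act x σ h).unique inj c5 (Act.one_iff.2 (mem_KK.2 h1))
      have fx : ∀ z, z ≠ p → z ≠ q → σ z = z := fun z z1 z2 => congrArg Subtype.val
        (congrArg (fun r : Perm (Φᶜ : Finset Ω) => r ⟨z, by simp [hΦ, z1, z2]⟩) e1)
      obtain ⟨k, e⟩ := b_tw_iff.1 h4
      have e' : (x : G) ^ 2 ^ (k + 1) = 1 := by
        rw [pow_succ, pow_mul, pow_two]
        rcases fe (x := x ^ 2 ^ k) (y := 1) (by rw [map_pow, map_one]; exact e) with m | m <;>
          simp only [SubmonoidClass.coe_pow, OneMemClass.coe_one, one_mul] at m <;> rw [m]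
        exacts [one_mul 1, c2]
      rcases qn_pres pq (qn_comm F.inj h5 h ha (mH.1 x.2)) with ⟨e2, e3⟩ | ⟨e2, e3⟩
      · obtain rfl : σ = 1 := Equiv.ext fun z => by
          by_cases z1 : z = p
          · rw [z1, e2]; rfl
          by_cases z2 : z = q
          · rw [z2, e3]; rfl
          exact fx z z1 z2
        rcases F.two x (mem_KK.1 (Act.one_iff.1 h)) xt (b_tw_iff.2 ⟨_, e'⟩) with m | m
        · exact .inl (by rw [show x = 1 from Subtype.ext m, map_one])
        · exact .inr (congrArg f (Subtype.ext m))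
      · obtain rfl : σ = swap p q := Equiv.ext fun z => by
          by_cases z1 : z = p
          · rw [z1, e2, swap_apply_left]
          by_cases z2 : z = q
          · rw [z2, e3, swap_apply_right]
          rw [fx z z1 z2, swap_apply_of_ne_of_ne z1 z2]
        have m0 : f (x * c') = f x := by rw [map_mul, fc, mul_one]
        rcases F.two (x * c) (mem_KK.1 (Act.one_iff.1 (by simpa using h.mul ha))) (xt.mul_left hc)
          (b_tw_iff.2 ⟨k + 1, by
            rw [(mH.1 x.2).mul_pow, e', pow_succ', pow_mul, pow_two, c2, one_pow, one_mul]⟩) with m | m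
        · exact .inl (m0.symm.trans (by rw [show x * c' = 1 from Subtype.ext m, map_one]))
        · exact .inr (m0.symm.trans (congrArg f (Subtype.ext m)))
  have nz : NZ ⊤ (f t') := by
    obtain ⟨g, hg, k1, k2⟩ := h
    have k3 : Commute ((⟨g, hg⟩ : H) * t' * (⟨g, hg⟩ : H)⁻¹) t' := Subtype.ext k1.eq
    refine ⟨f ⟨g, hg⟩, trivial, by simpa using k3.map f, fun e => ?_⟩
    rcases fe (x := ⟨g, hg⟩ * t' * ⟨g, hg⟩⁻¹) (y := t') (by simpa using e) with k | k
    exacts [k2 k, ntc (isConj_iff.2 ⟨g, k⟩)]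
  have key : ∀ w, J (f.comp j) (f t') w → ∃ g σ, Commute g c ∧ Commute (g * t * g⁻¹) t ∧
      Act ι (g * t * g⁻¹) σ ∧ (σ.support \ Φ).card = w := fun w ⟨s, τ, k, e⟩ => by
    obtain ⟨g, rfl⟩ := isConj_iff.1 k.cj
    obtain ⟨g, rfl⟩ := QuotientGroup.mk'_surjective _ g
    have e0 : f (g * t' * g⁻¹) = f g * f t' * (f g)⁻¹ := by simp
    have k1 := lift (g * t' * g⁻¹) (e0 ▸ k.cm)
    obtain ⟨σ, hσ⟩ := F.aut _ k1
    obtain rfl := (act _ σ hσ).unique inj c5 (e0 ▸ k.ac)
    refine ⟨g, σ, mH.1 g.2, k1, hσ, ?_⟩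
    rw [← e, ← Finset.card_map (Function.Embedding.subtype _)]
    congr 1
    ext z
    simp only [Finset.mem_sdiff, mem_support, Finset.mem_map, Function.Embedding.coe_subtype]
    exact ⟨fun ⟨m1, m2⟩ => ⟨⟨z, Finset.mem_compl.2 m2⟩, fun m => m1 (congrArg Subtype.val m), rfl⟩,
      fun ⟨y, m1, m2⟩ => m2 ▸ ⟨fun m => m1 (Subtype.ext m), Finset.mem_compl.1 y.2⟩⟩
  rcases ql _ _ _ _ F' c8 nz with k | k <;> obtain ⟨g, σ, k1, k2, k3, k4⟩ := key _ k
  exacts [⟨g, σ, k1, k2, k3, .inl k4⟩, ⟨g, σ, k1, k2, k3, .inr k4⟩]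

/-- `N_c` -/
theorem q_nc (ql : QL8.{u}) (F : Fr ι t) (h10 : Fintype.card Ω = 10)
    (N3 : ∀ Φ : Finset Ω, Φ.card = 3 → ¬ NZ (HC ι Φ) t) (h2 : ¬ J ι t 2) (h4 : ¬ J ι t 4) {c : G}
    {p q : Ω} (pq : p ≠ q) (hc : Commute c t) (c2 : c * c = 1) (ha : Act ι c (swap p q)) :
    ¬ NZ (centralizer {c}) t := fun h => by
  obtain ⟨g, σ, gc, hd, hσ, k⟩ := qn_quot ql F h10 h2 pq hc c2 ha h
  have ty : Ty ι t (g * t * g⁻¹) σ := ⟨isConj_iff.2 ⟨g, rfl⟩, hd, hσ⟩
  have n2 : σ.support.card ≠ 2 := fun e => h2 ⟨_, _, ty, e⟩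
  have n4 : σ.support.card ≠ 4 := fun e => h4 ⟨_, _, ty, e⟩
  rcases qn_pres pq (qn_comm F.inj (by omega) hσ ha
    ((gc.mul_left hc.symm).mul_left gc.inv_left)) with ⟨e1, e2⟩ | ⟨e1, e2⟩
  · rw [Finset.sdiff_eq_self_of_disjoint (by simp [e1, e2])] at k
    omega
  · have := Finset.card_sdiff_add_card_eq_card (s := {p, q}) (t := σ.support) (by
      simp [Finset.insert_subset_iff, e1, e2, pq, pq.symm])
    rw [Finset.card_pair pq] at this
    exact qn_main F h10 N3 h2 pq hc ha gc hd hσ e1 (by omega)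

end CfsgLib.ANX
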