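import Cfsg.Agent.Lib.ANX.WLoc

/-! Part W, row WA1: uniqueness of hats. -/

set_option autoImplicit false
set_option linter.unusedSectionVars false

namespace CfsgLib.ANX

open Subgroup Equiv Equiv.Perm Cfsg CfsgLib.Tech CfsgLib.Alt4 CfsgLib.AltSyl CfsgLib.NatSyl

universe u

variable {Ω : Type} [Fintype Ω] [DecidableEq Ω] {G : Type u} [Group G] [Finite G]
  {ι : alternatingGroup Ω →* G} {t : G}

theorem wa1_two {s : Finset Ω} (h : s.card + 2 ≤ Fintype.card Ω) : ∃ y z, y ∉ s ∧ z ∉ s ∧ y ≠ z := by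
  obtain ⟨y, hy, z, hz, e⟩ := Finset.one_lt_card.1 (show 1 < sᶜ.card by rw [Finset.card_compl]; omega)
  exact ⟨y, z, Finset.mem_compl.1 hy, Finset.mem_compl.1 hz, e⟩

theorem wa1_sw {a : Perm Ω} {x y : Ω} (hx : a x = x) (hy : a y = y) : Commute (swap x y) a := by
  have := swap_apply_apply a x y
  rw [hx, hy] at this
  exact (mul_inv_eq_iff_eq_mul.1 this.symm).symm

/-- `σ` commutes with `Alt (supp a)ᶜ` (at least 5 points) so fixes these points; it commutes with the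
four-group of `supp a` and with `(p, a p)(x y)`, so it is `1` or `a` on `supp a`. -/
theorem wa_cen_root (h9 : 9 ≤ Fintype.card Ω) {a : alternatingGroup Ω} (ha : Root a) {σ : Perm Ω}
    (h : ∀ c : alternatingGroup Ω, Commute c a → Commute σ c) : σ = 1 ∨ σ = a := by
  have k : ∀ x y z w : Ω, x ≠ y → z ≠ w → Commute (swap x y) (a : Perm Ω) → Commute (swap z w) (a : Perm Ω) →
      ∀ i, σ ((swap x y * swap z w) i) = (swap x y * swap z w) (σ i) := fun x y z w h1 h2 c1 c2 i =>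
    congrArg (· i) (h ⟨swap x y * swap z w, mem_alternatingGroup.2 (by
      rw [Perm.sign_mul, sign_swap h1, sign_swap h2]; simp)⟩ (Subtype.ext (c1.mul_left c2).eq)).eq
  have ka : ∀ i, σ ((a : Perm Ω) i) = (a : Perm Ω) (σ i) := fun i => congrArg (· i) (h a (Commute.refl a)).eq
  have h4 : (a : Perm Ω).support.card = 4 := ha.2
  have fix : ∀ x, (a : Perm Ω) x = x → σ x = x := fun x hx => by
    by_contra ne
    have hx' : (a : Perm Ω) (σ x) = σ x := by rw [← ka, hx]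
    obtain ⟨y, z, hy, hz, yz⟩ := wa1_two (s := insert x (insert (σ x) (a : Perm Ω).support))
      (by have := Finset.card_insert_le x (insert (σ x) (a : Perm Ω).support)
          have := Finset.card_insert_le (σ x) (a : Perm Ω).support
          omega)
    simp only [Finset.mem_insert, not_or, mem_support, not_not] at hy hz
    have e := k (σ x) y (σ x) z (Ne.symm hy.2.1) (Ne.symm hz.2.1) (wa1_sw hx' hy.2.2) (wa1_sw hx' hz.2.2) x
    rw [Perm.mul_apply, Perm.mul_apply, swap_apply_left, swap_apply_of_ne_of_ne (Ne.symm ne) (Ne.symm hz.1),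
      swap_apply_of_ne_of_ne (Ne.symm ne) (Ne.symm hy.1), swap_apply_of_ne_of_ne hz.2.1 yz.symm] at e
    exact hz.2.1 e.symm
  obtain ⟨v, f⟩ := ha.exists_four
  obtain ⟨p, hp⟩ := f.exists_mem
  have kv : ∀ i, σ ((v : Perm Ω) i) = (v : Perm Ω) (σ i) := fun i => congrArg (· i) (h v f.uv.symm).eq
  have aa : ∀ i, (a : Perm Ω) ((a : Perm Ω) i) = i := fun i => congrArg (fun b : alternatingGroup Ω => (b : Perm Ω) i) ha.1
  have pa : (a : Perm Ω) p ≠ p := mem_support.1 hp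
  have key : ∀ τ : Perm Ω, Commute τ a → Commute τ v → (∀ x, (a : Perm Ω) x = x → τ x = x) → σ p = τ p → σ = τ :=
    fun τ c1 c2 c3 e => Equiv.ext fun q => by
      have d1 : ∀ i, τ ((a : Perm Ω) i) = (a : Perm Ω) (τ i) := fun i => congrArg (· i) c1.eq
      have d2 : ∀ i, τ ((v : Perm Ω) i) = (v : Perm Ω) (τ i) := fun i => congrArg (· i) c2.eq
      by_cases hq : q ∈ (a : Perm Ω).support
      · rcases f.cases hp hq with rfl | rfl | rfl | rfl
        · exact e
        · rw [ka, d1, e]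
        · rw [kv, d2, e]
        · rw [ka, kv, d1, d2, e]
      · rw [fix q (notMem_support.1 hq), c3 q (notMem_support.1 hq)]
  obtain ⟨x, y, hx, hy, xy⟩ := wa1_two (s := (a : Perm Ω).support) (by omega)
  rw [notMem_support] at hx hy
  have c0 : Commute (swap p ((a : Perm Ω) p)) (a : Perm Ω) := by
    have := swap_apply_apply (a : Perm Ω) p ((a : Perm Ω) p)
    rw [aa, swap_comm] at this
    exact (mul_inv_eq_iff_eq_mul.1 this.symm).symm
  have px : p ≠ x := fun e => pa (by rw [e, hx])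
  have py : p ≠ y := fun e => pa (by rw [e, hy])
  have e := k p _ x y pa.symm xy c0 (wa1_sw hx hy) p
  rw [Perm.mul_apply, Perm.mul_apply, swap_apply_of_ne_of_ne px py, swap_apply_left,
    swap_apply_of_ne_of_ne (fun e => px (σ.injective (e.trans (fix x hx).symm)))
      (fun e => py (σ.injective (e.trans (fix y hy).symm)))] at e
  by_cases h1 : σ p = p
  · exact .inl (key 1 (Commute.one_left _) (Commute.one_left _) (fun _ _ => rfl) h1)
  by_cases h2 : σ p = (a : Perm Ω) p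
  · exact .inr (key a (Commute.refl _) (f.uv.map (alternatingGroup Ω).subtype) (fun _ h => h) h2)
  rw [swap_apply_of_ne_of_ne h1 h2] at e
  exact absurd (σ.injective e) pa

theorem wa1_od (F : Fr ι t) {c : G} (h1 : CL ι c) (h2 : Commute c t) : Od ι t c ∨ Od ι t (t * c) := by
  obtain ⟨k, m, hm, e⟩ := Nat.exists_eq_two_pow_mul_odd (orderOf_pos c).ne'
  have e1 : (c ^ m) ^ 2 ^ k = 1 := by rw [← pow_mul, mul_comm, ← e, pow_orderOf_eq_one]
  refine (F.two _ (fun a => (h1 a).pow_left m) (h2.pow_left m) (isPGroup_zpowers_of_pow e1)).imp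
    (fun f => ⟨h1, h2, hm.of_dvd_nat (orderOf_dvd_of_pow_eq_one f)⟩) fun f =>
      ⟨fun a => (F.tC a).mul_left (h1 a), (Commute.refl t).mul_left h2,
        hm.of_dvd_nat (orderOf_dvd_of_pow_eq_one ?_)⟩
  obtain ⟨j, rfl⟩ := hm
  rw [h2.symm.mul_pow, f, pow_succ, pow_mul, pow_two, F.t2, one_pow, one_mul, F.t2]

theorem wa1_odd {o : G} (h : Odd (orderOf o)) (e : o ^ 2 ^ 2 = 1) : o = 1 :=
  orderOf_eq_one_iff.1 (Nat.eq_one_of_dvd_coprimes ((Nat.coprime_two_right.2 h).pow_right 2)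
    dvd_rfl (orderOf_dvd_of_pow_eq_one e))

theorem wa1_end (F : Fr ι t) {v x d : G} (hv : v * v = 1) (hx : v * (t * v * t⁻¹) = x) (x1 : x ≠ 1)
    (x2 : x * x = 1) (co : ∀ o, Od ι t o → Commute v o) (h1 : CL ι d) (h2 : Commute d t)
    (hw : v * d * (v * d) = 1) : v * d = v := by
  rcases wa1_od F h1 h2 with h | h
  · have e : d * d = 1 := by
      rw [mul_assoc, ← mul_assoc d, ← (co d h).eq, ← mul_assoc, ← mul_assoc, hv, one_mul] at hw
      exact hw
    rw [wa1_odd h.2.2 (by rw [show 2 ^ 2 = 2 * 2 from rfl, pow_mul, pow_two d, e, one_pow]), mul_one]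
  · exfalso
    have ti : t⁻¹ = t := inv_eq_of_mul_eq_one_right F.t2
    obtain ⟨o, ho, rfl⟩ : ∃ o, Od ι t o ∧ d = t * o := ⟨_, h, by rw [← mul_assoc, F.t2, one_mul]⟩
    have c1 := (co o ho).eq
    have c2 := ho.2.1.eq
    have e : x * (o * o) = 1 := by
      rw [← hx, ti, ← hw]
      calc _ = v * t * (v * (t * o)) * o := by group
        _ = v * t * (v * (o * t)) * o := by rw [c2]
        _ = v * t * ((v * o) * t) * o := by group
        _ = _ := by rw [c1]; group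
    have e' : x = (o * o)⁻¹ := eq_inv_of_mul_eq_one_left e
    have e4 : o = 1 := wa1_odd ho.2.2 (by
      rw [e', ← mul_inv_rev, inv_eq_one] at x2
      rw [show 2 ^ 2 = 2 * 2 from rfl, pow_mul, pow_two, pow_two, x2])
    exact x1 (by rw [e', e4]; simp)

/-- Copy Lib/SJW/U `Pd.unq`. `x = w₁⁻¹ w ∈ C(t)` acts as `1` or `a`; in the second case use
`w₂ = t w₁ t⁻¹ = w₁ ι a` (again a hat commuting with `Od`). If `x` centralises `L`: an odd power of `x` is a
2-element (`UFP.exists_two_pow`), so `1` or `t` (`F.two`), i.e. `x` or `x t` is `Od`; `w = w₁ o` gives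
`o² = 1`, `w = w₁ o t` gives `o² ι a = 1`. -/
theorem Gd.unq (F : Fr ι t) (h9 : 9 ≤ Fintype.card Ω) {a : alternatingGroup Ω} (ha : Root a)
    {w₁ w : G} (h₁ : Gd ι t a w₁) (ho : ∀ o, Od ι t o → Commute w₁ o) (h : Gd ι t a w) :
    w = w₁ ∨ w = t * w₁ * t⁻¹ := by
  have ti : t⁻¹ = t := inv_eq_of_mul_eq_one_right F.t2
  have x1 : ι a ≠ 1 := fun e => ha.ne_one (F.inj (e.trans (map_one ι).symm))
  have x2 : ι a * ι a = 1 := by rw [← map_mul, ha.1, map_one]
  have ui : w₁⁻¹ = w₁ := inv_eq_of_mul_eq_one_right h₁.sq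
  have xi : (ι a)⁻¹ = ι a := inv_eq_of_mul_eq_one_right x2
  have ca := (h₁.cen a (Commute.refl a)).eq
  have d0 : t * w₁ * t⁻¹ * w₁ = ι a := by
    have := h₁.mv
    rw [ui] at this
    rw [ti, mul_assoc, mul_assoc, ← mul_assoc w₁, this, ← mul_assoc, F.t2, one_mul]
  have d1 : t * w₁ * t⁻¹ = w₁ * ι a := by rw [ca, ← d0, mul_assoc (t * w₁ * t⁻¹), h₁.sq, mul_one]
  have d2 : w₁ * (t * w₁ * t⁻¹) = ι a := by rw [d1, ← mul_assoc, h₁.sq, one_mul]
  have d3 : t * (t * w₁ * t⁻¹) * t⁻¹ = w₁ := by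
    rw [show t * (t * w₁ * t⁻¹) * t⁻¹ = t * t * w₁ * (t * t)⁻¹ by group, F.t2]; group
  have ct : Commute (w₁⁻¹ * w) t := by
    show w₁⁻¹ * w * t = t * (w₁⁻¹ * w)
    calc _ = w₁⁻¹ * (w * t * w⁻¹) * w := by group
      _ = _ := by rw [h.mv, ← h₁.mv]; group
  obtain ⟨σ, hσ⟩ := F.aut _ ct
  rcases wa_cen_root h9 ha (σ := σ) fun c k => hσ.commute' F.inj
    ((h₁.cen c k).inv_left.mul_left (h.cen c k)) with rfl | rfl
  · have e : w = w₁ * (w₁⁻¹ * w) := by group
    refine .inl (e.trans (wa1_end F h₁.sq d2 x1 x2 ho (mem_KK.1 (Act.one_iff.1 hσ)) ct ?_))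
    rw [← e, h.sq]
  · have e : w = t * w₁ * t⁻¹ * ((ι a)⁻¹ * (w₁⁻¹ * w)) := by rw [d1]; group
    refine .inr (e.trans (wa1_end F (by rw [conj_mul, h₁.sq]; simp) (by rw [d3, d0]) x1 x2 (fun o k => ?_)
      (mem_KK.1 hσ.mul_mem_KK) ((F.tC a).symm.inv_left.mul_left ct) ?_))
    · exact (k.2.1.symm.mul_left (ho o k)).mul_left k.2.1.symm.inv_left
    · rw [← e, h.sq]

end CfsgLib.ANX
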