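import Cfsg.Agent.Lib.ANX.WLoc

/-! Part W, row WA2: permutation lemmas for `LG.gd`. -/

set_option autoImplicit false
set_option linter.unusedSectionVars false

namespace CfsgLib.ANX

open Subgroup Equiv Equiv.Perm Cfsg CfsgLib.Tech CfsgLib.Alt4 CfsgLib.AltSyl CfsgLib.NatSyl

universe u

variable {Ω : Type} [Fintype Ω] [DecidableEq Ω] {G : Type u} [Group G] [Finite G]
  {ι : alternatingGroup Ω →* G} {t : G}

theorem wa2b_split {E : Perm Ω} (h2 : E * E = 1) (h4 : E.support.card = 4) {u : Ω} (hu : E u ≠ u) :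
    ∃ c d, c ≠ d ∧ E = swap u (E u) * swap c d := by
  have ee : ∀ w, E (E w) = w := fun w => by rw [← Perm.mul_apply, h2]; rfl
  have k : (swap u (E u) * E).support = E.support \ {u, E u} := by
    ext w
    simp only [mem_support, Perm.mul_apply, Finset.mem_sdiff, Finset.mem_insert, Finset.mem_singleton, not_or]
    by_cases h1 : w = u
    · subst h1; simp
    by_cases h3 : w = E u
    · subst h3; simp [ee]
    rw [swap_apply_of_ne_of_ne (fun e => h3 (by rw [← e, ee])) (fun e => h1 (E.injective e))]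
    simp [h1, h3]
  obtain ⟨c, d, cd, e⟩ := (card_support_eq_two (f := swap u (E u) * E)).1 (by
    rw [k, Finset.card_sdiff_of_subset (by simp [Finset.insert_subset_iff, hu]), h4,
      Finset.card_pair hu.symm])
  exact ⟨c, d, cd, by rw [← e, ← mul_assoc, swap_mul_self, one_mul]⟩

/-- Identification of the image `e'` of `(x, a x)(p y)`. `v` is the four-group partner of `a` (it maps `x` out of
`{x, a x}`). From `e' v e' = v a`, `[e', a] = 1` and `Root e'`: `e'` preserves `supp a`, is there `(x, a x)` or the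
other 2-cycle of `a` times a swap `τ'` off `supp a`; the cube relations exclude the other 2-cycle and force
`τ'` to meet every `{p, q}`; `¬ Sp e' Ψ` and two values of `q` give `τ' = (p y')`, `y' ∉ Ψ`. -/
theorem wa_id {a v e' : alternatingGroup Ω} {Ψ : Finset Ω} (hv : Alt.FinP.Four (a : Perm Ω).support a v)
    (hΨ : Sp a Ψ) (h7 : 7 ≤ Ψ.card) {x p : Ω} (hx : (a : Perm Ω) x ≠ x) (hp : p ∈ Ψ)
    (hp' : (a : Perm Ω) p = p) (he : Root e') (h1 : Commute e' a) (h2 : e' * v * e' = v * a)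
    (h3 : ∀ q ∈ Ψ, (a : Perm Ω) q = q → q ≠ p →
      (swap x ((a : Perm Ω) x) * swap p q * (e' : Perm Ω)) ^ 3 = 1)
    (h4 : ¬ Sp e' Ψ) : ∃ y', y' ∉ Ψ ∧ (e' : Perm Ω) = swap x ((a : Perm Ω) x) * swap p y' := by
  have hs : x ∈ (a : Perm Ω).support := mem_support.2 hx
  have hz : (a : Perm Ω) ((v : Perm Ω) x) ≠ (v : Perm Ω) x := mem_support.1 (hv.app_mem hv.uv.symm hs)
  have r : ∀ w, (e' : Perm Ω) ((v : Perm Ω) ((e' : Perm Ω) w)) = (v : Perm Ω) ((a : Perm Ω) w) := fun w =>
    congrArg (fun m : alternatingGroup Ω => (m : Perm Ω) w) h2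
  have aa := Alt.FinP.app_app hv.uu
  have vv := Alt.FinP.app_app hv.vv
  have av := Alt.FinP.app_comm hv.uv
  have ea := Alt.FinP.app_comm h1
  have nf : ∀ q, (a : Perm Ω) q = q → q ≠ x ∧ q ≠ (a : Perm Ω) x := fun q hq =>
    ⟨fun e => hx (e ▸ hq), fun e => hx (by rw [e, aa] at hq; exact hq.symm)⟩
  obtain ⟨q₁, hq₁, q₂, hq₂, q12⟩ := (Finset.one_lt_card (s := (Ψ \ (a : Perm Ω).support).erase p)).1 (by
    have := Finset.pred_card_le_card_erase (s := Ψ \ (a : Perm Ω).support) (a := p)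
    rw [Finset.card_sdiff_of_subset hΨ, hv.card] at this
    omega)
  simp only [Finset.mem_erase, Finset.mem_sdiff, mem_support, not_not] at hq₁ hq₂
  rcases hv.cases hs (hv.app_mem h1 hs) with e | e | e | e
  · have := congrArg (fun m : Perm Ω => m x) (h3 q₁ hq₁.2.1 hq₁.2.2 hq₁.1)
    have P := nf p hp'
    have Q := nf q₁ hq₁.2.2
    simp only [pow_three', Perm.mul_apply, Perm.one_apply, e, ea, swap_apply_of_ne_of_ne P.1.symm Q.1.symm,
      swap_apply_of_ne_of_ne P.2.symm Q.2.symm, swap_apply_left, swap_apply_right] at this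
    exact absurd this hx
  · obtain ⟨c, d, cd, E⟩ := wa2b_split (E := (e' : Perm Ω)) (congrArg Subtype.val he.1) he.2 (e ▸ hx)
    rw [e] at E
    have sp : c ∈ Ψ → d ∈ Ψ → False := fun hc hd => h4 (by
      rw [Sp, E]
      refine (support_mul_le _ _).trans ?_
      rw [support_swap hx.symm, support_swap cd]
      simp [Finset.insert_subset_iff, hc, hd, hΨ hs, hΨ (apply_mem_support.2 hs)])
    by_cases pc : p = c
    · exact ⟨d, sp (pc ▸ hp), pc ▸ E⟩
    by_cases pd : p = d
    · exact ⟨c, fun hc => sp hc (pd ▸ hp), by rw [E, swap_comm c d, pd]⟩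
    have k : ∀ q ∈ Ψ, (a : Perm Ω) q = q → q ≠ p → q = c ∨ q = d := fun q hq hq' qp => by
      by_contra hn
      rw [not_or] at hn
      have := congrArg (fun m : Perm Ω => m p) (h3 q hq hq' qp)
      have P := nf p hp'
      have Q := nf q hq'
      simp only [E, pow_three', Perm.mul_apply, Perm.one_apply, swap_apply_of_ne_of_ne pc pd,
        swap_apply_of_ne_of_ne hn.1 hn.2, swap_apply_of_ne_of_ne P.1 P.2, swap_apply_of_ne_of_ne Q.1 Q.2,
        swap_apply_left, swap_apply_right] at this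
      exact qp this
    exfalso
    rcases k q₁ hq₁.2.1 hq₁.2.2 hq₁.1 with e₁ | e₁ <;> rcases k q₂ hq₂.2.1 hq₂.2.2 hq₂.1 with e₂ | e₂
    · exact q12 (e₁.trans e₂.symm)
    · exact sp (e₁ ▸ hq₁.2.1) (e₂ ▸ hq₂.2.1)
    · exact sp (e₂ ▸ hq₂.2.1) (e₁ ▸ hq₁.2.1)
    · exact q12 (e₁.trans e₂.symm)
  · have := r x
    rw [e, vv, e, ← av] at this
    exact absurd this.symm hz
  · have := r x
    rw [e, ← av, vv, ea, e, aa, ← av] at this
    exact absurd this.symm hz

end CfsgLib.ANX
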