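import Cfsg.Agent.Lib.ANX.WA2
import Cfsg.Agent.Lib.ANX.WA2b

/-! Part W, row WA3: the local images of the roots are hats. -/

set_option autoImplicit false
set_option linter.unusedSectionVars false

namespace CfsgLib.ANX

open Subgroup Equiv Equiv.Perm Cfsg CfsgLib.Tech CfsgLib.Alt4 CfsgLib.AltSyl CfsgLib.NatSyl

universe u

variable {Ω : Type} [Fintype Ω] [DecidableEq Ω] {G : Type u} [Group G] [Finite G]
  {ι : alternatingGroup Ω →* G} {t : G}

/-- `w = κ a` conjugates `ι Alt (supp a)ᶜ` into `L`: it is perfect and centralises `t ι a = w t w⁻¹`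
(`Fr.perf_le` for `cj w (iA ι (supp a)ᶜ)`). -/
theorem LG.into (F : Fr ι t) (h9 : 9 ≤ Fintype.card Ω) {Ψ : Finset Ω} {κ : alternatingGroup Ω → G}
    (h : LG ι t Ψ κ) {a : alternatingGroup Ω} (ha : Root a) (hΨ : Sp a Ψ) {g : alternatingGroup Ω}
    (hg : Sp g (a : Perm Ω).supportᶜ) : ∃ g', κ a * ι g * (κ a)⁻¹ = ι g' := by
  have m5 : 5 ≤ Nat.card ((a : Perm Ω).supportᶜ : Finset Ω) := by
    have := ha.2
    rw [Nat.card_eq_finsetCard, Finset.card_compl]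
    change (a : Perm Ω).support.card = 4 at this
    omega
  have w2 := h.sq hΨ ha.1
  have wi : (κ a)⁻¹ = κ a := inv_eq_of_mul_eq_one_right w2
  have h1 : ((cα (κ a) ι).comp (alternatingGroup.ofSubtype (a : Perm Ω).supportᶜ)).range ≤ ι.range :=
    F.perf_le (by omega) (by
      rw [MonoidHom.range_eq_map, ← map_commutator, ← commutator_def,
        commutator_alternatingGroup_eq_top m5]) (by
      rintro _ ⟨c, rfl⟩
      have hc : Alt.FinP.Fx (a : Perm Ω).support (alternatingGroup.ofSubtype (a : Perm Ω).supportᶜ c) :=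
        Alt.FinP.fx_iff.2 ⟨c, rfl⟩
      obtain ⟨d, hd⟩ : ∃ d, d = alternatingGroup.ofSubtype (a : Perm Ω).supportᶜ c := ⟨_, rfl⟩
      rw [← hd] at hc
      change Commute (κ a * ι (alternatingGroup.ofSubtype (a : Perm Ω).supportᶜ c) * (κ a)⁻¹) t
      rw [← hd]
      have h2 : Commute (ι d) (κ a * t * (κ a)⁻¹) := by
        rw [h.mv F.t2 hΨ ha.1]
        exact (F.tC d).symm.mul_right ((hc.comm subset_rfl).symm.map ι)
      have h3 : t = κ a * (κ a * t * (κ a)⁻¹) * (κ a)⁻¹ := by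
        rw [show κ a * (κ a * t * (κ a)⁻¹) * (κ a)⁻¹ = κ a * κ a * t * (κ a * κ a)⁻¹ by group, w2]
        group
      rw [h3]
      exact (h2.map (MulAut.conj (κ a)).toMonoidHom))
  obtain ⟨c, rfl⟩ := (alternatingGroup.mem_range_ofSubtype_iff _ g).2 hg
  obtain ⟨g', hg'⟩ := h1 ⟨c, rfl⟩
  exact ⟨g', hg'.symm⟩

theorem wa3_sp {e : alternatingGroup Ω} {S : Finset Ω} {a b c d : Ω} (he : (e : Perm Ω) = swap a b * swap c d)
    (h1 : a ∈ S) (h2 : b ∈ S) (h3 : c ∈ S) (h4 : d ∈ S) : Sp e S := by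
  intro z hz
  by_contra hn
  refine mem_support.1 hz ?_
  have n : ∀ {q : Ω}, q ∈ S → z ≠ q := fun h2 e => hn (e ▸ h2)
  rw [he, mul_apply, swap_apply_of_ne_of_ne (n h3) (n h4), swap_apply_of_ne_of_ne (n h1) (n h2)]

theorem wa3_conj {g e e' : alternatingGroup Ω} {a b c d d' : Ω} (he : (e : Perm Ω) = swap a b * swap c d)
    (he' : (e' : Perm Ω) = swap a b * swap c d') (h1 : (g : Perm Ω) a = a) (h2 : (g : Perm Ω) b = b)
    (h3 : (g : Perm Ω) c = c) (h4 : (g : Perm Ω) d = d') : g * e * g⁻¹ = e' := by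
  apply Subtype.ext
  change (g : Perm Ω) * e * (g : Perm Ω)⁻¹ = e'
  rw [he, he', ← h4]
  conv_rhs => rw [← h1, ← h2, ← h3, swap_apply_apply, swap_apply_apply]
  group

theorem wa3_cube {x x' p q y : Ω} (h1 : x ≠ p) (h2 : x ≠ q) (h3 : x' ≠ p) (h4 : x' ≠ q) (h5 : p ≠ q)
    (h6 : p ≠ y) (h7 : q ≠ y) :
    (swap x x' * swap p q * (swap x x' * swap p y)) ^ 3 = (1 : Perm Ω) := by
  have c : Commute (swap p q) (swap x x') :=
    Alt.FinP.swap_comm_of (.inr ⟨swap_apply_of_ne_of_ne h1.symm h3.symm, swap_apply_of_ne_of_ne h2.symm h4.symm⟩)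
  rw [show swap x x' * swap p q * (swap x x' * swap p y) = swap x x' * (swap p q * swap x x') * swap p y by
    group, c.eq, ← mul_assoc, swap_mul_self, one_mul, ← (isThreeCycle_swap_mul_swap_same h5 h6 h7).orderOf,
    pow_orderOf_eq_one]

theorem LG.wa3_img (F : Fr ι t) (h9 : 9 ≤ Fintype.card Ω) {Ψ : Finset Ω} {κ : alternatingGroup Ω → G}
    (h : LG ι t Ψ κ) (h7 : 7 ≤ Ψ.card) {a : alternatingGroup Ω} (ha : Root a)
    (hΨ : Sp a Ψ) {x p y : Ω} (hx : (a : Perm Ω) x ≠ x) (hp : p ∈ Ψ) (hp' : (a : Perm Ω) p = p)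
    (hy : y ∉ Ψ) {e : alternatingGroup Ω} (he : (e : Perm Ω) = swap x ((a : Perm Ω) x) * swap p y) :
    ∃ (e' : alternatingGroup Ω) (y' : Ω), y' ∉ Ψ ∧ κ a * ι e * (κ a)⁻¹ = ι e' ∧
      (e' : Perm Ω) = swap x ((a : Perm Ω) x) * swap p y' := by
  obtain ⟨v, hv⟩ := ha.exists_four
  have xs : x ∈ (a : Perm Ω).support := mem_support.2 hx
  have xs' : (a : Perm Ω) x ∈ (a : Perm Ω).support := apply_mem_support.2 xs
  have nf : ∀ {z q : Ω}, z ∈ (a : Perm Ω).support → (a : Perm Ω) q = q → z ≠ q := fun hz hq e =>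
    mem_support.1 hz (e ▸ hq)
  have hy' : (a : Perm Ω) y = y := notMem_support.1 fun e => hy (hΨ e)
  have py : p ≠ y := fun e => hy (e ▸ hp)
  have c3 : 1 < ((Ψ \ (a : Perm Ω).support).erase p).card := by
    have h1 := Finset.pred_card_le_card_erase (s := Ψ \ (a : Perm Ω).support) (a := p)
    have h2 := Finset.le_card_sdiff (a : Perm Ω).support Ψ
    have h3 : (a : Perm Ω).support.card = 4 := ha.2
    omega
  obtain ⟨q, r, hq, hr, qr⟩ := Finset.one_lt_card_iff.1 c3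
  rw [Finset.mem_erase, Finset.mem_sdiff, notMem_support] at hq hr
  have cw : ∀ c : alternatingGroup Ω, Sp c Ψ → Commute c a → κ a * ι c * (κ a)⁻¹ = ι c := fun c h1 h2 => by
    rw [(h.comm hΨ h1 h2).eq, mul_inv_cancel_right]
  have eq : ∀ q ∈ Ψ, (a : Perm Ω) q = q → q ≠ p → ∃ f : alternatingGroup Ω,
      (f : Perm Ω) = swap x ((a : Perm Ω) x) * swap p q ∧ Root f ∧ κ a * ι f * (κ a)⁻¹ = ι f :=
    fun q h1 h2 h3 => by
      obtain ⟨f, hf⟩ := Alt.FinP.exists_dt hx.symm h3.symm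
      obtain ⟨t1, t2, t3, -⟩ := Alt.FinP.twist ha.1 hx hp' h2 h3.symm hf
      exact ⟨f, hf, ⟨t1, t2⟩, cw f (wa3_sp hf (hΨ xs) (hΨ xs') hp h1) t3⟩
  obtain ⟨f, hf, fr, fw⟩ := eq q hq.2.1 hq.2.2 hq.1
  have qy : q ≠ y := fun e => hy (e ▸ hq.2.1)
  have ry : r ≠ y := fun e => hy (e ▸ hr.2.1)
  obtain ⟨g, hg⟩ := Alt.FinP.exists_dt ry.symm qr
  have fx : ∀ z, z ≠ y → z ≠ r → z ≠ q → (g : Perm Ω) z = z := fun z h1 h2 h3 => by
    rw [hg, mul_apply, swap_apply_of_ne_of_ne h3 h2, swap_apply_of_ne_of_ne h1 h2]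
  have ge : g * f * g⁻¹ = e := wa3_conj hf he (fx _ (nf xs hy') (nf xs hr.2.2) (nf xs hq.2.2))
    (fx _ (nf xs' hy') (nf xs' hr.2.2) (nf xs' hq.2.2)) (fx _ py hr.1.symm hq.1.symm)
    (by rw [hg, mul_apply, swap_apply_left, swap_apply_right])
  have ms : ∀ {z}, (a : Perm Ω) z = z → z ∈ (a : Perm Ω).supportᶜ := fun h =>
    Finset.mem_compl.2 (notMem_support.2 h)
  obtain ⟨g', hg'⟩ := h.into F h9 ha hΨ (wa3_sp hg (ms hy') (ms hr.2.2) (ms hq.2.2) (ms hr.2.2))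
  have hw : κ a * ι e * (κ a)⁻¹ = ι (g' * f * g'⁻¹) := by
    rw [← ge, map_mul, map_mul, map_inv, map_mul, map_mul, map_inv, ← hg']
    conv_rhs => rw [← fw]
    group
  have er := fr.conj g'
  obtain ⟨e', he'⟩ : ∃ e', e' = g' * f * g'⁻¹ := ⟨_, rfl⟩
  rw [← he'] at hw er
  obtain ⟨t1, -, t3, -⟩ := Alt.FinP.twist ha.1 hx hp' hy' py he
  have aw := cw a hΨ (Commute.refl a)
  have vw := cw v (hv.sv.le.trans hΨ) hv.uv.symm
  have c1 : Commute e' a := F.inj (by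
    rw [map_mul, map_mul, ← hw, ← aw]
    rw [show κ a * ι e * (κ a)⁻¹ * (κ a * ι a * (κ a)⁻¹) = κ a * (ι e * ι a) * (κ a)⁻¹ by group,
      ← map_mul, t3.eq, map_mul]
    group)
  have r1 : e * v * e = v * a := by
    have ei : e⁻¹ = e := inv_eq_of_mul_eq_one_right t1
    rw [← hv.uv.eq]
    refine hv.rot.eq_of_app ?_ ?_ ((t3.mul_left hv.uv.symm).mul_left t3) xs ?_
    · rw [show e * v * e * (e * v * e) = e * v * (e * e) * v * e by group, t1, mul_one, mul_assoc e,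
        hv.vv, mul_one, t1]
    · nth_rewrite 2 [← ei]
      rw [Alt.FinP.W_conj, hv.symm.Wu]
    · have m1 : (v : Perm Ω) ((a : Perm Ω) x) ∈ (a : Perm Ω).support := hv.app_mem hv.uv.symm xs'
      have n1 : (v : Perm Ω) ((a : Perm Ω) x) ≠ x := by
        rw [← Alt.FinP.app_comm hv.uv]
        exact hv.rot.symm.app_ne xs
      change (e : Perm Ω) ((v : Perm Ω) ((e : Perm Ω) x)) = (a : Perm Ω) ((v : Perm Ω) x)
      rw [Alt.FinP.app_comm hv.uv, he, mul_apply, mul_apply, swap_apply_of_ne_of_ne (nf xs hp') (nf xs hy'),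
        swap_apply_left, swap_apply_of_ne_of_ne (nf m1 hp') (nf m1 hy'),
        swap_apply_of_ne_of_ne n1 (hv.symm.app_ne (hv.sv.symm ▸ xs'))]
  have c2 : e' * v * e' = v * a := F.inj (by
    rw [map_mul, map_mul, map_mul, ← hw, ← aw, ← vw]
    rw [show κ a * ι e * (κ a)⁻¹ * (κ a * ι v * (κ a)⁻¹) * (κ a * ι e * (κ a)⁻¹) =
      κ a * (ι e * ι v * ι e) * (κ a)⁻¹ by group, ← map_mul, ← map_mul, r1, map_mul]
    group)
  obtain ⟨y', h1, h2⟩ := wa_id hv hΨ h7 hx hp hp' er c1 c2 (fun q h1 h2 h3 => by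
    obtain ⟨f, hf, -, fw⟩ := eq q h1 h2 h3
    have h4 : (f * e) ^ 3 = 1 := Subtype.ext (by
      change ((f : Perm Ω) * e) ^ 3 = 1
      rw [hf, he]
      exact wa3_cube (nf xs hp') (nf xs h2) (nf xs' hp') (nf xs' h2) h3.symm py fun e => hy (e ▸ h1))
    have h5 : (f * e') ^ 3 = 1 := F.inj (by
      rw [map_pow, map_mul, ← hw, ← fw, map_one,
        show κ a * ι f * (κ a)⁻¹ * (κ a * ι e * (κ a)⁻¹) = κ a * (ι f * ι e) * (κ a)⁻¹ by group, conj_pow,
        ← map_mul, ← map_pow, h4, map_one, mul_one, mul_inv_cancel])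
    rw [← hf]
    exact congrArg Subtype.val h5) (fun hs => by
    have h3 := cw e' hs c1
    rw [← hw] at h3
    have h4 : e = e' := F.inj (by
      have h5 : κ a * ι e' * (κ a)⁻¹ = κ a * ι e * (κ a)⁻¹ := (cw e' hs c1).trans hw.symm
      exact (mul_left_cancel (mul_right_cancel h5)).symm)
    refine hy (hs (mem_support.2 ?_))
    rw [← h4, he, mul_apply, swap_apply_right, swap_apply_of_ne_of_ne (nf xs hp').symm (nf xs' hp').symm]
    exact py)
  exact ⟨e', y', h1, hw, h2⟩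

/-- `w = κ a`, `X = {c | Commute w (ι c)}`, `wa_gen`. For `e_y = (x, a x)(p y)`: `e_y = g e_q g⁻¹` with `g` a
3-cycle on `{q, y, r}` off `supp a`, so `w ι e_y w⁻¹ = ι e'`, `e' = g' e_q g'⁻¹` a root (`into`, `w` commutes with
`ι e_q`); the relations of `wa_id` are transported (`w` commutes with `ι a, ι v, ι e_q`); `Sp e' Ψ` would give
`e' = e_y`. So `e' = e_{y'}`. If `y' ≠ y` take a third `z ∉ Ψ` and the 3-cycle `k : y ↦ y' ↦ z` (`Sp k Ψᶜ`, `w`
commutes with `ι k`): `w e_{y'} w⁻¹ = e_z`, but `w² = 1` gives `w e_{y'} w⁻¹ = e_y`. -/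
theorem LG.gd (F : Fr ι t) (h9 : 9 ≤ Fintype.card Ω) {Ψ : Finset Ω} {κ : alternatingGroup Ω → G}
    (h : LG ι t Ψ κ) (h7 : 7 ≤ Ψ.card) (h2 : Ψᶜ.card ≠ 2) {a : alternatingGroup Ω} (ha : Root a)
    (hΨ : Sp a Ψ) : Gd ι t a (κ a) := by
  refine ⟨h.sq hΨ ha.1, h.mv F.t2 hΨ ha.1, fun c hc => ?_⟩
  obtain ⟨x, xs⟩ : (a : Perm Ω).support.Nonempty := Finset.card_pos.1 (by
    have : (a : Perm Ω).support.card = 4 := ha.2
    omega)
  have hx := mem_support.1 xs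
  have xs' : (a : Perm Ω) x ∈ (a : Perm Ω).support := apply_mem_support.2 xs
  have key := wa_gen ha hΨ h7 hx ((centralizer ({κ a} : Set G)).comap ι)
    (fun c h1 h2 => mem_centralizer_singleton_iff.2 (h.comm hΨ h1 h2).eq.symm)
    (fun e p y hp hp' hy he => ?_) hc
  · exact (mem_centralizer_singleton_iff.1 key).symm
  obtain ⟨e', y', hy', hw, he'⟩ := h.wa3_img F h9 h7 ha hΨ hx hp hp' hy he
  refine mem_centralizer_singleton_iff.2 ?_
  by_cases hyy : y' = y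
  · rw [show e' = e from Subtype.ext (by rw [he, he', hyy])] at hw
    exact (mul_inv_eq_iff_eq_mul.1 hw).symm
  exfalso
  obtain ⟨z, hz, z1, z2⟩ : ∃ z, z ∉ Ψ ∧ z ≠ y ∧ z ≠ y' := by
    by_contra hn
    refine h2 ?_
    rw [show Ψᶜ = {y', y} from Finset.ext fun z => ?_, Finset.card_pair hyy]
    rw [Finset.mem_compl, Finset.mem_insert, Finset.mem_singleton]
    refine ⟨fun h1 => ?_, by rintro (rfl | rfl) <;> assumption⟩
    by_contra h3
    exact hn ⟨z, h1, fun e => h3 (.inr e), fun e => h3 (.inl e)⟩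
  obtain ⟨k, hk⟩ := Alt.FinP.exists_dt z1.symm (Ne.symm hyy)
  have fx : ∀ u ∈ Ψ, (k : Perm Ω) u = u := fun u hu => by
    have n : ∀ {q : Ω}, q ∉ Ψ → u ≠ q := fun h2 e => h2 (e ▸ hu)
    rw [hk, mul_apply, swap_apply_of_ne_of_ne (n hy) (n hy'), swap_apply_of_ne_of_ne (n hy) (n hz)]
  have kw : Commute (κ a) (ι k) := h.cen a k hΨ (wa3_sp hk (Finset.mem_compl.2 hy) (Finset.mem_compl.2 hz)
    (Finset.mem_compl.2 hy) (Finset.mem_compl.2 hy'))
  have k1 : k * e * k⁻¹ = e' := wa3_conj he he' (fx _ (hΨ xs)) (fx _ (hΨ xs')) (fx _ hp)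
    (by rw [hk, mul_apply, swap_apply_left, swap_apply_of_ne_of_ne hyy z2.symm])
  obtain ⟨f, hf⟩ := Alt.FinP.exists_dt hx.symm (fun e => hz (e ▸ hp) : p ≠ z)
  have k2 : k * e' * k⁻¹ = f := wa3_conj he' hf (fx _ (hΨ xs)) (fx _ (hΨ xs')) (fx _ hp)
    (by rw [hk, mul_apply, swap_apply_right, swap_apply_left])
  have w2 := h.sq hΨ ha.1
  have h3 : e = f := F.inj (by
    have h4 : κ a * ι e' * (κ a)⁻¹ = ι e := by
      rw [← hw, show κ a * (κ a * ι e * (κ a)⁻¹) * (κ a)⁻¹ = κ a * κ a * ι e * (κ a * κ a)⁻¹ by group, w2]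
      group
    have h5 : κ a * ι k * (κ a)⁻¹ = ι k := by rw [kw.eq, mul_inv_cancel_right]
    have h6 : κ a * ι e' * (κ a)⁻¹ = ι f := by
      rw [← k2, map_mul, map_mul, map_inv]
      conv_lhs => rw [← k1, map_mul, map_mul, map_inv]
      conv_rhs => rw [← hw, ← h5]
      group
    rw [← h4, h6])
  have h4 := congrArg (fun g : alternatingGroup Ω => (g : Perm Ω) p) h3
  have nf : ∀ {u q : Ω}, u ∈ Ψ → q ∉ Ψ → q ≠ u := fun h1 h2 e => h2 (e ▸ h1)
  simp only [he, hf, mul_apply, swap_apply_left] at h4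
  rw [swap_apply_of_ne_of_ne (nf (hΨ xs) hy) (nf (hΨ xs') hy),
    swap_apply_of_ne_of_ne (nf (hΨ xs) hz) (nf (hΨ xs') hz)] at h4
  exact z1 h4.symm

end CfsgLib.ANX
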