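import Cfsg.Agent.Lib.ANX.WLoc

/-! Part W, row WA4: Carmichael's presentation as a homomorphism. -/

set_option autoImplicit false
set_option linter.unusedSectionVars false

namespace CfsgLib.ANX

open Subgroup Equiv Equiv.Perm Cfsg CfsgLib.Tech CfsgLib.Alt4 CfsgLib.AltSyl CfsgLib.NatSyl

universe u

variable {Ω : Type} [Fintype Ω] [DecidableEq Ω] {G : Type u} [Group G] [Finite G]
  {ι : alternatingGroup Ω →* G} {t : G}

/-- the generators -/
def cyA (a b : Ω) (i : {i : Ω // i ≠ a ∧ i ≠ b}) : alternatingGroup Ω :=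
  ⟨Pres.cyc i.1 a b, mem_alternatingGroup.2 (Pres.sign_cyc i.2.1 i.2.2)⟩

theorem cyA_sp {a b : Ω} (i : {i : Ω // i ≠ a ∧ i ≠ b}) {Ψ : Finset Ω} (ha : a ∈ Ψ) (hb : b ∈ Ψ)
    (hi : i.1 ∈ Ψ) : Sp (cyA a b i) Ψ := by
  intro ω hω
  by_contra h
  refine (mem_support.1 hω) (Pres.cyc_apply_of_ne ?_ ?_ ?_) <;> rintro rfl <;> contradiction

theorem cyA_carm {a b : Ω} (hab : a ≠ b) : Pres.Carm (cyA a b) := by
  have hc := Pres.carm_cyc (e := fun i : {i : Ω // i ≠ a ∧ i ≠ b} => i.1) Subtype.val_injective hab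
    (fun i => i.2.1) fun i => i.2.2
  exact ⟨fun i => Subtype.ext (hc.cube i), fun i j hij => Subtype.ext (hc.pair i j hij)⟩

/-- `Pres.mem_closure_cyc` -/
theorem cyA_gen {a b : Ω} (hab : a ≠ b) (X : Subgroup (alternatingGroup Ω)) (h : ∀ i, cyA a b i ∈ X)
    (g : alternatingGroup Ω) : g ∈ X := by
  have h1 := Pres.mem_closure_cyc hab (Finset.univ.filter fun i => i ≠ a ∧ i ≠ b) (by simp) (by simp)
    g.1 (mem_alternatingGroup.1 g.2) fun ω h1 h2 h3 => absurd (by simp [h2, h3]) h1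
  have h2 : closure ((fun i => Pres.cyc i a b) ''
      ((Finset.univ.filter fun i => i ≠ a ∧ i ≠ b : Finset Ω) : Set Ω)) ≤
      X.map (alternatingGroup Ω).subtype := by
    rw [closure_le]
    rintro _ ⟨i, hi, rfl⟩
    exact ⟨cyA a b ⟨i, by simpa using hi⟩, h _, rfl⟩
  obtain ⟨y, hy, e⟩ := h2 h1
  rwa [← show y = g from Subtype.ext e]

/-- `FreeGroup.lift (cyA a b)` is onto, its kernel is killed by `FreeGroup.lift x` (`Carm.lift_eq_one`) -/
theorem cyA_hom {Γ : Type*} [Group Γ] {a b : Ω} (hab : a ≠ b) {x : {i : Ω // i ≠ a ∧ i ≠ b} → Γ}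
    (h : Pres.Carm x) : ∃ φ : alternatingGroup Ω →* Γ, ∀ i, φ (cyA a b i) = x i := by
  have hs : Function.Surjective (FreeGroup.lift (cyA a b)) := fun g =>
    cyA_gen hab (FreeGroup.lift (cyA a b)).range (fun i => ⟨FreeGroup.of i, by simp⟩) g
  have hk : (FreeGroup.lift (cyA a b)).ker ≤ (FreeGroup.lift x).ker := fun w hw => by
    refine h.lift_eq_one (e := fun i : {i : Ω // i ≠ a ∧ i ≠ b} => i.1) Subtype.val_injective hab
      (fun i => i.2.1) (fun i => i.2.2) ?_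
    have e : FreeGroup.lift (fun i : {i : Ω // i ≠ a ∧ i ≠ b} => Pres.cyc i.1 a b) =
        (alternatingGroup Ω).subtype.comp (FreeGroup.lift (cyA a b)) :=
      FreeGroup.ext_hom _ _ fun i => by simp [cyA]
    rw [e, MonoidHom.comp_apply, MonoidHom.mem_ker.1 hw, map_one]
  refine ⟨MonoidHom.liftOfRightInverse _ _ (Function.rightInverse_surjInv hs) ⟨_, hk⟩, fun i => ?_⟩
  have := MonoidHom.liftOfRightInverse_comp_apply _ _ (Function.rightInverse_surjInv hs) ⟨_, hk⟩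
    (FreeGroup.of i)
  simpa using this

end CfsgLib.ANX
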