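import Cfsg.Agent.Lib.ANX.WA0
import Cfsg.Agent.Lib.ANX.WA1
import Cfsg.Agent.Lib.ANX.WA3
import Cfsg.Agent.Lib.ANX.WA4

/-! Part W: the local products glue to the wreath configuration. -/

set_option autoImplicit false
set_option linter.unusedSectionVars false

namespace CfsgLib.ANX

open Subgroup Equiv Equiv.Perm Cfsg CfsgLib.Tech CfsgLib.Alt4 CfsgLib.AltSyl CfsgLib.NatSyl

universe u

variable {Ω : Type} [Fintype Ω] [DecidableEq Ω] {G : Type u} [Group G] [Finite G]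
  {ι : alternatingGroup Ω →* G} {t : G}

theorem wa_glue (F : Fr ι t) (h9 : 9 ≤ Fintype.card Ω) {m : ℕ} (h7 : 7 ≤ m) (hm : m ≤ Fintype.card Ω)
    (h2 : Fintype.card Ω - m ≠ 2) (h : ∀ Ψ : Finset Ω, Ψ.card = m → ∃ κ, LG ι t Ψ κ) :
    ∃ ι₁ ι₂, Wr ι t ι₁ ι₂ := by
  classical
  -- a base set of five points with a root
  obtain ⟨B, -, hB⟩ := Finset.exists_subset_card_eq (s := (Finset.univ : Finset Ω)) (n := 5) (by
    rw [Finset.card_univ]; omega)
  obtain ⟨B4, h4, hB4⟩ := Finset.exists_subset_card_eq (s := B) (n := 4) (by omega)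
  obtain ⟨a, b, c, d, ab, ac, ad, bc, bd, cd, rfl⟩ := Finset.card_eq_four.1 hB4
  obtain ⟨r, v, hf⟩ : ∃ r v : alternatingGroup Ω, Alt.FinP.Four {a, b, c, d} r v := by
    obtain ⟨r, v, k, -⟩ := Alt.FinP.exists_four' ab ac ad bc bd cd
    exact ⟨r, v, k⟩
  have hr : Root r := four_root hf
  have rB : Sp r B := hf.su.le.trans h4
  have aB : a ∈ B := h4 (by simp)
  have bB : b ∈ B := h4 (by simp)
  have ext : ∀ s : Finset Ω, s.card ≤ 7 → ∃ Ψ : Finset Ω, s ⊆ Ψ ∧ Ψ.card = m := fun s hs => by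
    obtain ⟨Ψ, k1, -, k2⟩ := Finset.exists_subsuperset_card_eq (s := s) (t := Finset.univ) (n := m)
      (Finset.subset_univ _) (by omega) (by rwa [Finset.card_univ])
    exact ⟨Ψ, k1, k2⟩
  have gd : ∀ {Ψ : Finset Ω} {κ : alternatingGroup Ω → G}, Ψ.card = m → LG ι t Ψ κ → B ⊆ Ψ →
      Gd ι t r (κ r) := fun e l s =>
    l.gd F h9 (by omega) (by rw [Finset.card_compl, e]; exact h2) hr (rB.trans s)
  obtain ⟨Ψ₀, s₀, e₀⟩ := ext B (by omega)
  obtain ⟨κ₀, l₀⟩ := h Ψ₀ e₀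
  have nrm : ∀ Ψ : Finset Ω, Ψ.card = m → B ⊆ Ψ → ∃ κ, LG ι t Ψ κ ∧ κ r = κ₀ r := fun Ψ e s => by
    obtain ⟨κ, l⟩ := h Ψ e
    rcases (gd e l s).unq F h9 hr (fun o ho => l.co r o (rB.trans s) ho) (gd e₀ l₀ s₀) with k | k
    · exact ⟨κ, l, k.symm⟩
    · exact ⟨_, l.symm F.t2 F.tC, k.symm⟩
  have one : ∀ i : {i : Ω // i ≠ a ∧ i ≠ b}, ∃ (Ψ : Finset Ω) (κ : alternatingGroup Ω → G),
      insert i.1 B ⊆ Ψ ∧ LG ι t Ψ κ ∧ κ r = κ₀ r := fun i => by
    obtain ⟨Ψ, s, e⟩ := ext (insert i.1 B) ((Finset.card_insert_le _ _).trans (by omega))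
    obtain ⟨κ, l⟩ := nrm Ψ e ((Finset.subset_insert _ _).trans s)
    exact ⟨Ψ, κ, s, l⟩
  choose Ψ κ s l e using one
  have two : ∀ i j : {i : Ω // i ≠ a ∧ i ≠ b}, ∃ (Θ : Finset Ω) (μ : alternatingGroup Ω → G),
      LG ι t Θ μ ∧ Sp (cyA a b i) Θ ∧ Sp (cyA a b j) Θ ∧ μ (cyA a b i) = κ i (cyA a b i) ∧
        μ (cyA a b j) = κ j (cyA a b j) := fun i j => by
    obtain ⟨Θ, s', e'⟩ := ext (insert i.1 (insert j.1 B)) ((Finset.card_insert_le _ _).trans (by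
      have := Finset.card_insert_le j.1 B; omega))
    have sB : B ⊆ Θ := ((Finset.subset_insert _ _).trans (Finset.subset_insert _ _)).trans s'
    obtain ⟨μ, l', e''⟩ := nrm Θ e' sB
    have key : ∀ k : {i : Ω // i ≠ a ∧ i ≠ b}, k.1 ∈ Θ →
        Sp (cyA a b k) Θ ∧ μ (cyA a b k) = κ k (cyA a b k) := fun k hk =>
      ⟨cyA_sp k (sB aB) (sB bB) hk, l'.agree (l k) (Θ := insert k.1 B) (Finset.insert_subset hk sB) (s k)
        (hB ▸ Finset.card_le_card (Finset.subset_insert _ _)) (rB.trans (Finset.subset_insert _ _))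
        hr.ne_one (e''.trans (e k).symm)
        (cyA_sp k (Finset.mem_insert_of_mem aB) (Finset.mem_insert_of_mem bB) (Finset.mem_insert_self _ _))⟩
    have k1 := key i (s' (by simp))
    have k2 := key j (s' (by simp))
    exact ⟨Θ, μ, l', k1.1, k2.1, k1.2, k2.2⟩
  have C := cyA_carm ab
  obtain ⟨φ, hφ⟩ := cyA_hom ab (x := fun i => κ i (cyA a b i)) ⟨fun i => by
      obtain ⟨Θ, μ, l', s1, -, e1, -⟩ := two i i
      have := C.cube i
      rw [pow_three] at this ⊢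
      rw [← e1, ← l'.mul _ _ s1 s1, ← l'.mul _ _ s1 (s1.mul s1), this, l'.one], fun i j ij => by
      obtain ⟨Θ, μ, l', s1, s2, e1, e2⟩ := two i j
      have := C.pair i j ij
      rw [pow_two] at this ⊢
      rw [← e1, ← e2, ← l'.mul _ _ s1 s2, ← l'.mul _ _ (s1.mul s2) (s1.mul s2), this, l'.one]⟩
  have com : ∀ x y, Commute (φ x) (cα t φ y) := by
    have k1 : ∀ i y, Commute (φ (cyA a b i)) (cα t φ y) := fun i y =>
      (mem_centralizer_singleton_iff.1 (cyA_gen ab ((centralizer {φ (cyA a b i)}).comap (cα t φ))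
        (fun j => by
          obtain ⟨Θ, μ, l', s1, s2, e1, e2⟩ := two i j
          refine mem_centralizer_singleton_iff.2 ?_
          rw [cα_apply, hφ, hφ, ← e1, ← e2]
          exact (l'.com _ _ s1 s2).eq.symm) y) :).symm
    intro x y
    exact mem_centralizer_singleton_iff.1 (cyA_gen ab ((centralizer {cα t φ y}).comap φ)
      (fun i => mem_centralizer_singleton_iff.2 (k1 i y).eq) x)
  have dia : ∀ x, ι x = φ x * cα t φ x := by
    let δ : alternatingGroup Ω →* G := MonoidHom.mk' (fun x => φ x * cα t φ x) fun x y => by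
      rw [map_mul, map_mul, mul_assoc, mul_assoc, ← mul_assoc (φ y), (com y x).eq, mul_assoc]
    intro x
    exact cyA_gen ab (ι.eqLocus δ) (fun i => by
      obtain ⟨Θ, μ, l', s1, -, e1, -⟩ := two i i
      show ι _ = φ _ * cα t φ _
      rw [cα_apply, hφ, ← e1]
      exact l'.dia _ s1) x
  have co : ∀ x o, Od ι t o → Commute (φ x) o := fun x o ho =>
    mem_centralizer_singleton_iff.1 (cyA_gen ab ((centralizer {o}).comap φ) (fun i => by
      obtain ⟨Θ, μ, l', s1, -, e1, -⟩ := two i i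
      refine mem_centralizer_singleton_iff.2 ?_
      rw [hφ, ← e1]
      exact (l'.co _ o s1 ho).eq) x)
  have L : LG ι t Finset.univ φ := ⟨fun x y _ _ => map_mul _ _ _, fun x _ => dia x, fun x y _ _ => com x y,
    fun x o _ ho => co x o ho, fun x y _ hy => by
      obtain rfl : y = 1 := Subtype.ext (support_eq_empty_iff.1 (Finset.subset_empty.1 (by simpa using hy)))
      rw [map_one]; exact Commute.one_right _⟩
  refine ⟨φ, cα t φ, (injective_iff_map_eq_one _).2 fun x hx => F.inj ?_, dia, com, fun _ => rfl,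
    fun x w hx w2 hw hc => ?_⟩
  · rw [dia, cα_apply, hx, map_one]; group
  · have u : ∀ s : Finset Ω, s ⊆ Finset.univ := Finset.subset_univ
    exact Gd.unq F h9 hx ⟨L.sq (u _) hx.1, L.mv F.t2 (u _) hx.1, fun c k => L.comm (u _) (u _) k⟩
      (co x) ⟨w2, hw, hc⟩

theorem w_wr (F : Fr ι t) (h9 : 9 ≤ Fintype.card Ω) {m : ℕ}
    (hm : (m = 7 ∧ 10 ≤ Fintype.card Ω ∧ ∀ Ψ : Finset Ω, Ψ.card = 7 → W7 ι t Ψ) ∨
      (m = 8 ∧ Fintype.card Ω = 9 ∧ ∀ Ψ : Finset Ω, Ψ.card = 8 → ∃ ι₁ ι₂, Loc ι t Ψ ι₁ ι₂)) :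
    ∃ ι₁ ι₂, Wr ι t ι₁ ι₂ :=
  wa_glue F h9 (m := m) (by omega) (by omega) (by omega) (wa_lg hm)

end CfsgLib.ANX
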