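import Cfsg.Agent.Lib.ANX.Defs
import Cfsg.Agent.Lib.PD.CountA

/-! PART W: the four-group trick and the last step of `Wr.fin_nine`. -/

set_option autoImplicit false
set_option linter.unusedSectionVars false

namespace CfsgLib.ANX

open Subgroup Equiv Equiv.Perm Cfsg CfsgLib.Tech CfsgLib.Alt4 CfsgLib.AltSyl CfsgLib.NatSyl

universe u

variable {Ω : Type} [Fintype Ω] [DecidableEq Ω] {G : Type u} [Group G] [Finite G]
  {ι : alternatingGroup Ω →* G} {t : G} {K : Subgroup G}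

/-- four-group trick: what is inverted by `y` lies in `M` -/
theorem w_fg {W M : Subgroup G} {t y : G} (hW : Odd (Nat.card W)) (ht : orderOf t = 2)
    (hy : orderOf y = 2) (ne : t ≠ y) (hc : t * y = y * t) (tn : t ∈ normalizer (W : Set G))
    (yn : y ∈ normalizer (W : Set G)) (tM : t ∈ M) (yM : y ∈ M)
    (h1 : W ⊓ centralizer {t} ≤ M) (h2 : W ⊓ centralizer {t * y} ≤ M) {w : G} (hw : w ∈ W)
    (hi : y * w * y⁻¹ = w⁻¹) : w ∈ M := by
  have e1 := PD.wielandt_inv_mul hW ht hy ne hc tn yn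
  have e2 := PD.wielandt_inv_mul (Y := W ⊓ M) (PD.CountA.odd_inf hW M) ht hy ne hc
    (PD.CountA.norm_inf tn (le_normalizer tM)) (PD.CountA.norm_inf yn (le_normalizer yM))
  have f : ∀ C : Subgroup G, W ⊓ C ≤ M → W ⊓ M ⊓ C = W ⊓ C := fun C h => by
    rw [inf_right_comm]; exact inf_eq_left.2 h
  have e3 : (invertedBy (W ⊓ M) y).ncard = (invertedBy W y).ncard := by
    rw [e1, e2]
    exact congrArg₂ (fun A B : Subgroup G => (invertedBy A y).ncard * (invertedBy B y).ncard)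
      (f _ h1) (f _ h2)
  have := Set.eq_of_subset_of_ncard_le (s := invertedBy (W ⊓ M) y) (t := invertedBy W y)
    (fun x hx => ⟨hx.1.1, hx.2⟩) e3.ge
  have h : w ∈ invertedBy (W ⊓ M) y := this ▸ ⟨hw, hi⟩
  exact h.1.2

/-- four-group trick: the `W`-conjugates of `y` lie in `M` -/
theorem w_fg' {W M : Subgroup G} {t y : G} (hW : Odd (Nat.card W)) (ht : orderOf t = 2)
    (hy : orderOf y = 2) (ne : t ≠ y) (hc : t * y = y * t) (tn : t ∈ normalizer (W : Set G))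
    (yn : y ∈ normalizer (W : Set G)) (tM : t ∈ M) (yM : y ∈ M)
    (h1 : W ⊓ centralizer {t} ≤ M) (h2 : W ⊓ centralizer {t * y} ≤ M) {w : G} (hw : w ∈ W) :
    w * y * w⁻¹ ∈ M := by
  have y2 : y * y = 1 := by rw [← pow_two, ← hy, pow_orderOf_eq_one]
  have yi : y⁻¹ = y := inv_eq_of_mul_eq_one_right y2
  have h := w_fg hW ht hy ne hc tn yn tM yM h1 h2 (w := w * (y * w⁻¹ * y⁻¹))
    (mul_mem hw ((mem_normalizer_iff.1 yn _).1 (inv_mem hw))) (by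
      simp only [mul_inv_rev, inv_inv, yi, mul_assoc, y2, mul_one])
  simpa [mul_assoc] using mul_mem h yM

/-- if `y` inverts `η ∈ W` then all `W`-conjugates of `η` lie in `M` -/
theorem w_fg_conj {W M : Subgroup G} {t y : G} (hW : Odd (Nat.card W)) (ht : orderOf t = 2)
    (hy : orderOf y = 2) (ne : t ≠ y) (hc : t * y = y * t) (tn : t ∈ normalizer (W : Set G))
    (yn : y ∈ normalizer (W : Set G)) (tM : t ∈ M) (yM : y ∈ M)
    (h1 : W ⊓ centralizer {t} ≤ M) (h2 : W ⊓ centralizer {t * y} ≤ M) {δ η : G} (hδ : δ ∈ W)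
    (hη : η ∈ W) (hi : y * η * y⁻¹ = η⁻¹) : δ * η * δ⁻¹ ∈ M := by
  have a1 := w_fg' hW ht hy ne hc tn yn tM yM h1 h2 (mul_mem hδ hη)
  have a2 := w_fg' hW ht hy ne hc tn yn tM yM h1 h2 hδ
  have a3 : (δ * η * δ⁻¹) ^ 2 ^ 1 ∈ M := by
    have e : y * η⁻¹ * y⁻¹ = η := by
      rw [show y * η⁻¹ * y⁻¹ = (y * η * y⁻¹)⁻¹ by group, hi, inv_inv]
    convert mul_mem a1 (inv_mem a2) using 1
    calc _ = δ * η * η * δ⁻¹ := by rw [pow_one, pow_two]; group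
      _ = δ * η * (y * η⁻¹ * y⁻¹) * δ⁻¹ := by rw [e]
      _ = _ := by group
  exact zpowers_le.2 a3 (UFP.mem_zpowers_two_pow
    (hW.of_dvd_nat (W.orderOf_dvd_natCard (mul_mem (mul_mem hδ hη) (inv_mem hδ)))) 1)

theorem w_end1 {κ : alternatingGroup Ω →* G} (h3 : 3 ≤ Fintype.card Ω) {a : Ω}
    {ρ y : alternatingGroup Ω} {δ e : G} (hρ : (ρ : Perm Ω) ((ρ : Perm Ω) a) ≠ a)
    (hy : (y : Perm Ω) a = a) (hi : y * ρ * y⁻¹ = ρ⁻¹) (h1 : δ ∈ HC κ {a}ᶜ) (he : Commute e (κ y))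
    (m1 : δ * (κ ρ * e) * δ⁻¹ ∈ normalizer (κ.range : Set G)) (g : alternatingGroup Ω) :
    δ * κ g * δ⁻¹ ∈ κ.range := by
  have hst : ∀ s : alternatingGroup Ω, (s : Perm Ω) a = a → δ * κ s * δ⁻¹ = κ s := fun s hs => by
    have : κ s * δ = δ * κ s := mem_centralizer_iff.1 h1 _ ⟨s, mem_altOn.2 ⟨fun x hx => by
      rw [Finset.mem_compl, Finset.mem_singleton]
      rintro rfl
      exact Perm.mem_support.1 hx hs, mem_alternatingGroup.1 s.2⟩, rfl⟩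
    rw [← this, mul_inv_cancel_right]
  let H : Subgroup (alternatingGroup Ω) := κ.range.comap ((MulAut.conj δ).toMonoidHom.comp κ)
  have hH : ∀ s, s ∈ H ↔ δ * κ s * δ⁻¹ ∈ κ.range := fun s => Iff.rfl
  have hle : MulAction.stabilizer (alternatingGroup Ω) a ≤ H := fun s hs =>
    (hH s).2 (by rw [hst s hs]; exact ⟨s, rfl⟩)
  have h2 : ρ * ρ ∈ H := by
    have b1 := mul_mem ((mem_normalizer_iff.1 m1 _).1 (⟨y, rfl⟩ : κ y ∈ κ.range))
      (inv_mem (⟨y, rfl⟩ : κ y ∈ κ.range))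
    rw [hH]
    convert b1 using 1
    have e1 : κ y * (κ ρ)⁻¹ * (κ y)⁻¹ = κ ρ := by
      rw [show κ y * (κ ρ)⁻¹ * (κ y)⁻¹ = (κ (y * ρ * y⁻¹))⁻¹ by simp [mul_assoc], hi, map_inv, inv_inv]
    have e2 : e * κ y * e⁻¹ = κ y := by rw [he.eq, mul_inv_cancel_right]
    conv_rhs => rw [← hst y hy]
    calc _ = δ * (κ ρ * (κ y * (κ ρ)⁻¹ * (κ y)⁻¹)) * δ⁻¹ := by rw [e1, map_mul]
      _ = δ * (κ ρ * ((e * κ y * e⁻¹) * (κ ρ)⁻¹ * (κ y)⁻¹)) * δ⁻¹ := by rw [e2]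
      _ = _ := by group
  have := alternatingGroup.isPreprimitive_of_three_le_card Ω (by simpa using h3)
  have : Nontrivial Ω := Fintype.one_lt_card_iff_nontrivial.1 (by omega)
  have hc := MulAction.IsPreprimitive.isCoatom_stabilizer_of_isPreprimitive (alternatingGroup Ω) a
  have := hc.2 H (lt_of_le_of_ne hle fun e => hρ (by
    have : ρ * ρ ∈ MulAction.stabilizer (alternatingGroup Ω) a := e ▸ h2
    exact this))
  exact (hH g).1 (this ▸ mem_top g)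

variable {ι₁ ι₂ : alternatingGroup Ω →* G}

/-- last step of `fin_nine` -/
theorem w_end (d : Wr ι t ι₁ ι₂) (h3 : 3 ≤ Fintype.card Ω) {a : Ω} {ρ y : alternatingGroup Ω} {δ : G}
    (hρ : (ρ : Perm Ω) ((ρ : Perm Ω) a) ≠ a) (hy : (y : Perm Ω) a = a) (hi : y * ρ * y⁻¹ = ρ⁻¹)
    (h1 : δ ∈ HC ι₁ {a}ᶜ) (h2 : δ ∈ HC ι₂ {a}ᶜ)
    (m1 : δ * (ι₁ ρ * (ι₂ ρ)⁻¹) * δ⁻¹ ∈ normalizer (ι₁.range : Set G))
    (m2 : δ * (ι₁ ρ * (ι₂ ρ)⁻¹) * δ⁻¹ ∈ normalizer (ι₂.range : Set G)) : δ ∈ WM ι₁ ι₂ := by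
  have k1 := w_end1 h3 hρ hy hi h1 (d.com y ρ).symm.inv_left m1
  have k2 := w_end1 (e := (ι₁ ρ)⁻¹) h3 hρ hy hi h2 (d.com ρ y).inv_left (by
    convert inv_mem m2 using 1; group)
  refine mem_normalizer_fintype fun x hx => ?_
  have : ι₁.range ⊔ ι₂.range ≤ (ι₁.range ⊔ ι₂.range).comap (MulAut.conj δ).toMonoidHom :=
    sup_le (by rintro _ ⟨a, rfl⟩; exact mem_sup_left (k1 a))
      (by rintro _ ⟨a, rfl⟩; exact mem_sup_right (k2 a))
  exact this hx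

end CfsgLib.ANX
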