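import Cfsg.Agent.Lib.ANX.Defs

/-! PART W: `Wr.fin_ten`. -/

set_option autoImplicit false
set_option linter.unusedSectionVars false

namespace CfsgLib.ANX

open Subgroup Equiv Equiv.Perm Cfsg CfsgLib.Tech CfsgLib.Alt4 CfsgLib.AltSyl CfsgLib.NatSyl

universe u

variable {Ω : Type} [Fintype Ω] [DecidableEq Ω] {G : Type u} [Group G] [Finite G]
  {ι : alternatingGroup Ω →* G} {t : G} {K : Subgroup G}

theorem wten_le {A : Type*} [Group A] (hp : commutator A = ⊤) {f₁ f₂ : A →* G} {Y : Subgroup G}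
    (hc : ∀ a b, Commute (f₁ a) (f₂ b)) (hd : ∀ a, f₁ a * f₂ a ∈ Y)
    (hn : ∀ a, f₁ a ∈ normalizer (Y : Set G)) : f₁.range ≤ Y := by
  have : commutator A ≤ Y.comap f₁ := by
    rw [commutator_def, commutator_le]
    intro a _ b _
    have h1 : f₁ a * (f₁ b * f₂ b) * (f₁ a)⁻¹ ∈ Y := (mem_normalizer_iff.1 (hn a) _).1 (hd b)
    have h2 := Y.mul_mem h1 (Y.inv_mem (hd b))
    have e : f₁ a * (f₁ b * f₂ b) * (f₁ a)⁻¹ * (f₁ b * f₂ b)⁻¹ =
        f₁ (a * b * a⁻¹ * b⁻¹) := by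
      have := (hc a⁻¹ b).eq
      rw [map_inv] at this
      simp only [map_mul, map_inv, mul_inv_rev]
      calc _ = f₁ a * f₁ b * (f₂ b * (f₁ a)⁻¹) * ((f₂ b)⁻¹ * (f₁ b)⁻¹) := by group
        _ = _ := by rw [← this]; group
    rw [e] at h2; exact h2
  rintro _ ⟨a, rfl⟩
  exact this (hp ▸ mem_top a)

/-- two commuting factorisations of the same diagonal -/
theorem wten_eq {A : Type*} [Group A] [Finite A] (hp : commutator A = ⊤) (hz : center A = ⊥)
    {f₁ f₂ j₁ j₂ : A →* G} (i₁ : Function.Injective f₁) (i₂ : Function.Injective f₂)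
    (hc : ∀ a b, Commute (f₁ a) (f₂ b)) (hj : ∀ a b, Commute (j₁ a) (j₂ b))
    (hd : ∀ a, f₁ a * f₂ a = j₁ a * j₂ a)
    (n₁ : ∀ a, f₁ a ∈ normalizer ((j₁.range ⊔ j₂.range : Subgroup G) : Set G))
    (n₂ : ∀ a, f₂ a ∈ normalizer ((j₁.range ⊔ j₂.range : Subgroup G) : Set G)) :
    f₁.range ⊔ f₂.range = j₁.range ⊔ j₂.range := by
  have hm : ∀ a, f₁ a * f₂ a ∈ j₁.range ⊔ j₂.range := fun a => by
    rw [hd]; exact mul_mem_sup ⟨a, rfl⟩ ⟨a, rfl⟩
  have hle : f₁.range ⊔ f₂.range ≤ j₁.range ⊔ j₂.range :=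
    sup_le (wten_le hp hc hm n₁)
      (wten_le hp (fun a b => (hc b a).symm) (fun a => by rw [← (hc a a).eq]; exact hm a) n₂)
  refine eq_of_le_of_card_ge hle ?_
  have hi : Function.Injective (f₁.noncommCoprod f₂ hc) := by
    rw [injective_iff_map_eq_one]
    rintro ⟨a, b⟩ h
    change f₁ a * f₂ b = 1 at h
    have ha : a = 1 := by
      have : a ∈ center A := mem_center_iff.2 fun c => i₁ <| by
        rw [map_mul, map_mul, eq_inv_of_mul_eq_one_left h]
        exact ((hc c b).inv_right).eq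
      rwa [hz, mem_bot] at this
    subst ha
    rw [map_one, one_mul] at h
    have hb : b = 1 := i₂ (h.trans (map_one f₂).symm)
    rw [hb]; rfl
  rw [← MonoidHom.noncommCoprod_range f₁ f₂ hc, ← MonoidHom.noncommCoprod_range j₁ j₂ hj,
    ← Nat.card_congr (MonoidHom.ofInjective hi).toEquiv]
  exact Nat.card_le_card_of_surjective _ (j₁.noncommCoprod j₂ hj).rangeRestrict_surjective

variable {ι₁ ι₂ : alternatingGroup Ω →* G}

theorem Wr.wten_inj₂ (d : Wr ι t ι₁ ι₂) : Function.Injective ι₂ := fun a b h => d.inj <| by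
  rw [← d.swp, ← d.swp] at h
  exact mul_left_cancel (mul_right_cancel h)

theorem wten_comm {Ψ : Finset Ω} (a : alternatingGroup Ψ) {c : alternatingGroup Ω}
    (hc : (c : Perm Ω) ∈ altOn Ψᶜ) : Commute (alternatingGroup.ofSubtype Ψ a) c := by
  have h1 := (alternatingGroup.mem_range_ofSubtype_iff Ψ _).1 ⟨a, rfl⟩
  have h2 := (mem_altOn.1 hc).1
  have : Perm.Disjoint ((alternatingGroup.ofSubtype Ψ a : alternatingGroup Ω) : Perm Ω) c := by
    rw [Perm.disjoint_iff_disjoint_support]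
    exact Finset.disjoint_left.2 fun x hx hx' => Finset.mem_compl.1 (h2 hx') (h1 hx)
  exact Subtype.ext this.commute.eq

/-- the `W7` product is the product of the restrictions of `ι₁`, `ι₂` -/
theorem Wr.wten_norm (d : Wr ι t ι₁ ι₂) {Ψ : Finset Ω} (h5 : 5 ≤ Ψ.card) (h : W7 ι t Ψ) :
    HC ι Ψᶜ ≤ normalizer (((ι₁.comp (alternatingGroup.ofSubtype Ψ)).range ⊔
      (ι₂.comp (alternatingGroup.ofSubtype Ψ)).range : Subgroup G) : Set G) := by
  obtain ⟨j₁, j₂, l, -, hn⟩ := h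
  have c5 : 5 ≤ Nat.card Ψ := by simpa using h5
  rw [wten_eq (j₁ := j₁) (j₂ := j₂) (commutator_alternatingGroup_eq_top c5)
    (alternatingGroup.center_eq_bot (by omega))
    (d.inj.comp alternatingGroup.ofSubtype_injective)
    (d.wten_inj₂.comp alternatingGroup.ofSubtype_injective) (fun a b => d.com _ _) l.com
    (fun a => (d.dia _).symm.trans (l.dia a)) (fun a => hn ?_) (fun a => hn ?_)]
  · exact hn
  · rw [mem_centralizer_iff]
    rintro _ ⟨c, hc, rfl⟩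
    rw [d.dia]
    exact (((wten_comm a hc).map ι₁).mul_right (d.com _ c)).symm.eq
  · rw [mem_centralizer_iff]
    rintro _ ⟨c, hc, rfl⟩
    rw [d.dia]
    exact ((d.com c _).symm.mul_right ((wten_comm a hc).map ι₂)).symm.eq

/-- what centralises `ι (Alt Φᶜ)`, `|Φ| ≤ 4`, normalises `L₁ L₂` -/
theorem Wr.wten_main (d : Wr ι t ι₁ ι₂) (h10 : 7 ≤ Fintype.card Ω)
    (h : ∀ Ψ : Finset Ω, Ψ.card = 7 → W7 ι t Ψ) {Φ : Finset Ω} (h4 : Φ.card ≤ 4) :
    HC ι Φᶜ ≤ WM ι₁ ι₂ := by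
  intro δ hδ
  have key : ∀ a : alternatingGroup Ω, δ * ι₁ a * δ⁻¹ ∈ ι₁.range ⊔ ι₂.range ∧
      δ * ι₂ a * δ⁻¹ ∈ ι₁.range ⊔ ι₂.range := by
    intro a
    have ha : a ∈ closure {σ : alternatingGroup Ω | (σ : Perm Ω).IsThreeCycle} := by
      rw [alternatingGroup.closure_isThreeCycles_eq_top]; exact mem_top a
    induction ha using closure_induction with
    | mem a ha =>
      obtain ⟨Ψ, h1, -, h7⟩ := Finset.exists_subsuperset_card_eq
        (s := Φ ∪ (a : Perm Ω).support) (t := Finset.univ) (n := 7) (Finset.subset_univ _)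
        (by have := Finset.card_union_le Φ (a : Perm Ω).support
            have := IsThreeCycle.card_support ha
            omega) (by rw [Finset.card_univ]; omega)
      obtain ⟨b, rfl⟩ := (alternatingGroup.mem_range_ofSubtype_iff Ψ a).2
        (Finset.union_subset_right h1)
      have hδ' : δ ∈ HC ι Ψᶜ := centralizer_le (map_mono (comap_mono (altOn_mono
        (Finset.compl_subset_compl.2 (Finset.union_subset_left h1))))) hδ
      have hn := d.wten_norm (by omega) (h Ψ h7) hδ'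
      have hle : (ι₁.comp (alternatingGroup.ofSubtype Ψ)).range ⊔
          (ι₂.comp (alternatingGroup.ofSubtype Ψ)).range ≤ ι₁.range ⊔ ι₂.range :=
        sup_le_sup (by rintro _ ⟨c, rfl⟩; exact ⟨_, rfl⟩) (by rintro _ ⟨c, rfl⟩; exact ⟨_, rfl⟩)
      exact ⟨hle ((mem_normalizer_iff.1 hn _).1 (mem_sup_left ⟨b, rfl⟩)),
        hle ((mem_normalizer_iff.1 hn _).1 (mem_sup_right ⟨b, rfl⟩))⟩
    | one => simp
    | mul a b _ _ ha hb =>
      refine ⟨?_, ?_⟩
      · convert mul_mem ha.1 hb.1 using 1; rw [map_mul]; group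
      · convert mul_mem ha.2 hb.2 using 1; rw [map_mul]; group
    | inv a _ ha =>
      refine ⟨?_, ?_⟩
      · convert inv_mem ha.1 using 1; rw [map_inv]; group
      · convert inv_mem ha.2 using 1; rw [map_inv]; group
  refine mem_normalizer_fintype fun x hx => ?_
  have : ι₁.range ⊔ ι₂.range ≤ (ι₁.range ⊔ ι₂.range).comap (MulAut.conj δ).toMonoidHom :=
    sup_le (by rintro _ ⟨a, rfl⟩; exact (key a).1) (by rintro _ ⟨a, rfl⟩; exact (key a).2)
  exact this hx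

theorem w_fin_ten (d : Wr ι t ι₁ ι₂) (_F : Fr ι t) (h10 : 10 ≤ Fintype.card Ω)
    (h : ∀ Ψ : Finset Ω, Ψ.card = 7 → W7 ι t Ψ) :
    ∀ Φ : Finset Ω, Φ.card = Fintype.card Ω % 4 → ∀ δ : G, Odd (orderOf δ) → t * δ * t⁻¹ = δ⁻¹ →
      δ ∈ HC ι₁ Φᶜ → δ ∈ HC ι₂ Φᶜ → δ ∈ WM ι₁ ι₂ := by
  intro Φ hΦ δ _ _ h1 h2
  refine d.wten_main (by omega) h (Φ := Φ) (by omega) ?_
  rw [mem_centralizer_iff]
  rintro _ ⟨c, hc, rfl⟩
  rw [d.dia]
  have e1 : Commute (ι₁ c) δ := mem_centralizer_iff.1 h1 _ ⟨c, hc, rfl⟩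
  have e2 : Commute (ι₂ c) δ := mem_centralizer_iff.1 h2 _ ⟨c, hc, rfl⟩
  exact (e1.mul_left e2).eq

end CfsgLib.ANX
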