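import Cfsg.Agent.Lib.UFP.PrdL

/-! `UFP.PrdL` without the field `uw0` (copy). -/

set_option autoImplicit false

namespace CfsgLib.ANX

open Subgroup CfsgLib.UFP
open scoped Pointwise

universe u

variable {G : Type u} [Group G] {G1 GN C1 C2 S L1 Gs : Subgroup G} {t : G}

/-- The data of the product case. -/
structure PrdK (G1 GN C1 C2 S L1 : Subgroup G) (t : G) : Prop extends Swap G1 GN C1 C2 where
  Sp : IsPGroup 2 S
  S1 : S ≤ G1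
  tS : t ∈ S
  tN : t ∉ GN
  syl : ∀ P ≤ G1, IsPGroup 2 P → ∃ g ∈ G1, ∀ p ∈ P, g * p * g⁻¹ ∈ S
  hL : L1 ≤ C1
  nL : GN ≤ normalizer (L1 : Set G)
  cL : C2 ≤ centralizer (L1 : Set G)
  four : ∃ A ≤ S ⊓ L1, S ⊓ GN ≤ normalizer (A : Set G) ∧ (∀ a ∈ A, a * a = 1) ∧
    ∃ a ∈ A, ∃ b ∈ A, a ≠ 1 ∧ b ≠ 1 ∧ a ≠ b

namespace PrdK

variable (d : PrdK G1 GN C1 C2 S L1 t)
include d

theorem t1 : t ∈ G1 := d.S1 d.tS

theorem sylN {P : Subgroup G} (h1 : P ≤ G1) (hP : IsPGroup 2 P) :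
    ∃ g ∈ GN, ∀ p ∈ P, g * p * g⁻¹ ∈ S := by
  obtain ⟨g, hg, h⟩ := d.syl P h1 hP
  by_cases hN : g ∈ GN
  · exact ⟨g, hN, h⟩
  · refine ⟨t * g, d.idx _ d.t1 _ hg d.tN hN, fun p hp => ?_⟩
    have := S.mul_mem (S.mul_mem d.tS (h p hp)) (S.inv_mem d.tS)
    rwa [show t * (g * p * g⁻¹) * t⁻¹ = t * g * p * (t * g)⁻¹ by group] at this

theorem L1N : L1 ≤ GN := d.hL.trans d.c1

/-- `S ∩ L1` is a maximal 2-subgroup of `L1` -/
theorem max [Finite G] {R : Subgroup G} (hR : IsPGroup 2 R) (h1 : R ≤ L1) (h2 : S ⊓ L1 ≤ R) :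
    R ≤ S := by
  obtain ⟨g, hg, h⟩ := d.sylN (h1.trans (d.L1N.trans d.le)) hR
  have : MulAut.conj g • R ≤ S ⊓ L1 :=
    Coprime.conj_smul_le_iff.2 fun x hx => ⟨h x hx, conj_mem (d.nL hg) (h1 hx)⟩
  rw [← Core.eq_of_le_of_card_le h2 (by
    rw [← Coprime.card_conj_smul g]; exact card_le_of_le this)]
  exact inf_le_left

theorem u1 : S ⊓ L1 ≤ S ⊓ C1 := inf_le_inf_left _ d.hL

theorem u2 : MulAut.conj t • (S ⊓ L1) ≤ S ⊓ C2 := Coprime.conj_smul_le_iff.2 fun x hx =>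
  ⟨S.mul_mem (S.mul_mem d.tS hx.1) (S.inv_mem d.tS), d.s1 t d.t1 d.tN x (d.hL hx.2)⟩

theorem sup_mem {A B : Subgroup G} (hA : A ≤ S ⊓ C1) (hB : B ≤ S ⊓ C2) {x : G}
    (hx : x ∈ A ⊔ B) : ∃ a ∈ A, ∃ b ∈ B, a * b = x :=
  (Core.mem_sup_of_le_normalizer_left fun b hb => centralizer_le_normalizer _
    (mem_cent.2 fun a ha => d.toSwap.comm d.Sp (hA ha).1 (hB hb).1 (hA ha).2 (hB hb).2)).1 hx

/-- an element of `S` acting as an inner automorphism on both factors -/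
theorem dec (t2 : t * t = 1) {w : G} (h1 : w ∈ S ⊓ L1 ⊔ S ⊓ C2)
    (h2 : t * w * t⁻¹ ∈ S ⊓ L1 ⊔ S ⊓ C2) :
    ∃ a ∈ S ⊓ L1, ∃ b ∈ S ⊓ L1, w = a * (t * b * t⁻¹) := by
  obtain ⟨a, ha, c, hc, rfl⟩ := d.sup_mem d.u1 le_rfl h1
  obtain ⟨b, hb, c', hc', e⟩ := d.sup_mem d.u1 le_rfl h2
  have m1 := d.u2 (Coprime.conj_mem_conj_smul hb)
  have m2 : t * c' * t⁻¹ ∈ S ⊓ C1 :=
    ⟨S.mul_mem (S.mul_mem d.tS hc'.1) (S.inv_mem d.tS), d.s2 t d.t1 d.tN _ hc'.2⟩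
  have e' : a * c = t * c' * t⁻¹ * (t * b * t⁻¹) := by
    rw [d.toSwap.comm d.Sp m2.1 m1.1 m2.2 m1.2, show t * b * t⁻¹ * (t * c' * t⁻¹) =
      t * (b * c') * t⁻¹ by group, e, show t * (t * (a * c) * t⁻¹) * t⁻¹ =
      t * t * (a * c) * (t * t)⁻¹ by group, t2]
    group
  exact ⟨a, ha, b, hb, by rw [(d.toSwap.uniq d.Sp ha.1 m2.1 (d.hL ha.2) hc.2 m2.2 m1.2 e').2]⟩

/-- **Small outer automorphism group** (`q = 2`, or `q = 2 ^ n`, `n` odd): `K` has index at most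
two in `GN`, contains `L1` and `C2`, and its 2-elements induce inner automorphisms on `L1`. -/
theorem not_res [Finite G] (h : U G1 t) (hi : Gs.index = 2) (ht : t ∉ Gs) (hp : Gs ≤ ⁅Gs, Gs⁆)
    (hLs : L1 ≤ Gs) {K : Subgroup G} (kL : L1 ≤ K) (kC : C2 ≤ K)
    (kI : ∀ a ∈ GN, ∀ b ∈ GN, a ∉ K → b ∉ K → a * b ∈ K)
    (kS : ∀ w ∈ S ⊓ GN, w ∈ K → w ∈ S ⊓ L1 ⊔ S ⊓ C2) : ¬ Res G1 Gs C1 C2 S t := by
  classical
  haveI hN : Gs.Normal := normal_of_index_eq_two hi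
  rintro ⟨D, DS, D1, D2, nle, nc, -⟩
  have w := d.toSwap
  have t2 := h.sq
  have ti := inv_eq_of_mul_eq_one_right t2
  have tt : ∀ g : G, t * (t * g * t⁻¹) * t⁻¹ = g := fun g => by
    rw [show t * (t * g * t⁻¹) * t⁻¹ = t * t * g * (t * t)⁻¹ by group, t2]; group
  have cN : ∀ g ∈ GN, t * g * t⁻¹ ∈ GN := fun g hg => w.conj d.t1 hg
  obtain ⟨a, ha⟩ : ∃ a : G → ZMod 2, ∀ g, a g = if g ∈ K then 0 else 1 := ⟨_, fun _ => rfl⟩
  have a0 : ∀ g, a g = 0 ↔ g ∈ K := fun g => by rw [ha]; split_ifs with hh <;> simp [hh]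
  have am : ∀ g ∈ GN, ∀ g' ∈ GN, a (g * g') = a g + a g' := by
    intro g hg g' hg'
    rw [ha, ha, ha]
    by_cases h1 : g ∈ K <;> by_cases h2 : g' ∈ K
    · simp [h1, h2, K.mul_mem h1 h2]
    · simp [h1, h2, K.mul_mem_cancel_left h1]
    · simp [h1, h2, K.mul_mem_cancel_right h2]
    · simp only [h1, h2, kI g hg g' hg' h1 h2, if_true, if_false]; decide
  obtain ⟨b, hb⟩ : ∃ b : G → ZMod 2, ∀ g, b g = a (t * g * t⁻¹) := ⟨_, fun _ => rfl⟩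
  have bm : ∀ g ∈ GN, ∀ g' ∈ GN, b (g * g') = b g + b g' := fun g hg g' hg' => by
    rw [hb, hb, hb, ← am _ (cN g hg) _ (cN g' hg')]; congr 1; group
  have bt : ∀ g, b (t * g * t⁻¹) = a g := fun g => by rw [hb, tt]
  have z2 : ∀ x : ZMod 2, x + x = 0 := by decide
  have pw : ∀ c : G → ZMod 2, (∀ g ∈ GN, ∀ g' ∈ GN, c (g * g') = c g + c g') → ∀ g ∈ GN, ∀ k ∈ GN,
      ∀ j : ℕ, c (k * g ^ (2 * j + 1) * k⁻¹) = c g := by
    intro c hc g hg k hk j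
    have c1 : c 1 = 0 := by simpa using hc 1 GN.one_mem 1 GN.one_mem
    rw [hc _ (GN.mul_mem hk (GN.pow_mem hg _)) _ (GN.inv_mem hk), hc _ hk _ (GN.pow_mem hg _),
      add_right_comm, ← hc _ hk _ (GN.inv_mem hk), mul_inv_cancel, c1, zero_add, pow_succ, two_mul,
      pow_add, hc _ (GN.mul_mem (GN.pow_mem hg _) (GN.pow_mem hg _)) _ hg,
      hc _ (GN.pow_mem hg _) _ (GN.pow_mem hg _), z2, zero_add]
  have red : ∀ g ∈ GN, ∃ x ∈ S ⊓ GN, a x = a g ∧ b x = b g ∧ (x ∈ Gs → g ∈ Gs) := by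
    intro g hg
    obtain ⟨m, ⟨j, rfl⟩, hm⟩ := exists_two_pow g
    obtain ⟨k, hk, hs⟩ := d.sylN (zpowers_le.2 (G1.pow_mem (w.le hg) _)) hm
    refine ⟨_, ⟨hs _ (mem_zpowers _), GN.mul_mem (GN.mul_mem hk (GN.pow_mem hg _)) (GN.inv_mem hk)⟩,
      pw a am g hg k hk j, pw b bm g hg k hk j, fun hh => ?_⟩
    have := hN.conj_mem _ hh k⁻¹
    rwa [show k⁻¹ * (k * g ^ (2 * j + 1) * k⁻¹) * k⁻¹⁻¹ = g ^ (2 * j + 1) by group, pow_succ, pow_mul,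
      Gs.mul_mem_cancel_left (pow_mem (by rw [pow_two]; exact mul_self_mem_of_index_two hi _) j)]
      at this
  have dec' : ∀ x ∈ S ⊓ GN, a x = 0 → b x = 0 →
      ∃ u ∈ S ⊓ L1, ∃ v ∈ S ⊓ L1, x = u * (t * v * t⁻¹) := fun x hx h1 h2 =>
    d.dec t2 (kS x hx ((a0 x).1 h1)) (kS _ ⟨S.mul_mem (S.mul_mem d.tS hx.1) (S.inv_mem d.tS),
      cN x hx.2⟩ ((a0 _).1 (hb x ▸ h2)))
  have triv : ∀ x ∈ S ⊓ GN, a x = 0 → b x = 0 → x ∈ D ∧ x ∈ Gs := fun x hx h1 h2 => by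
    obtain ⟨u, hu, v, hv, rfl⟩ := dec' x hx h1 h2
    exact ⟨D.mul_mem (D1 (d.u1 hu)) (D2 (d.u2 (Coprime.conj_mem_conj_smul hv))),
      Gs.mul_mem (hLs hu.2) (hN.conj_mem _ (hLs hv.2) t)⟩
  have ker : ∀ g ∈ GN, a g = 0 → b g = 0 → g ∈ Gs := fun g hg h1 h2 => by
    obtain ⟨x, hx, e1, e2, e3⟩ := red g hg
    exact e3 (triv x hx (e1.trans h1) (e2.trans h2)).2
  have fin : S ⊓ GN ≤ D → ¬ S ⊓ GN ≤ Gs := fun h1 h2 => nle fun x hx => h2 ⟨DS hx, by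
    by_contra xN
    have := D.mul_mem (h1 ⟨S.mul_mem d.tS (S.inv_mem (DS hx)), w.idx _ d.t1 _
      (G1.inv_mem (d.S1 (DS hx))) d.tN fun hh => xN (GN.inv_mem_iff.1 hh)⟩) hx
    exact nc 1 (by simpa using this)⟩
  have sw : ∀ g ∈ G1, g ∉ GN → g * t ∈ GN := fun g hg gN => w.idx _ hg _ d.t1 gN d.tN
  have e1 : ∀ g g' : G, g * g' * t = g * t * (t * g' * t⁻¹) := fun g g' => by
    rw [show g * t * (t * g' * t⁻¹) = g * (t * t) * g' * t⁻¹ by group, t2, ti, mul_one]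
  have e2 : ∀ g g' : G, g * g' = g * t * (t * (g' * t) * t⁻¹) := fun g g' => by
    rw [show g * t * (t * (g' * t) * t⁻¹) = g * (t * t) * g' by group, t2, mul_one]
  have e3 : ∀ g : G, t * g * t⁻¹ * t = t * (g * t) * t⁻¹ := fun g => by group
  by_cases hab : ∀ g ∈ GN, a g = b g
  · -- the character extends to `G1`
    have key : ∀ ρ ∈ GN, t * ρ = ρ * t → a ρ = 0 := by
      have := fun k (hk : k ∈ Gs) hc => h.eq_one_of_inv (A := Multiplicative (ZMod 2)) hi ht hp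
        (fun g => Multiplicative.ofAdd (if g ∈ GN then a g else a (g * t))) (fun g _ hg g' _ hg' => by
          rw [← ofAdd_add]
          congr 1
          by_cases h1 : g ∈ GN <;> by_cases h2 : g' ∈ GN
          · rw [if_pos h1, if_pos h2, if_pos (GN.mul_mem h1 h2), am g h1 g' h2]
          · rw [if_pos h1, if_neg h2, if_neg (mt (GN.mul_mem_cancel_left h1).1 h2), mul_assoc,
              am g h1 _ (sw g' hg' h2)]
          · rw [if_neg h1, if_pos h2, if_neg (mt (GN.mul_mem_cancel_right h2).1 h1), e1,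
              am _ (sw g hg h1) _ (cN g' h2), ← hb, ← hab g' h2]
          · rw [if_neg h1, if_neg h2, if_pos (w.idx g hg g' hg' h1 h2), e2,
              am _ (sw g hg h1) _ (cN _ (sw g' hg' h2)), ← hb, ← hab _ (sw g' hg' h2)])
        (fun g _ hg => by
          rw [← ofAdd_neg]
          congr 1
          rw [eq_neg_iff_add_eq_zero]
          by_cases h1 : g ∈ GN
          · rw [if_pos h1, if_pos (cN g h1), ← hb, ← hab g h1, z2]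
          · rw [if_neg h1, if_neg (w.conj_not d.t1 h1), e3, ← hb, ← hab _ (sw g hg h1), z2])
        (k := k) hk hc
      intro ρ hρ hc
      by_cases hs : ρ ∈ Gs
      · simpa [hρ] using this ρ hs hc
      · have h1 := this (ρ * t) ((mul_mem_iff_of_index_two hi).2 (iff_of_false hs ht))
          (by rw [← mul_assoc, hc])
        rw [if_neg (mt (GN.mul_mem_cancel_left hρ).1 d.tN), mul_assoc, t2, mul_one] at h1
        simpa using h1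
    have all : ∀ x ∈ S ⊓ GN, a x = 0 := by
      intro x hx
      have m : x⁻¹ * (t * x * t⁻¹) ∈ S ⊓ GN := mul_mem (inv_mem hx)
        ⟨S.mul_mem (S.mul_mem d.tS hx.1) (S.inv_mem d.tS), cN x hx.2⟩
      have m0 : a (x⁻¹ * (t * x * t⁻¹)) = 0 := by
        have := am x hx.2 _ m.2
        rw [mul_inv_cancel_left, ← hb, ← hab x hx.2] at this
        simpa using this
      obtain ⟨u, hu, v, hv, e⟩ := dec' _ m m0 (hab _ m.2 ▸ m0)
      have m1 := d.u2 (Coprime.conj_mem_conj_smul hu)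
      have m2 := d.u2 (Coprime.conj_mem_conj_smul hv)
      have e4 : v * (t * u * t⁻¹) = u⁻¹ * (t * v * t⁻¹)⁻¹ := by
        rw [w.comm d.Sp hv.1 m1.1 (d.hL hv.2) m1.2, w.comm d.Sp (S.inv_mem hu.1) (S.inv_mem m2.1)
          (C1.inv_mem (d.hL hu.2)) (C2.inv_mem m2.2), ← mul_inv_rev, ← e]
        nth_rewrite 1 [← tt v]
        rw [show t * u * t⁻¹ * (t * (t * v * t⁻¹) * t⁻¹) = t * (u * (t * v * t⁻¹)) * t⁻¹ by group,
          ← e, show t * (x⁻¹ * (t * x * t⁻¹)) * t⁻¹ = t * x⁻¹ * t⁻¹ * (t * (t * x * t⁻¹) * t⁻¹) by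
            group, tt]
        group
      rw [(w.uniq d.Sp hv.1 (S.inv_mem hu.1) (d.hL hv.2) m1.2 (C1.inv_mem (d.hL hu.2))
        (C2.inv_mem m2.2) e4).1] at e
      have := key (x * u) (GN.mul_mem hx.2 (d.L1N hu.2)) (by
        calc t * (x * u) = x * (x⁻¹ * (t * x * t⁻¹)) * (t * u) := by group
          _ = _ := by rw [e]; group)
      rwa [am x hx.2 u (d.L1N hu.2), (a0 u).2 (kL hu.2), add_zero] at this
    exact fin (fun x hx => (triv x hx (all x hx) (hab x hx.2 ▸ all x hx)).1)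
      fun x hx => (triv x hx (all x hx) (hab x hx.2 ▸ all x hx)).2
  -- an element of `S ∩ C2` inducing an outer automorphism on `L2`
  obtain ⟨c, hc, ca, cb⟩ : ∃ c ∈ S ⊓ C2, a c = 0 ∧ b c = 1 := by
    push Not at hab
    obtain ⟨g, hg, hne⟩ := hab
    obtain ⟨x, hx, ha', hb'⟩ : ∃ x ∈ S ⊓ GN, a x = 0 ∧ b x = 1 := by
      obtain ⟨x, hx, e1, e2, -⟩ := red g hg
      have : ∀ p q : ZMod 2, p ≠ q → (p = 0 ∧ q = 1) ∨ (q = 0 ∧ p = 1) := by decide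
      rcases this _ _ hne with hh | hh
      · exact ⟨x, hx, e1.trans hh.1, e2.trans hh.2⟩
      · exact ⟨t * x * t⁻¹, ⟨S.mul_mem (S.mul_mem d.tS hx.1) (S.inv_mem d.tS), cN x hx.2⟩,
          by rw [← hb, e2, hh.1], by rw [bt, e1, hh.2]⟩
    obtain ⟨u, hu, c, hc, rfl⟩ := d.sup_mem d.u1 le_rfl (kS x hx ((a0 x).1 ha'))
    refine ⟨c, hc, (a0 c).2 (kC hc.2), ?_⟩
    rwa [bm u (d.L1N hu.2) c (w.c2 hc.2), hb u, (a0 _).2 (kC (d.u2
      (Coprime.conj_mem_conj_smul hu)).2), zero_add] at hb'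
  have cN' := w.c2 hc.2
  have c'S : t * c * t⁻¹ ∈ S ⊓ C1 :=
    ⟨S.mul_mem (S.mul_mem d.tS hc.1) (S.inv_mem d.tS), w.s2 t d.t1 d.tN c hc.2⟩
  have c'a : a (t * c * t⁻¹) = 1 := by rw [← hb, cb]
  have c'b : b (t * c * t⁻¹) = 0 := by rw [bt, ca]
  have adj : ∀ g ∈ GN, ∃ p q : G, (p = 1 ∧ a g = 0 ∨ p = t * c * t⁻¹ ∧ a g = 1) ∧
      (q = 1 ∧ b g = 0 ∨ q = c ∧ b g = 1) ∧ a (g * p * q) = 0 ∧ b (g * p * q) = 0 := by
    intro g hg
    have : ∀ p : ZMod 2, p = 0 ∨ p = 1 := by decide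
    have o : (1 : ZMod 2) + 1 = 0 := by decide
    rcases this (a g) with h1 | h1 <;> rcases this (b g) with h2 | h2
    · exact ⟨1, 1, by simp [h1], by simp [h2], by simp [h1], by simp [h2]⟩
    · exact ⟨1, c, by simp [h1], by simp [h2], by simp [am g hg c cN', h1, ca],
        by simp [bm g hg c cN', h2, cb, o]⟩
    · exact ⟨_, 1, Or.inr ⟨rfl, h1⟩, by simp [h2], by simp [am g hg _ (cN c cN'), h1, c'a, o],
        by simp [bm g hg _ (cN c cN'), h2, c'b]⟩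
    · exact ⟨_, c, Or.inr ⟨rfl, h1⟩, by simp [h2], by
        rw [am _ (GN.mul_mem hg (cN c cN')) c cN', am g hg _ (cN c cN'), h1, c'a, ca, o, add_zero],
        by rw [bm _ (GN.mul_mem hg (cN c cN')) c cN', bm g hg _ (cN c cN'), h2, c'b, cb, add_zero,
          o]⟩
  have pq : ∀ {H : Subgroup G} {p q : G} {P Q P' Q' : Prop}, t * c * t⁻¹ ∈ H → c ∈ H →
      (p = 1 ∧ P ∨ p = t * c * t⁻¹ ∧ P') → (q = 1 ∧ Q ∨ q = c ∧ Q') → p ∈ H ∧ q ∈ H := by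
    rintro H p q _ _ _ _ h1 h2 (⟨rfl, -⟩ | ⟨rfl, -⟩) (⟨rfl, -⟩ | ⟨rfl, -⟩) <;>
      simp [h1, h2]
  have cs : c ∉ Gs := fun hcs => fin (fun x hx => by
      obtain ⟨p, q, h1, h2, h3, h4⟩ := adj x hx.2
      obtain ⟨p1, q1⟩ := pq (H := S ⊓ GN) ⟨c'S.1, cN c cN'⟩ ⟨hc.1, cN'⟩ h1 h2
      obtain ⟨p2, q2⟩ := pq (D1 c'S) (D2 hc) h1 h2
      exact (D.mul_mem_cancel_right p2).1 ((D.mul_mem_cancel_right q2).1
        (triv _ (mul_mem (mul_mem hx p1) q1) h3 h4).1)) fun x hx => by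
      obtain ⟨p, q, h1, h2, h3, h4⟩ := adj x hx.2
      obtain ⟨p1, q1⟩ := pq (cN c cN') cN' h1 h2
      obtain ⟨p2, q2⟩ := pq (hN.conj_mem c hcs t) hcs h1 h2
      exact (Gs.mul_mem_cancel_right p2).1 ((Gs.mul_mem_cancel_right q2).1
        (ker _ (mul_mem (mul_mem hx.2 p1) q1) h3 h4))
  have cs' : t * c * t⁻¹ ∉ Gs := fun hh => cs (by simpa [mul_assoc] using hN.conj_mem _ hh t⁻¹)
  have typ : ∀ g ∈ GN, (g ∈ Gs → a g = b g) ∧ (g ∉ Gs → a g = b g + 1) := by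
    intro g hg
    obtain ⟨p, q, h1, h2, h3, h4⟩ := adj g hg
    obtain ⟨p1, q1⟩ := pq (cN c cN') cN' h1 h2
    have := ker _ (mul_mem (mul_mem hg p1) q1) h3 h4
    generalize t * c * t⁻¹ = c' at h1 this cs'
    rcases h1 with ⟨rfl, h1⟩ | ⟨rfl, h1⟩ <;> rcases h2 with ⟨rfl, h2⟩ | ⟨rfl, h2⟩ <;>
      rw [h1, h2] <;> simp only [mul_one, mul_mem_iff_of_index_two hi, cs, cs', iff_false,
        not_not] at this
    · exact ⟨fun _ => rfl, fun hh => (hh this).elim⟩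
    · exact ⟨fun hh => (this hh).elim, fun _ => by decide⟩
    · exact ⟨fun hh => (this hh).elim, fun _ => by decide⟩
    · exact ⟨fun _ => rfl, fun hh => (hh this).elim⟩
  have ns : ∀ g ∈ Gs, g * t ∉ Gs := fun g hg hh => ht ((Gs.mul_mem_cancel_left hg).1 hh)
  obtain ⟨db, hdb, db1, db2, db3⟩ : ∃ db : ZMod 2 → ZMod 4, (∀ x y, db (x + y) = db x + db y) ∧
      (∀ x y, db (x + 1 + y) = 1 + db x + (1 + db y)) ∧ (∀ x, db x = - db x) ∧
      (∀ x, 1 + db (x + 1) = -(1 + db x)) ∧ db 1 ≠ 0 :=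
    ⟨fun x => if x = 0 then 0 else 2, by decide⟩
  have := h.eq_one_of_inv (A := Multiplicative (ZMod 4)) hi ht hp
    (fun g => Multiplicative.ofAdd (if g ∈ GN then db (a g) else 1 + db (b (g * t))))
    (fun g gs hg g' gs' hg' => by
      rw [← ofAdd_add]
      congr 1
      by_cases h1 : g ∈ GN <;> by_cases h2 : g' ∈ GN
      · rw [if_pos h1, if_pos h2, if_pos (GN.mul_mem h1 h2), am g h1 g' h2, hdb]
      · rw [if_pos h1, if_neg h2, if_neg (mt (GN.mul_mem_cancel_left h1).1 h2), mul_assoc,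
          bm g h1 _ (sw g' hg' h2), hdb, (typ g h1).1 gs, add_left_comm]
      · rw [if_neg h1, if_pos h2, if_neg (mt (GN.mul_mem_cancel_right h2).1 h1), e1,
          bm _ (sw g hg h1) _ (cN g' h2), bt, hdb, add_assoc]
      · rw [if_neg h1, if_neg h2, if_pos (w.idx g hg g' hg' h1 h2), e2,
          am _ (sw g hg h1) _ (cN _ (sw g' hg' h2)), ← hb, (typ _ (sw g hg h1)).2 (ns g gs), db1])
    (fun g gs hg => by
      rw [← ofAdd_neg]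
      congr 1
      by_cases h1 : g ∈ GN
      · rw [if_pos h1, if_pos (cN g h1), ← hb, ← (typ g h1).1 gs, ← db2]
      · rw [if_neg h1, if_neg (w.conj_not d.t1 h1), e3, bt, (typ _ (sw g hg h1)).2 (ns g gs),
          db3.1])
    (k := t * c * t⁻¹ * c) ((mul_mem_iff_of_index_two hi).2 (iff_of_false cs' cs)) (by
      rw [show t * (t * c * t⁻¹ * c) = t * (t * c * t⁻¹) * t⁻¹ * (t * c * t⁻¹) * t by group, tt,
        w.comm d.Sp c'S.1 hc.1 c'S.2 hc.2])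
  rw [if_pos (GN.mul_mem (cN c cN') cN'), am _ (cN c cN') c cN', c'a, ca, add_zero] at this
  exact db3.2 (by simpa using this)

theorem mem [Finite G] (uw : ∀ g ∈ G1, g * t * g⁻¹ ∈ S →
      UW G1 (g * t * g⁻¹) (S ⊓ GN ⊓ centralizer {g * t * g⁻¹})) (h : U G1 t) (hi : Gs.index = 2)
    (ht : t ∉ Gs) (hp : Gs ≤ ⁅Gs, Gs⁆) (hLs : L1 ≤ Gs) {K : Subgroup G} (kL : L1 ≤ K)
    (kC : C2 ≤ K) (kI : ∀ a ∈ GN, ∀ b ∈ GN, a ∉ K → b ∉ K → a * b ∈ K)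
    (kS : ∀ w ∈ S ⊓ GN, w ∈ K → w ∈ S ⊓ L1 ⊔ S ⊓ C2) {u : G} (hu : u ∈ Gs) (hu2 : u * u = 1) :
    u ∈ G1 := by
  have p : PrdData G1 GN C1 C2 S t := by
    refine { d.toSwap with
      Sp := d.Sp, S1 := d.S1, tS := d.tS, tN := d.tN, syl := d.syl, four := ?_, uw := uw }
    obtain ⟨A, h1, h2⟩ := d.four
    exact ⟨A, h1.trans (inf_le_inf_left _ d.hL), h2⟩
  exact p.mem h hi ht (d.not_res h hi ht hp hLs kL kC kI kS) hu hu2

end PrdK

end CfsgLib.ANX
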