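import Cfsg.Agent.Lib.ANX.T2L
import Cfsg.Agent.Lib.ANX.TMain

/-! PART T: `Fr.big0`, `Big0.sy0` (T2D), `Big0.par` (T2L), `Big0.fin` (TMain). -/
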