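import Cfsg.Agent.Lib.ANX.QDefs

/-! Row QP1 (pure permutations).  q_three: `v = (a pa)(b pb)`; a third 2-cycle `(c pc)`; `ρ = (a b c)(pa pb pc)` (product of 4 swaps: `swap a b * swap b c * ...`), `ρ₁ = v ρ`, `ρ₂ = ρ⁻¹`
(check `ρ₁ ^ 3 = 1` pointwise on the six points).  q_ind: induction on `W w`; `Alt.FinP.exists_split` gives `w = u * z'` with `u` a root agreeing with `w` on `s`, `z'` fixing `s` (`Four.W_mul`, `Ag.sq`) -/

set_option autoImplicit false
set_option linter.unusedSectionVars false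

namespace CfsgLib.ANX

open Subgroup Equiv Equiv.Perm Cfsg CfsgLib.Tech CfsgLib.Alt4 CfsgLib.AltSyl CfsgLib.NatSyl CfsgLib.Alt.FinP

variable {Ω : Type} [Fintype Ω] [DecidableEq Ω]

theorem qp1_even {σ : Perm Ω} (h : σ ^ 3 = 1) : σ ∈ alternatingGroup Ω := by
  have h1 : Perm.sign σ ^ 3 = 1 := by rw [← map_pow, h, map_one]
  rcases Int.units_eq_one_or (Perm.sign σ) with e | e
  · exact mem_alternatingGroup.2 e
  · rw [e] at h1
    exact absurd h1 (by decide)

theorem qp1_comm {p : Perm Ω} (hp : ∀ y, p (p y) = y) (e : Fin 6 ↪ Ω) (π : Perm (Fin 6))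
    (he : ∀ i, p (e i) = e (π i)) {σ : Perm (Fin 6)} (h : ∀ i, σ (π i) = π (σ i)) :
    Commute (viaEmbeddingHom e σ) p := Equiv.ext fun x => by
  change σ.viaEmbedding e (p x) = p (σ.viaEmbedding e x)
  by_cases hx : x ∈ Set.range e
  · obtain ⟨i, rfl⟩ := hx
    rw [he, viaEmbedding_apply, viaEmbedding_apply, he, h]
  · rw [viaEmbedding_apply_of_notMem _ _ _ hx, viaEmbedding_apply_of_notMem]
    rintro ⟨i, hi⟩
    exact hx ⟨π i, by rw [← he, hi, hp]⟩

theorem q_three {p : Perm Ω} (hp : p * p = 1) (h6 : 6 ≤ p.support.card) {v : alternatingGroup Ω} (hv : Root v)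
    (ha : Ag p v) : ∃ ρ₁ ρ₂ : alternatingGroup Ω, ρ₁ ^ 3 = 1 ∧ ρ₂ ^ 3 = 1 ∧ Commute (ρ₁ : Perm Ω) p ∧
      Commute (ρ₂ : Perm Ω) p ∧ v = ρ₁ * ρ₂ := by
  have pp : ∀ y, p (p y) = y := fun y => congrArg (fun f : Perm Ω => f y) hp
  have h4 : (v : Perm Ω).support.card = 4 := hv.2
  have vp : ∀ x ∈ (v : Perm Ω).support, (v : Perm Ω) x = p x := fun x hx =>
    (ha x).resolve_left (mem_support.1 hx)
  have ps : ∀ x ∈ (v : Perm Ω).support, p x ∈ (v : Perm Ω).support := fun x hx =>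
    vp x hx ▸ apply_mem_support.2 hx
  have pn : ∀ x ∈ (v : Perm Ω).support, p x ≠ x := fun x hx => vp x hx ▸ mem_support.1 hx
  obtain ⟨a, ha1⟩ : (v : Perm Ω).support.Nonempty := Finset.card_pos.1 (by omega)
  obtain ⟨b, hb1, hb2⟩ := Finset.exists_mem_notMem_of_card_lt_card
    (s := {a, p a}) (t := (v : Perm Ω).support) (Finset.card_le_two.trans_lt (by omega))
  obtain ⟨c, hc1, hc2⟩ := Finset.exists_mem_notMem_of_card_lt_card
    (s := (v : Perm Ω).support) (t := p.support) (by omega)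
  have hc3 : p c ∉ (v : Perm Ω).support := fun h => hc2 (pp c ▸ ps _ h)
  simp only [Finset.mem_insert, Finset.mem_singleton, not_or] at hb2
  have n1 := pn a ha1
  have n2 := pn b hb1
  have n3 : p c ≠ c := mem_support.1 hc1
  have n4 : p b ≠ a := fun h => hb2.2 (by rw [← h, pp])
  have n5 : p b ≠ p a := fun h => hb2.1 (p.injective h)
  have m : ∀ x ∈ (v : Perm Ω).support, c ≠ x ∧ p c ≠ x := fun x hx =>
    ⟨fun h => hc2 (h ▸ hx), fun h => hc3 (h ▸ hx)⟩
  obtain ⟨m1, m2⟩ := m a ha1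
  obtain ⟨m3, m4⟩ := m _ (ps a ha1)
  obtain ⟨m5, m6⟩ := m b hb1
  obtain ⟨m7, m8⟩ := m _ (ps b hb1)
  obtain ⟨b1, b2⟩ := hb2
  let e : Fin 6 ↪ Ω := ⟨![a, p a, b, p b, c, p c], fun i j h => by
    fin_cases i <;> fin_cases j <;>
      first | rfl | exact absurd h (by assumption) | exact absurd h.symm (by assumption)⟩
  have hs : (v : Perm Ω).support = {a, p a, b, p b} := by
    refine (Finset.eq_of_subset_of_card_le (fun x hx => ?_) ?_).symm
    · simp only [Finset.mem_insert, Finset.mem_singleton] at hx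
      rcases hx with rfl | rfl | rfl | rfl
      exacts [ha1, ps a ha1, hb1, ps b hb1]
    · rw [h4, Finset.card_eq_four.2 ⟨a, p a, b, p b, n1.symm, Ne.symm b1, n4.symm, Ne.symm b2, n5.symm, n2.symm, rfl⟩]
  let π : Perm (Fin 6) := swap 0 1 * swap 2 3 * swap 4 5
  let ρ : Perm (Fin 6) := swap 0 2 * swap 2 4 * (swap 1 3 * swap 3 5)
  have he : ∀ i, p (e i) = e (π i) := fun i => by
    fin_cases i
    exacts [rfl, pp a, rfl, pp b, rfl, pp c]
  have hv' : (v : Perm Ω) = viaEmbeddingHom e (swap 0 1 * swap 2 3) := Equiv.ext fun x => by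
    change _ = Perm.viaEmbedding _ e x
    by_cases hx : x ∈ Set.range e
    · obtain ⟨i, rfl⟩ := hx
      rw [viaEmbedding_apply]
      fin_cases i
      exacts [vp a ha1, (vp _ (ps a ha1)).trans (pp a), vp b hb1, (vp _ (ps b hb1)).trans (pp b),
        notMem_support.1 hc2, notMem_support.1 hc3]
    · rw [viaEmbedding_apply_of_notMem _ _ _ hx]
      refine notMem_support.1 fun h => hx ?_
      rw [hs] at h
      simp only [Finset.mem_insert, Finset.mem_singleton] at h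
      rcases h with rfl | rfl | rfl | rfl
      exacts [⟨0, rfl⟩, ⟨1, rfl⟩, ⟨2, rfl⟩, ⟨3, rfl⟩]
  have t1 : viaEmbeddingHom e (swap 0 1 * swap 2 3 * ρ) ^ 3 = 1 := by
    rw [← map_pow, show (swap 0 1 * swap 2 3 * ρ) ^ 3 = 1 by decide, map_one]
  have t2 : viaEmbeddingHom e ρ⁻¹ ^ 3 = 1 := by
    rw [← map_pow, show ρ⁻¹ ^ 3 = 1 by decide, map_one]
  refine ⟨⟨_, qp1_even t1⟩, ⟨_, qp1_even t2⟩, Subtype.ext t1, Subtype.ext t2,
    qp1_comm pp e π he (by decide), qp1_comm pp e π he (by decide), Subtype.ext ?_⟩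
  change _ = viaEmbeddingHom e _ * viaEmbeddingHom e _
  rw [← map_mul, mul_inv_cancel_right, hv']

theorem q_ind {p : Perm Ω} (hp : p * p = 1) {Q : alternatingGroup Ω → Prop} (h1 : Q 1)
    (hm : ∀ a b, Q a → Q b → Q (a * b)) (hr : ∀ v, Root v → Ag p v → Q v) {w : alternatingGroup Ω}
    (hw : Ag p w) : Q w := by
  induction hn : W w using Nat.strong_induction_on generalizing w with
  | _ n ih =>
  by_cases h : w = 1
  · exact h ▸ h1
  obtain ⟨s, u, v, z, f, hf, -, rfl⟩ := exists_split (Subtype.ext (hw.sq hp) : w * w = 1) h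
  have d := hf.disj f.su.le
  refine hm _ _ (hr u (four_root f) fun x => ?_) (ih _ (by rw [← hn, f.W_mul hf]; omega) (fun x => ?_) rfl)
  · have := hw x
    rcases d x with e | e
    · exact .inl e
    · rwa [Subgroup.coe_mul, Perm.mul_apply, e] at this
  · have := hw x
    rcases d x with e | e
    · rwa [Subgroup.coe_mul, d.commute.eq, Perm.mul_apply, e] at this
    · exact .inl e

end CfsgLib.ANX
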