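import Cfsg.Agent.Lib.ANX.QG0
import Cfsg.Agent.Lib.ANX.QP1

/-! Row QG1.  q_even: `k = (ι a)⁻¹ x ∈ KK` (`Act.mul_mem_KK`), commutes with `t` and `ι a`; `a² = 1` (`Act.unique`), so `k² = 1`, `F.two`.
q_ex3: `F.aut`, `φᵢ³ = 1` (`Act.pow`, `Act.unique`), so sign 1; `kᵢ = (ι φᵢ)⁻¹ Xᵢ ∈ KK`, `kᵢ³ = 1`; q_even: `X₁ X₂ = t ι(φ₁φ₂)` would give `k₁ k₂ = t`, `k₁ = t k₂⁻¹`, cube: `1 = t`.
q_img: `q_ind` with `Q w := ∃ x, g⁻¹ ι w g = ι x`; roots by `q_three` + q_ex3 with `Xᵢ = g⁻¹ ι ρᵢ g` (commutes with `t` since `ι ρᵢ` commutes with `g t g⁻¹`: `Act.commute`).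
q_notL: `ι a = g t g⁻¹`, q_img for `w = a` gives `t = ι x`, central in `L`, so `x = 1` (`Act.unique`).  q_vw: q_img for `w = p`: `g⁻¹ t g = g⁻¹ (t ι p) g · g⁻¹ ι p g = t ι x` -/

set_option autoImplicit false
set_option linter.unusedSectionVars false

namespace CfsgLib.ANX

open Subgroup Equiv Equiv.Perm Cfsg CfsgLib.Tech CfsgLib.Alt4 CfsgLib.AltSyl CfsgLib.NatSyl CfsgLib.Alt.FinP

universe u

variable {Ω : Type} [Fintype Ω] [DecidableEq Ω] {G : Type u} [Group G] [Finite G]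
  {ι : alternatingGroup Ω →* G} {t g : G} {p p' : alternatingGroup Ω}

theorem qb_five {σ : Perm Ω} (h6 : 6 ≤ σ.support.card) : 5 ≤ Fintype.card Ω :=
  le_trans (by omega) (h6.trans (Finset.card_le_univ _))

theorem qb_kk (F : Fr ι t) : Act ι t 1 := Act.one_iff.2 (mem_centralizer_iff.2 (by
  rintro _ ⟨a, rfl⟩
  exact (F.tC a).symm.eq))

theorem Fr.q_img (F : Fr ι t) {σ : Perm Ω} (h : Ty ι t (g * t * g⁻¹) σ) (h6 : 6 ≤ σ.support.card)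
    {w : alternatingGroup Ω} (hw : Ag σ w) : ∃ x : alternatingGroup Ω, g⁻¹ * ι w * g = ι x := by
  have h5 := qb_five h6
  have hs : σ * σ = 1 := by
    refine Act.unique F.inj h5 (h.ac.mul h.ac) ?_
    rw [show g * t * g⁻¹ * (g * t * g⁻¹) = g * (t * t) * g⁻¹ by group, F.t2]
    simpa using Act.one
  refine q_ind (Q := fun w => ∃ x : alternatingGroup Ω, g⁻¹ * ι w * g = ι x) hs ⟨1, by simp⟩ ?_ ?_ hw
  · rintro a b ⟨x, hx⟩ ⟨y, hy⟩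
    exact ⟨x * y, by rw [map_mul, map_mul, ← hx, ← hy]; group⟩
  · intro v hv ha
    obtain ⟨ρ₁, ρ₂, e1, e2, c1, c2, rfl⟩ := q_three hs h6 hv ha
    have cm : ∀ ρ : alternatingGroup Ω, Commute (ρ : Perm Ω) σ → Commute (g⁻¹ * ι ρ * g) t := fun ρ c => by
      have := (h.ac.commute c.symm).eq
      change g⁻¹ * ι ρ * g * t = t * (g⁻¹ * ι ρ * g)
      calc g⁻¹ * ι ρ * g * t = g⁻¹ * (ι ρ * (g * t * g⁻¹)) * g := by group
        _ = g⁻¹ * (g * t * g⁻¹ * ι ρ) * g := by rw [this]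
        _ = _ := by group
    have cb : ∀ ρ : alternatingGroup Ω, ρ ^ 3 = 1 → (g⁻¹ * ι ρ * g) ^ 3 = 1 := fun ρ e => by
      have : (g⁻¹ * ι ρ * g) ^ 3 = g⁻¹ * ι (ρ ^ 3) * g := by
        rw [map_pow]; simpa using (conj_pow (i := 3) (a := g⁻¹) (b := ι ρ))
      rw [this, e, map_one, mul_one, inv_mul_cancel]
    have pr : g⁻¹ * ι ρ₁ * g * (g⁻¹ * ι ρ₂ * g) = g⁻¹ * ι (ρ₁ * ρ₂) * g := by
      rw [map_mul]; group
    obtain ⟨φ₁, φ₂, -, -, -, -, e⟩ := F.q_ex3 h5 (cm ρ₁ c1) (cm ρ₂ c2) (cb ρ₁ e1) (cb ρ₂ e2) (by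
      rw [pr, show g⁻¹ * ι (ρ₁ * ρ₂) * g * (g⁻¹ * ι (ρ₁ * ρ₂) * g) =
        g⁻¹ * (ι (ρ₁ * ρ₂) * ι (ρ₁ * ρ₂)) * g by group, ← map_mul, hv.1, map_one, mul_one, inv_mul_cancel])
    exact ⟨_, pr ▸ e⟩

theorem qb_ne (F : Fr ι t) (h5 : 5 ≤ Fintype.card Ω) (x : alternatingGroup Ω) : t ≠ ι x := fun e => by
  have h1 : (x : Perm Ω) = 1 := Act.unique F.inj h5 (Act.self x) (e ▸ qb_kk F)
  exact F.t1 (by rw [e, show x = 1 from Subtype.ext h1, map_one])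

theorem Fr.q_notL (F : Fr ι t) {a : alternatingGroup Ω} (h6 : 6 ≤ W a) : ¬ IsConj t (ι a) := by
  intro h
  obtain ⟨g, hg⟩ := isConj_iff.1 h
  obtain ⟨x, hx⟩ := F.q_img (g := g) (σ := a) (hg ▸ ⟨h, (F.tC a).symm, Act.self a⟩) h6 (Ag.self _)
  exact qb_ne F (qb_five h6) x (by rw [← hx, ← hg]; group)

theorem Fr.q_vw (F : Fr ι t) (hp : p * p = 1) (h6 : 6 ≤ W p) (h : IsConj t (t * ι p)) :
    ∃ g p', Vw ι t g p p' ∧ p' ≠ 1 := by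
  obtain ⟨g, hg⟩ := isConj_iff.1 h
  obtain ⟨x, hx⟩ := F.q_img (g := g) (σ := p) (hg ▸ F.q_ty h) h6 (Ag.self _)
  have pp : ι p * ι p = 1 := by rw [← map_mul, hp, map_one]
  refine ⟨g, x, ⟨hp, F.inj ?_, hg, ?_⟩, ?_⟩
  · rw [map_mul, ← hx, map_one, show g⁻¹ * ι p * g * (g⁻¹ * ι p * g) = g⁻¹ * (ι p * ι p) * g by group, pp,
      mul_one, inv_mul_cancel]
  · rw [← hx]
    calc g⁻¹ * t * g = g⁻¹ * (t * (ι p * ι p)) * g := by rw [pp, mul_one]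
      _ = g⁻¹ * (t * ι p) * g * (g⁻¹ * ι p * g) := by group
      _ = _ := by rw [← hg]; group
  · rintro rfl
    have : ι p = ι 1 := by
      rw [map_one] at hx ⊢
      calc ι p = g * (g⁻¹ * ι p * g) * g⁻¹ := by group
        _ = 1 := by rw [hx]; group
    rw [F.inj this] at h6
    simp [W] at h6

end CfsgLib.ANX
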