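import Cfsg.Agent.Lib.ANX.QG1
import Cfsg.Agent.Lib.ANX.QP3

/-! Row QG2.  `s = g t g⁻¹ ≠ t` commutes with `t`, acts as `σ`, `σ² = 1`, `σ ≠ 1` (`F.two`), `|supp σ|` even (`two_dvd_card_support`), not 2, 4.  `q_k3`: for `y ∈ {r, u, r u}`, `q_conj` gives `m σ m⁻¹ = y σ`,
so `ι m s ι m⁻¹ = ι y s` (compute `ι m s ι m⁻¹ s⁻¹ = ι (m · σ m⁻¹ σ⁻¹)`, `Act.eq`), hence `t · g⁻¹ ι y g ~ t` (commuting factors), `Y = g⁻¹ ι y g` commutes with `t`, `Y² = 1`, `Y ≠ 1`.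
The sign is multiplicative, so one of the three `Y` acts as an even `p`; `q_even` for `t Y`: `t Y = ι p` (then `p ≠ 1`, `W p = 4` is `J 4`, `W p ≥ 8` contradicts `q_notL`) or `t Y = t ι p` (`p ≠ 1`, `four_dvd`, `q_ty`) -/

set_option autoImplicit false
set_option linter.unusedSectionVars false

namespace CfsgLib.ANX

open Subgroup Equiv Equiv.Perm Cfsg CfsgLib.Tech CfsgLib.Alt4 CfsgLib.AltSyl CfsgLib.NatSyl CfsgLib.Alt.FinP

universe u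

variable {Ω : Type} [Fintype Ω] [DecidableEq Ω] {G : Type u} [Group G] [Finite G]
  {ι : alternatingGroup Ω →* G} {t g : G} {p p' : alternatingGroup Ω}

theorem Fr.q_evt (F : Fr ι t) (h8 : 8 ≤ Fintype.card Ω) {s : G} {σ : Perm Ω} (h : Ty ι t s σ)
    (h6 : 6 ≤ σ.support.card) (n4 : ¬ J ι t 4) :
    ∃ p : alternatingGroup Ω, p * p = 1 ∧ 8 ≤ W p ∧ IsConj t (t * ι p) := by
  have h5 : 5 ≤ Fintype.card Ω := by omega
  obtain ⟨s2, -⟩ := bj_sq F h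
  have σ2 : σ * σ = 1 := (h.ac.mul h.ac).unique F.inj h5 (s2 ▸ Act.one)
  have σ1 : σ ≠ 1 := fun e => by rw [e, support_one] at h6; simp at h6
  obtain ⟨g, hg⟩ := isConj_iff.1 h.cj
  obtain ⟨r, u, H⟩ := q_k3 σ2 h6 h8
  have cm : ∀ y, y = r ∨ y = u ∨ y = r * u → Commute (g⁻¹ * ι y * g) t := fun y hy => by
    simpa [← hg, mul_assoc] using (h.ac.commute (H y hy).2.2.1.symm).symm.map (MulAut.conj g⁻¹)
  have fin : ∀ y, y = r ∨ y = u ∨ y = r * u → ∀ φ : Perm Ω, sign φ = 1 → Act ι (g⁻¹ * ι y * g) φ →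
      ∃ p : alternatingGroup Ω, p * p = 1 ∧ 8 ≤ W p ∧ IsConj t (t * ι p) := fun y hy φ hφ ha => by
    obtain ⟨y1, y2, c, e⟩ := H y hy
    have c1 := cm y hy
    obtain ⟨p, rfl⟩ : ∃ p : alternatingGroup Ω, (p : Perm Ω) = φ := ⟨⟨φ, mem_alternatingGroup.2 hφ⟩, rfl⟩
    obtain ⟨m, hm⟩ := q_conj σ2 (q := (y : Perm Ω) * σ) (by
      rw [c.symm.mul_mul_mul_comm, σ2, mul_one]; exact congrArg Subtype.val y2) σ1 e.symm
    have e0 : s * ι m⁻¹ * s⁻¹ = ι (m⁻¹ * y) := h.ac.eq (by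
      show σ * (m : Perm Ω)⁻¹ * σ⁻¹ = (m : Perm Ω)⁻¹ * y
      rw [mul_inv_eq_iff_eq_mul, mul_assoc, ← hm]; group)
    have e1 : IsConj t (t * (g⁻¹ * ι y * g)) := isConj_iff.2 ⟨g⁻¹ * ι m * g, by
      rw [map_mul, map_inv] at e0
      calc g⁻¹ * ι m * g * t * (g⁻¹ * ι m * g)⁻¹
          = g⁻¹ * ι m * (g * t * g⁻¹ * (ι m)⁻¹ * (g * t * g⁻¹)⁻¹) * g * t := by group
        _ = _ := by rw [hg, e0, ← c1.eq]; group⟩
    have Y2 : g⁻¹ * ι y * g * (g⁻¹ * ι y * g) = 1 := by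
      calc _ = g⁻¹ * (ι y * ι y) * g := by group
        _ = 1 := by rw [← map_mul, y2]; simp
    have p2 : p * p = 1 := Subtype.ext ((ha.mul ha).unique F.inj h5 (Y2 ▸ Act.one))
    have h4 := four_dvd p2
    have a1 : Act ι (t * (g⁻¹ * ι y * g)) p := by
      simpa using (Act.one_iff.2 (mem_KK.2 F.tC)).mul ha
    rcases F.q_even h5 ((Commute.refl t).mul_left c1) (by
      rw [c1.mul_mul_mul_comm, F.t2, Y2, mul_one]) a1 with e2 | e2 <;> rw [e2] at e1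
    · have p0 : W p ≠ 0 := fun e => by
        rw [W_eq_zero.1 e, map_one, isConj_one_left] at e1
        exact F.t1 e1
      have p4 : W p ≠ 4 := fun e => n4 ⟨_, _, ⟨e1, (F.tC p).symm, Act.self p⟩, e⟩
      exact (F.q_notL (by omega) e1).elim
    · have p0 : W p ≠ 0 := fun e => by
        rw [W_eq_zero.1 e, map_one, mul_right_inj] at e2
        exact y1 (F.inj (by simpa [mul_assoc] using congrArg (fun x => g * x * g⁻¹) e2))
      have p4 : W p ≠ 4 := fun e => n4 ⟨_, _, F.q_ty e1, e⟩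
      exact ⟨p, p2, by omega, e1⟩
  obtain ⟨φ, hφ⟩ := F.aut _ (cm r (.inl rfl))
  obtain ⟨ψ, hψ⟩ := F.aut _ (cm u (.inr (.inl rfl)))
  rcases Int.units_eq_one_or (sign φ) with e1 | e1
  · exact fin r (.inl rfl) φ e1 hφ
  rcases Int.units_eq_one_or (sign ψ) with e2 | e2
  · exact fin u (.inr (.inl rfl)) ψ e2 hψ
  refine fin (r * u) (.inr (.inr rfl)) (φ * ψ) (by simp [e1, e2]) ?_
  simpa [mul_assoc] using hφ.mul hψ

theorem Fr.q_six (F : Fr ι t) (h5 : 5 ≤ Fintype.card Ω) (h : NZ ⊤ t) (n2 : ¬ J ι t 2) (n4 : ¬ J ι t 4) :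
    ∃ s σ, Ty ι t s σ ∧ 6 ≤ σ.support.card := by
  obtain ⟨g, -, c, n⟩ := h
  obtain ⟨σ, a⟩ := F.aut _ c
  have T : Ty ι t (g * t * g⁻¹) σ := ⟨isConj_iff.2 ⟨g, rfl⟩, c, a⟩
  obtain ⟨s2, s1⟩ := bj_sq F T
  have σ2 : σ * σ = 1 := (a.mul a).unique F.inj h5 (s2 ▸ Act.one)
  have σ1 : σ ≠ 1 := fun e => by
    rw [e, Act.one_iff, mem_KK] at a
    exact (F.two _ a c (UFP.pgroup_zpowers_of_sq s2)).elim s1 n
  have e1 := one_lt_card_support_of_ne_one σ1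
  have e2 := two_dvd_card_support (σ := σ) (by rw [pow_two, σ2])
  have e3 : σ.support.card ≠ 2 := fun e => n2 ⟨_, _, T, e⟩
  have e4 : σ.support.card ≠ 4 := fun e => n4 ⟨_, _, T, e⟩
  exact ⟨_, _, T, by omega⟩

end CfsgLib.ANX
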