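import Cfsg.Agent.Lib.ANX.QDefs

/-! Row QP4 (pure permutations).  q_out: `d` fixed by `p`, `e = x d ≠ d` (fixed by `p`), a third fixed point `h`; `m = (d e h)`; evaluate `x m x m⁻¹` at `e`: `x h ≠ e`.
q_ag: let `x a ∉ {a, pa}` (`a` moved by `p` by `hi`), `b = x a`.  `x` permutes the >= 5 blocks `{y, py}`.  If some block `{c, pc}` is `x`-stable take `m = (a b c)(pa pb pc)`;
otherwise there are >= 6 blocks, take `c, d` in two further `x`-orbits of blocks and `m = (a c d)(pa pc pd)`.  `(x m x m⁻¹)² = 1` fails (evaluate at one point; the block of the image is wrong) -/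

set_option autoImplicit false
set_option linter.unusedSectionVars false

namespace CfsgLib.ANX

open Subgroup Equiv Equiv.Perm Cfsg CfsgLib.Tech CfsgLib.Alt4 CfsgLib.AltSyl CfsgLib.NatSyl CfsgLib.Alt.FinP

variable {Ω : Type} [Fintype Ω] [DecidableEq Ω]

theorem q_out {p x : Perm Ω} (hx : x * x = 1) (hc : Commute x p) (h3 : 3 ≤ p.supportᶜ.card) (hn : ¬ In p x) :
    ∃ m : alternatingGroup Ω, m ^ 3 = 1 ∧ Ou p m ∧ Ou p (x * ((m : Perm Ω) * x * (m : Perm Ω)⁻¹)) ∧
      x * ((m : Perm Ω) * x * (m : Perm Ω)⁻¹) ≠ 1 := by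
  have xx : ∀ y, x (x y) = y := fun y => congrArg (fun f : Perm Ω => f y) hx
  have xp : ∀ y, x (p y) = p (x y) := fun y => congrArg (fun f : Perm Ω => f y) hc.eq
  obtain ⟨d, hd⟩ := not_forall.1 hn
  obtain ⟨pd, xd⟩ := Classical.not_imp.1 hd
  have pe : p (x d) = x d := by rw [← xp, pd]
  obtain ⟨h, h1, h2⟩ := Finset.exists_mem_notMem_of_card_lt_card (s := {d, x d})
    (t := p.supportᶜ) (Finset.card_le_two.trans_lt (by omega))
  simp only [Finset.mem_compl, mem_support, not_not] at h1
  simp only [Finset.mem_insert, Finset.mem_singleton, not_or] at h2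
  have o : Ou p (swap d (x d) * swap (x d) h) := fun y hy => by
    simp only [Perm.mul_apply, swap_apply_def]; grind
  refine ⟨⟨swap d (x d) * swap (x d) h, mem_alternatingGroup.2 (by
    rw [map_mul, sign_swap (Ne.symm xd), sign_swap (Ne.symm h2.2)]; simp)⟩, Subtype.ext ?_, o,
    fun y hy => ?_, fun e => ?_⟩
  · ext y
    simp only [Subgroup.coe_pow, pow_succ, pow_zero, one_mul, Subgroup.coe_mul, Perm.mul_apply,
      swap_apply_def, Subgroup.coe_one, Perm.one_apply]
    grind
  · have h3 : p (x y) ≠ x y := fun e => hy (by rw [← xp] at e; exact x.injective e)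
    change x ((swap d (x d) * swap (x d) h) (x ((swap d (x d) * swap (x d) h)⁻¹ y))) = y
    rw [show (swap d (x d) * swap (x d) h)⁻¹ y = y from Perm.inv_eq_iff_eq.2 (o y hy).symm, o _ h3, xx]
  · have := congrArg (fun f : Perm Ω => f (x d)) e
    change x ((swap d (x d) * swap (x d) h) (x ((swap d (x d) * swap (x d) h)⁻¹ (x d)))) = x d at this
    rw [show (swap d (x d) * swap (x d) h)⁻¹ (x d) = d from Perm.inv_eq_iff_eq.2 (by
      simp only [Perm.mul_apply, swap_apply_def]; grind)] at this
    have := x.injective this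
    simp only [Perm.mul_apply, swap_apply_def] at this
    grind

theorem qp4_sw {p : Perm Ω} (hp : p * p = 1) {u v : Ω} (hu : p u ≠ u) (hv : p v ≠ v) (uv : u ≠ v)
    (h : v ≠ p u) : Commute (swap u v * swap (p u) (p v)) p ∧ sign (swap u v * swap (p u) (p v)) = 1 := by
  have pp : ∀ y, p (p y) = y := fun y => congrArg (fun f : Perm Ω => f y) hp
  have pi : ∀ y z, p y = p z → y = z := fun _ _ e => p.injective e
  refine ⟨Equiv.ext fun y => ?_, by rw [map_mul, sign_swap uv, sign_swap (p.injective.ne uv)]; simp⟩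
  simp only [Perm.mul_apply, swap_apply_def]
  have := pp y
  have := pp u
  have := pp v
  grind

theorem qp4_new {p : Perm Ω} (h10 : 10 ≤ p.support.card) (l : List Ω) (hl : l.length < 10) :
    ∃ y, p y ≠ y ∧ y ∉ l := by
  obtain ⟨y, h1, hy⟩ := Finset.exists_mem_notMem_of_card_lt_card (s := l.toFinset)
    (t := p.support) ((List.toFinset_card_le l).trans_lt (by omega))
  exact ⟨y, mem_support.1 h1, by simpa using hy⟩

theorem q_ag {p x : Perm Ω} (hp : p * p = 1) (h10 : 10 ≤ p.support.card) (hx : x * x = 1) (hc : Commute x p)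
    (hi : In p x) (h : ∀ m : alternatingGroup Ω, Commute (m : Perm Ω) p →
      Commute x ((m : Perm Ω) * x * (m : Perm Ω)⁻¹)) : Ag p x := by
  have pp : ∀ y, p (p y) = y := fun y => congrArg (fun f : Perm Ω => f y) hp
  have xx : ∀ y, x (x y) = y := fun y => congrArg (fun f : Perm Ω => f y) hx
  have xp : ∀ y, x (p y) = p (x y) := fun y => congrArg (fun f : Perm Ω => f y) hc.eq
  intro a
  by_contra hn
  rw [not_or] at hn
  obtain ⟨n1, n2⟩ := hn
  have pa : p a ≠ a := fun e => n1 (hi a e)
  have key : ∀ (m : Perm Ω) (c : Ω), Commute m p → sign m = 1 → m a = a → m (x a) = c → m c = x a →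
      m (x c) = x c := fun m c h1 h2 h3 h4 h5 => by
    have := congrArg (fun f : Perm Ω => f a) (h ⟨m, mem_alternatingGroup.2 h2⟩ h1).eq
    simp only [Perm.mul_apply] at this
    rw [show m⁻¹ a = a from Perm.inv_eq_iff_eq.2 h3.symm,
      show m⁻¹ (x a) = c from Perm.inv_eq_iff_eq.2 h5.symm, h4] at this
    exact this.symm
  obtain ⟨c, pc, hc'⟩ := qp4_new h10 [a, p a, x a, p (x a)] (by simp)
  obtain ⟨e, pe, he⟩ := qp4_new h10 [a, p a, x a, p (x a), c, p c, x c, p (x c)] (by simp)
  simp only [List.mem_cons, List.not_mem_nil, or_false, not_or] at hc' he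
  have a1 := pp a
  have a2 := pp (x a)
  have a3 := pp c
  have a4 := pp (x c)
  have a5 := pp e
  have b1 := xx a
  have b2 := xx c
  have b3 := xp a
  have b4 := xp (x a)
  have b5 := xp c
  have b6 := xp (x c)
  have pb : p (x a) ≠ x a := by grind
  have pd : p (x c) ≠ x c := by grind
  obtain ⟨s1, s2⟩ := qp4_sw hp pb pc (Ne.symm hc'.2.2.1) hc'.2.2.2
  by_cases hd : x c = c ∨ x c = p c
  · have := key _ c s1 s2 (by simp only [Perm.mul_apply, swap_apply_def]; grind)
      (by simp only [Perm.mul_apply, swap_apply_def]; grind)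
      (by simp only [Perm.mul_apply, swap_apply_def]; grind)
    simp only [Perm.mul_apply, swap_apply_def] at this
    grind
  · obtain ⟨s3, s4⟩ := qp4_sw hp pd pe (Ne.symm he.2.2.2.2.2.2.1) he.2.2.2.2.2.2.2
    have := key _ c (s1.mul_left s3) (by rw [map_mul, s2, s4, mul_one])
      (by simp only [Perm.mul_apply, swap_apply_def]; grind)
      (by simp only [Perm.mul_apply, swap_apply_def]; grind)
      (by simp only [Perm.mul_apply, swap_apply_def]; grind)
    simp only [Perm.mul_apply, swap_apply_def] at this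
    grind

end CfsgLib.ANX
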