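import Cfsg.Agent.Lib.ANX.QP5b

/-! Row QP5 (pure permutations).  q_a4: `4 ∣ W v` (`four_dvd`, `Ag.sq`), so `supp v` or `supp p \ supp v` (both `p`-stable) has >= 8 points: four blocks `a b c d` on which `v` is `p` resp. `1`;
`ρ₁ = (a b c)(pa pb pc)`, `ρ₂ = ρ₁⁻¹ y`, `y = (a b)(c d)(pa pb)(pc pd)`; `supp (y p) = supp p`.
q_gen: `e = p`, or a block `a` moved and a block `b` fixed by `e`: `r = (a b)(pa pb)`, `e · r e r⁻¹ = (a pa)(b pb)`; all such roots are conjugate under elements `r` (or: `Q` of `(a pa)(c pc)` for all `c`, then products); finish with `q_ind` -/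

set_option autoImplicit false
set_option linter.unusedSectionVars false

namespace CfsgLib.ANX

open Subgroup Equiv Equiv.Perm Cfsg CfsgLib.Tech CfsgLib.Alt4 CfsgLib.AltSyl CfsgLib.NatSyl CfsgLib.Alt.FinP

variable {Ω : Type} [Fintype Ω] [DecidableEq Ω]

theorem q5_blocks {p : Perm Ω} (hp : p * p = 1) {S : Finset Ω} (hS : ∀ x ∈ S, p x ∈ S ∧ p x ≠ x)
    {n : ℕ} (hn : 2 * n ≤ S.card) :
    ∃ f : Fin n × Bool ↪ Ω, (∀ x, f x ∈ S) ∧ ∀ x, p (f x) = f (x.1, !x.2) := by
  have pp : ∀ y, p (p y) = y := fun y => congrArg (fun f : Perm Ω => f y) hp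
  let r := Fintype.equivFin Ω
  let T := S.filter fun x => r x < r (p x)
  have hT : n ≤ T.card := by
    have h1 : S ⊆ T ∪ T.image p := fun x hx => by
      rcases lt_or_gt_of_ne (r.injective.ne (hS x hx).2) with h | h
      · exact Finset.mem_union_right _ (Finset.mem_image.2
          ⟨p x, Finset.mem_filter.2 ⟨(hS x hx).1, by rwa [pp]⟩, pp x⟩)
      · exact Finset.mem_union_left _ (Finset.mem_filter.2 ⟨hx, h⟩)
    have h2 := (Finset.card_le_card h1).trans (Finset.card_union_le _ _)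
    have h3 := Finset.card_image_le (s := T) (f := p)
    omega
  obtain ⟨g⟩ : Nonempty (Fin n ↪ T) := Function.Embedding.nonempty_of_card_le (by simpa using hT)
  have m : ∀ i, (g i : Ω) ∈ S ∧ r (g i) < r (p (g i)) := fun i => Finset.mem_filter.1 (g i).2
  have k : ∀ i j, (g i : Ω) ≠ p (g j) := fun i j e => by
    have h1 := (m i).2
    have h2 := (m j).2
    rw [e, pp] at h1
    exact lt_asymm h1 h2
  refine ⟨⟨fun x => cond x.2 (p (g x.1)) (g x.1), ?_⟩, ?_, ?_⟩
  · rintro ⟨i, _ | _⟩ ⟨j, _ | _⟩ e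
    · exact Prod.ext (g.injective (Subtype.ext e)) rfl
    · exact (k i j e).elim
    · exact (k j i e.symm).elim
    · exact Prod.ext (g.injective (Subtype.ext (p.injective e))) rfl
  · rintro ⟨i, _ | _⟩
    exacts [(m i).1, (hS _ (m i).1).1]
  · rintro ⟨i, _ | _⟩
    exacts [rfl, pp _]

theorem q5_out {β : Type} {f : β ↪ Ω} {u : Perm Ω} {μ : β → β} (hμ : ∀ y, μ (μ y) = y)
    (h : ∀ x, u (f x) = f (μ x)) {x : Ω} (hx : x ∉ Set.range f) : u x ∉ Set.range f := by
  rintro ⟨y, e⟩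
  exact hx ⟨μ y, u.injective (by rw [h, hμ, e])⟩

theorem q5_comm {β : Type} {f : β ↪ Ω} {u : Perm Ω} {μ : β → β} (hμ : ∀ y, μ (μ y) = y)
    (h : ∀ x, u (f x) = f (μ x)) {e : Perm β} (he : ∀ x, e (μ x) = μ (e x)) :
    Commute (e.viaEmbedding f) u := Equiv.ext fun x => by
  change e.viaEmbedding f (u x) = u (e.viaEmbedding f x)
  by_cases hx : x ∈ Set.range f
  · obtain ⟨y, rfl⟩ := hx
    rw [h, viaEmbedding_apply, viaEmbedding_apply, h, he]
  · rw [viaEmbedding_apply_of_notMem _ _ _ hx, viaEmbedding_apply_of_notMem _ _ _ (q5_out hμ h hx)]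

theorem q5_even {ρ : Perm Ω} (h : ρ ^ 3 = 1) : ρ ∈ alternatingGroup Ω := by
  have := congrArg sign h
  rw [map_pow, map_one] at this
  rcases Int.units_eq_one_or (sign ρ) with e | e
  · exact e
  · rw [e] at this; exact absurd this (by decide)


theorem q_a4 {p : Perm Ω} (hp : p * p = 1) (h12 : 12 ≤ p.support.card) {v : alternatingGroup Ω} (hv : Ag p v) :
    ∃ ρ₁ ρ₂ : alternatingGroup Ω, ρ₁ ^ 3 = 1 ∧ ρ₂ ^ 3 = 1 ∧ Commute (ρ₁ : Perm Ω) p ∧ Commute (ρ₂ : Perm Ω) p ∧
      Commute ρ₁ v ∧ Commute ρ₂ v ∧ ρ₁ * ρ₂ * (ρ₁ * ρ₂) = 1 ∧ ρ₁ * ρ₂ ≠ 1 ∧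
      In p (ρ₁ * ρ₂ : alternatingGroup Ω) ∧
      (((ρ₁ * ρ₂ : alternatingGroup Ω) : Perm Ω) * p).support.card = p.support.card := by
  have pp : ∀ y, p (p y) = y := fun y => congrArg (fun f : Perm Ω => f y) hp
  have vp : ∀ y, (v : Perm Ω) (p y) = p ((v : Perm Ω) y) := fun y =>
    congrArg (fun f : Perm Ω => f y) (hv.comm hp).eq
  have h4 : 4 ∣ (v : Perm Ω).support.card := four_dvd (Subtype.ext (hv.sq hp))
  obtain ⟨S, hS, h8, hc⟩ : ∃ S : Finset Ω, (∀ x ∈ S, p x ∈ S ∧ p x ≠ x) ∧ 2 * 4 ≤ S.card ∧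
      ((∀ x ∈ S, (v : Perm Ω) x = p x) ∨ ∀ x ∈ S, (v : Perm Ω) x = x) := by
    by_cases h : 8 ≤ (v : Perm Ω).support.card
    · have k : ∀ x ∈ (v : Perm Ω).support, (v : Perm Ω) x = p x := fun x hx =>
        (hv x).resolve_left (mem_support.1 hx)
      refine ⟨_, fun x hx => ⟨mem_support.2 ?_, k x hx ▸ mem_support.1 hx⟩, h, .inl k⟩
      rw [vp]; exact p.injective.ne (mem_support.1 hx)
    · refine ⟨p.support \ (v : Perm Ω).support, fun x hx => ?_, ?_,
        .inr fun x hx => notMem_support.1 (Finset.mem_sdiff.1 hx).2⟩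
      · obtain ⟨h1, h2⟩ := Finset.mem_sdiff.1 hx
        exact ⟨Finset.mem_sdiff.2 ⟨apply_mem_support.2 h1,
          notMem_support.2 (by rw [vp, notMem_support.1 h2])⟩, mem_support.1 h1⟩
      · have := Finset.le_card_sdiff (v : Perm Ω).support p.support
        omega
  obtain ⟨f, f1, f2⟩ := q5_blocks hp hS h8
  let K : Perm (Fin 4) →* Perm Ω := (viaEmbeddingHom f).comp
    (MonoidHom.mk' (fun σ => Equiv.prodCongr σ (Equiv.refl Bool)) fun _ _ => rfl)
  have Ka : ∀ σ x, K σ (f x) = f (σ x.1, x.2) := fun σ x => viaEmbedding_apply _ f x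
  have Kn : ∀ σ, ∀ x ∉ Set.range f, K σ x = x := fun σ x hx => viaEmbedding_apply_of_notMem _ f x hx
  have nn : ∀ y : Fin 4 × Bool, ((y.1, !y.2).1, !(y.1, !y.2).2) = y := fun y => by simp
  have Kp : ∀ σ, Commute (K σ) p := fun σ =>
    q5_comm (μ := fun y => (y.1, !y.2)) nn f2 fun _ => rfl
  have Kv : ∀ σ, Commute (K σ) v := fun σ => by
    rcases hc with e | e
    · exact q5_comm (μ := fun y => (y.1, !y.2)) nn (fun x => (e _ (f1 x)).trans (f2 x)) fun _ => rfl
    · exact q5_comm (μ := id) (fun _ => rfl) (fun x => e _ (f1 x)) fun _ => rfl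
  let c : Perm (Fin 4) := swap 0 1 * swap 1 2
  let ν : Perm (Fin 4) := swap 0 1 * swap 2 3
  have c3 : K c ^ 3 = 1 := by rw [← map_pow, show c ^ 3 = 1 by decide, map_one]
  have d3 : K (c⁻¹ * ν) ^ 3 = 1 := by rw [← map_pow, show (c⁻¹ * ν) ^ 3 = 1 by decide, map_one]
  have y : ((⟨_, q5_even c3⟩ * ⟨_, q5_even d3⟩ : alternatingGroup Ω) : Perm Ω) = K ν := by
    rw [Subgroup.coe_mul, ← map_mul, mul_inv_cancel_left]
  refine ⟨⟨_, q5_even c3⟩, ⟨_, q5_even d3⟩, Subtype.ext c3, Subtype.ext d3, Kp _, Kp _,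
    Subtype.ext (Kv _).eq, Subtype.ext (Kv _).eq, Subtype.ext ?_, fun e => ?_, ?_, ?_⟩
  · rw [Subgroup.coe_mul, y, ← map_mul, show ν * ν = 1 by decide, map_one]; rfl
  · have := Ka ν (0, false)
    rw [← y, e] at this
    exact absurd (f.injective this) (by decide)
  · rw [y]
    exact fun x hx => Kn _ x fun ⟨z, e⟩ => (hS _ (f1 z)).2 (e ▸ hx)
  · rw [y]
    congr 1
    ext x
    rw [mem_support, mem_support, Perm.mul_apply]
    by_cases hx : x ∈ Set.range f
    · obtain ⟨z, rfl⟩ := hx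
      refine iff_of_true ?_ (hS _ (f1 z)).2
      rw [f2, Ka]
      exact fun e => by simpa using congrArg Prod.snd (f.injective e)
    · rw [Kn _ _ (q5_out nn f2 hx)]

theorem q_gen {p : alternatingGroup Ω} (hp : p * p = 1) {Q : alternatingGroup Ω → Prop} (h1 : Q 1)
    (hm : ∀ a b, Q a → Q b → Q (a * b)) (hc : ∀ m a, Commute m p → Q a → Q (m * a * m⁻¹))
    {e : alternatingGroup Ω} (he : Ag (p : Perm Ω) e) (h0 : e ≠ 1) (hQ : Q e) : Q p := by
  exact qb_gen hp h1 hm hc he h0 hQ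

theorem q_cnt {p y : Perm Ω} {x : alternatingGroup Ω} (hy : In p y) (hx : Root x) (ha : Ag p x) (ho : Ou x y) :
    y.support.card + 4 ≤ p.support.card := by
  have h1 : y.support ∪ (x : Perm Ω).support ⊆ p.support := fun z hz => mem_support.2 fun e => by
    rcases Finset.mem_union.1 hz with h | h
    exacts [mem_support.1 h (hy z e), mem_support.1 h (ha.in z e)]
  have h2 : Disjoint y.support (x : Perm Ω).support :=
    Finset.disjoint_left.2 fun z h h' => mem_support.1 h (ho z (mem_support.1 h'))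
  have h3 := Finset.card_le_card h1
  rw [Finset.card_union_of_disjoint h2] at h3
  have h4 : (x : Perm Ω).support.card = 4 := hx.2
  omega

theorem q_root {p : Perm Ω} (hp : p * p = 1) (h4 : 4 ≤ p.support.card) :
    ∃ x : alternatingGroup Ω, Root x ∧ Ag p x := by
  obtain ⟨f, -, f2⟩ := q5_blocks hp (S := p.support)
    (fun x hx => ⟨apply_mem_support.2 hx, mem_support.1 hx⟩) (n := 2) h4
  have n : ∀ x y, x ≠ y → f x ≠ f y := fun x y h => f.injective.ne h
  have ab := n (0, false) (0, true) (by decide)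
  have ac := n (0, false) (1, false) (by decide)
  have ad := n (0, false) (1, true) (by decide)
  have bc := n (0, true) (1, false) (by decide)
  have bd := n (0, true) (1, true) (by decide)
  have cd := n (1, false) (1, true) (by decide)
  obtain ⟨u, w, h, e⟩ := exists_four' ab ac ad bc bd cd
  refine ⟨u, four_root h, fun x => ?_⟩
  rw [e, Perm.mul_apply]
  by_cases h1 : x = f (0, false)
  · right; rw [h1, f2, swap_apply_of_ne_of_ne ac ad, swap_apply_left]; rfl
  by_cases h2 : x = f (0, true)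
  · right; rw [h2, f2, swap_apply_of_ne_of_ne bc bd, swap_apply_right]; rfl
  by_cases h3 : x = f (1, false)
  · right; rw [h3, f2, swap_apply_left, swap_apply_of_ne_of_ne ad.symm bd.symm]; rfl
  by_cases h5 : x = f (1, true)
  · right; rw [h5, f2, swap_apply_right, swap_apply_of_ne_of_ne ac.symm bc.symm]; rfl
  · left; rw [swap_apply_of_ne_of_ne h3 h5, swap_apply_of_ne_of_ne h1 h2]

end CfsgLib.ANX
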