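import Cfsg.Agent.Lib.ANX.QG1
import Cfsg.Agent.Lib.ANX.QP2
import Cfsg.Agent.Lib.ANX.QP4
import Cfsg.Agent.Lib.ANX.QP5

/-! Row QG3.  q_nrm: for `m` commuting with `p'`, `g ι m g⁻¹` acts as `ψ` commuting with `p` (`V.symm.q_act`), `w = ψ v ψ⁻¹` (`Act.eq`-style: `conjNormal`, `Ag.conj`).
q_in: `q_three`, `q_ex3`: `x = φ₁ φ₂`, `φᵢ` commutes with `p'` (`q_act`, `Act.unique`).  At most two fixed points of `p'`: `q_fix_two`.  Otherwise, if `¬ In p' x`: `q_out` gives `m`; `e = v w` (q_nrm) has image `x m x m⁻¹ ≠ 1`, `Ou p'`;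
`q_gen` with `Q a := ∃ x, g⁻¹ ι a g = ι x ∧ Ou p' x` (conjugation: `q_act`, `Ou.conj`) gives `Q p`, so `Ou p' p'` by `q_p`, `p' = 1`, `p = 1`.
q_ou: `φ³ = 1`; `q_fix_all`: a root `v'` of `p'` has `g ι v' g⁻¹ = ι x`, `In p x` (`V.symm.q_in`), commutes with `c` (`in_ou`), so `g⁻¹ ι c g` commutes with `ι v'` (`Act.commute'`) -/

set_option autoImplicit false
set_option linter.unusedSectionVars false

namespace CfsgLib.ANX

open Subgroup Equiv Equiv.Perm Cfsg CfsgLib.Tech CfsgLib.Alt4 CfsgLib.AltSyl CfsgLib.NatSyl CfsgLib.Alt.FinP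

universe u

variable {Ω : Type} [Fintype Ω] [DecidableEq Ω] {G : Type u} [Group G] [Finite G]
  {ι : alternatingGroup Ω →* G} {t g : G} {p p' : alternatingGroup Ω}

theorem Vw.q_nrm (F : Fr ι t) (V : Vw ι t g p p') {v x m : alternatingGroup Ω} (hv : Ag (p : Perm Ω) v)
    (e : g⁻¹ * ι v * g = ι x) (hm : Commute m p') :
    ∃ w : alternatingGroup Ω, Ag (p : Perm Ω) w ∧ g⁻¹ * ι w * g = ι (m * x * m⁻¹) := by
  obtain ⟨-, φ, hA, hc⟩ := V.symm.q_act F hm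
  refine ⟨MulAut.conjNormal φ v, hv.conj hc, ?_⟩
  rw [← hA v, map_mul, map_mul, map_inv, ← e]
  group

theorem Vw.q_in (F : Fr ι t) (V : Vw ι t g p p') (h8 : 8 ≤ W p) {v : alternatingGroup Ω} (hv : Root v)
    (ha : Ag (p : Perm Ω) v) : ∃ x : alternatingGroup Ω, g⁻¹ * ι v * g = ι x ∧ In (p' : Perm Ω) x := by
  have h5 : 5 ≤ Fintype.card Ω :=
    le_trans (by omega) (h8.trans (Finset.card_le_univ (p : Perm Ω).support))
  have pp : (p : Perm Ω) * p = 1 := congrArg Subtype.val V.pp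
  obtain ⟨ρ₁, ρ₂, r1, r2, c1, c2, ev⟩ := q_three pp (le_trans (by omega) h8) hv ha
  obtain ⟨t1, ψ₁, A1, d1⟩ := V.q_act F (m := ρ₁) (Subtype.ext c1.eq)
  obtain ⟨t2, ψ₂, A2, d2⟩ := V.q_act F (m := ρ₂) (Subtype.ext c2.eq)
  have ex : g⁻¹ * ι ρ₁ * g * (g⁻¹ * ι ρ₂ * g) = g⁻¹ * ι v * g := by
    rw [ev, map_mul]; group
  have cube : ∀ ρ : alternatingGroup Ω, ρ ^ 3 = 1 → (g⁻¹ * ι ρ * g) ^ 3 = 1 := fun ρ h => by
    have : (g⁻¹ * ι ρ * g) ^ 3 = g⁻¹ * ι ρ ^ 3 * g := by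
      simp only [pow_succ, pow_zero]; group
    rw [this, ← map_pow, h, map_one]; group
  have sq : g⁻¹ * ι v * g * (g⁻¹ * ι v * g) = 1 := by
    have : g⁻¹ * ι v * g * (g⁻¹ * ι v * g) = g⁻¹ * (ι v * ι v) * g := by group
    rw [this, ← map_mul, hv.1, map_one]; group
  obtain ⟨φ₁, φ₂, B1, B2, f1, f2, e⟩ := F.q_ex3 h5 t1 t2 (cube _ r1) (cube _ r2) (by rw [ex]; exact sq)
  rw [ex] at e
  rw [A1.unique F.inj h5 B1] at d1
  rw [A2.unique F.inj h5 B2] at d2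
  refine ⟨φ₁ * φ₂, e, ?_⟩
  by_cases h2 : (p' : Perm Ω).supportᶜ.card ≤ 2
  · have i1 := q_fix_two (congrArg Subtype.val f1) d1 h2
    have i2 := q_fix_two (congrArg Subtype.val f2) d2 h2
    intro y hy
    change (φ₁ : Perm Ω) ((φ₂ : Perm Ω) y) = y
    rw [i2 y hy, i1 y hy]
  by_contra hn
  have xx : φ₁ * φ₂ * (φ₁ * φ₂) = 1 := F.inj (by rw [map_mul, ← e, sq, map_one])
  obtain ⟨m, -, o1, o2, o3⟩ := q_out (p := (p' : Perm Ω)) (x := ((φ₁ * φ₂ : alternatingGroup Ω) : Perm Ω))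
    (congrArg Subtype.val xx) (d1.mul_left d2) (by omega) hn
  obtain ⟨w, hw, ew⟩ := V.q_nrm F ha e (m := m) (Subtype.ext o1.comm.symm.eq)
  have e2 : g⁻¹ * ι (v * w) * g = ι (φ₁ * φ₂ * (m * (φ₁ * φ₂) * m⁻¹)) := by
    rw [map_mul ι (φ₁ * φ₂), ← e, ← ew, map_mul]; group
  have key := q_gen V.pp
    (Q := fun a => ∃ y : alternatingGroup Ω, g⁻¹ * ι a * g = ι y ∧ Ou (p' : Perm Ω) y)
    ⟨1, by simp, fun _ _ => rfl⟩
    (fun a b ⟨y, h1, h2⟩ ⟨z, h3, h4⟩ => ⟨y * z, by rw [map_mul, map_mul, ← h1, ← h3]; group, h2.mul h4⟩)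
    (fun n a hn ⟨y, h1, h2⟩ => by
      obtain ⟨-, φ, hA, hc⟩ := V.q_act F hn
      refine ⟨MulAut.conjNormal φ y, ?_, h2.conj hc⟩
      rw [← hA y, ← h1, map_mul, map_mul, map_inv]
      group)
    (e := v * w) (ha.mul pp hw) (fun h => o3 (by
      rw [h, map_one, mul_one, inv_mul_cancel, ← map_one ι] at e2
      exact congrArg Subtype.val (F.inj e2).symm)) ⟨_, e2, o2⟩
  obtain ⟨y, h1, h2⟩ := key
  have hy : y = p' := F.inj (h1.symm.trans (V.q_p F))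
  rw [hy] at h2 h1
  have p1 : p' = 1 := Subtype.ext (Equiv.ext fun z => by
    by_contra k
    exact k (h2 z k))
  have p0 : p = 1 := F.inj (by
    rw [p1, map_one] at h1
    rw [map_one]
    calc ι p = g * (g⁻¹ * ι p * g) * g⁻¹ := by group
      _ = 1 := by rw [h1]; group)
  rw [W_eq_zero.2 p0] at h8
  omega

theorem Vw.q_ou (F : Fr ι t) (V : Vw ι t g p p') (h8 : 8 ≤ W p') {c : alternatingGroup Ω} (h3 : c ^ 3 = 1)
    (hc : Ou (p : Perm Ω) c) : ∃ φ, Act ι (g⁻¹ * ι c * g) φ ∧ Ou (p' : Perm Ω) φ := by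
  have h5 : 5 ≤ Fintype.card Ω :=
    le_trans (by omega) (h8.trans (Finset.card_le_univ (p' : Perm Ω).support))
  obtain ⟨-, φ, hA, -⟩ := V.q_act F (m := c) (Subtype.ext hc.comm.symm.eq)
  have cube : (g⁻¹ * ι c * g) ^ 3 = 1 := by
    have : (g⁻¹ * ι c * g) ^ 3 = g⁻¹ * ι c ^ 3 * g := by
      simp only [pow_succ, pow_zero]; group
    rw [this, ← map_pow, h3, map_one]; group
  have f3 : φ ^ 3 = 1 := by
    have := hA.pow 3
    rw [cube] at this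
    exact this.unique F.inj h5 Act.one
  refine ⟨φ, hA, q_fix_all (congrArg Subtype.val V.pp') (le_trans (by omega) h8) f3 fun v hv ha => ?_⟩
  obtain ⟨x, e, hx⟩ := V.symm.q_in F h8 hv ha
  have k : Commute (ι c) (ι x) := Commute.map (Subtype.ext (in_ou hx hc).symm.eq : Commute c x) ι
  refine hA.commute' F.inj ?_
  have e' : ι v = g⁻¹ * ι x * g := by rw [← e]; group
  rw [e']
  change _ * _ = _ * _
  calc g⁻¹ * ι c * g * (g⁻¹ * ι x * g) = g⁻¹ * (ι c * ι x) * g := by group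
    _ = g⁻¹ * ι x * g * (g⁻¹ * ι c * g) := by rw [k.eq]; group

end CfsgLib.ANX
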