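import Cfsg.Agent.Lib.ANX.QG3

/-! Row QG5b: a 3-cycle on the fixed points of `p` whose centraliser moves `t`. -/

set_option autoImplicit false
set_option linter.unusedSectionVars false

namespace CfsgLib.ANX

open Subgroup Equiv Equiv.Perm Cfsg CfsgLib.Tech CfsgLib.Alt4 CfsgLib.AltSyl CfsgLib.NatSyl CfsgLib.Alt.FinP

universe u

variable {Ω : Type} [Fintype Ω] [DecidableEq Ω] {G : Type u} [Group G] [Finite G]
  {ι : alternatingGroup Ω →* G} {t g : G} {p p' : alternatingGroup Ω}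

theorem Vw.qb_n3 (F : Fr ι t) (V : Vw ι t g p p') (h8 : W p = 8) (h8' : W p' = 8)
    (h11 : 11 ≤ Fintype.card Ω) : ¬ N3 ι t := by
  intro N
  have pp' : (p' : Perm Ω) * p' = 1 := congrArg Subtype.val V.pp'
  have s8 : (p : Perm Ω).support.card = 8 := h8
  have s8' : (p' : Perm Ω).support.card = 8 := h8'
  obtain ⟨c, hc, oc⟩ := q_cyc (p := (p : Perm Ω)) (by rw [Finset.card_compl]; omega)
  have c3 : c ^ 3 = 1 := Subtype.ext (by
    rw [Subgroup.coe_pow, ← hc.orderOf, pow_orderOf_eq_one]; rfl)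
  obtain ⟨φ, aφ, oφ⟩ := V.q_ou F h8'.ge c3 oc
  obtain ⟨l, il, cl, nl⟩ := q_move pp' (by omega)
  have k1 : Commute (g⁻¹ * ι c * g) (ι l) := aφ.commute (in_ou il oφ).symm
  have k2 : Commute (g * ι l * g⁻¹) (ι c) := by
    have := k1.symm.map (MulAut.conj g)
    simpa [mul_assoc] using this
  have et : t = g * (t * ι p') * g⁻¹ := by rw [← V.h2]; group
  have e : g * ι l * g⁻¹ * t * (g * ι l * g⁻¹)⁻¹ = g * (t * ι (l * p' * l⁻¹)) * g⁻¹ := by
    have : ι l * (t * ι p') * (ι l)⁻¹ = t * ι (l * p' * l⁻¹) := by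
      rw [map_mul, map_mul, map_inv, ← mul_assoc, ← (F.tC l).eq]; group
    rw [← this, ← V.h2]; group
  have cl' : Commute (l * p' * l⁻¹) p' := Subtype.ext cl.eq
  refine N _ hc.card_support ⟨g * ι l * g⁻¹, q_hc hc k2, ?_, ?_⟩
  · have : Commute (t * ι (l * p' * l⁻¹)) (t * ι p') :=
      ((Commute.refl t).mul_right (F.tC _)).mul_left ((F.tC _).symm.mul_right (cl'.map ι))
    have := this.map (MulAut.conj g)
    rw [MulAut.conj_apply, MulAut.conj_apply, ← et] at this
    rwa [e]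
  · rw [e]
    intro k
    have k' : g * (t * ι (l * p' * l⁻¹)) * g⁻¹ = g * (t * ι p') * g⁻¹ := k.trans et
    exact nl (congrArg Subtype.val (F.inj (mul_left_cancel (mul_left_cancel (mul_right_cancel k')))))

end CfsgLib.ANX
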