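import Cfsg.Agent.Lib.A8S.N9QLc

/-! ANX, `ql` core: `CfsgLib.A8S.N9.Fr.qlc` lives in `Lib/A8S/N9QLc`. -/
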