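import Cfsg.Agent.Lib.ANX.QDefs

/-! Row QP4b (pure permutations): `qb_out`. -/

set_option autoImplicit false
set_option linter.unusedSectionVars false

namespace CfsgLib.ANX

open Subgroup Equiv Equiv.Perm Cfsg CfsgLib.Tech CfsgLib.Alt4 CfsgLib.AltSyl CfsgLib.NatSyl CfsgLib.Alt.FinP

variable {Ω : Type} [Fintype Ω] [DecidableEq Ω]

theorem qb_out {p x : Perm Ω} (hx : x * x = 1) (hc : Commute x p) (h3 : 3 ≤ p.supportᶜ.card) (hn : ¬ In p x) :
    ∃ m : alternatingGroup Ω, m ^ 3 = 1 ∧ Ou p m ∧ Ou p (x * ((m : Perm Ω) * x * (m : Perm Ω)⁻¹)) ∧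
      x * ((m : Perm Ω) * x * (m : Perm Ω)⁻¹) ≠ 1 := by
  have xx : ∀ y, x (x y) = y := fun y => congrArg (fun f : Perm Ω => f y) hx
  have xp : ∀ y, x (p y) = p (x y) := fun y => congrArg (fun f : Perm Ω => f y) hc.eq
  obtain ⟨d, hd, hxd⟩ : ∃ d, p d = d ∧ x d ≠ d := by
    by_contra k
    exact hn fun d hd => by_contra fun e => k ⟨d, hd, e⟩
  have he : p (x d) = x d := by rw [← xp, hd]
  obtain ⟨h, hh, hn'⟩ := Finset.exists_mem_notMem_of_card_lt_card (s := {d, x d}) (t := p.supportᶜ)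
    (lt_of_le_of_lt Finset.card_le_two (by omega))
  rw [Finset.mem_compl, Perm.notMem_support] at hh
  simp only [Finset.mem_insert, Finset.mem_singleton, not_or] at hn'
  have c3 : (swap d (x d) * swap (x d) h).IsThreeCycle := by
    rw [swap_comm d]
    exact isThreeCycle_swap_mul_swap_same hxd (Ne.symm hn'.2) (Ne.symm hn'.1)
  have ou : Ou p (swap d (x d) * swap (x d) h) := fun y hy => by
    have y1 : y ≠ d := fun e => hy (e ▸ hd)
    have y2 : y ≠ x d := fun e => hy (e ▸ he)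
    have y3 : y ≠ h := fun e => hy (e ▸ hh)
    rw [Perm.mul_apply, swap_apply_of_ne_of_ne y2 y3, swap_apply_of_ne_of_ne y1 y2]
  refine ⟨⟨_, c3.mem_alternatingGroup⟩, Subtype.ext ?_, ou, fun y hy => ?_, fun e => ?_⟩
  · change (swap d (x d) * swap (x d) h) ^ 3 = 1
    rw [← c3.orderOf, pow_orderOf_eq_one]
  · change x ((swap d (x d) * swap (x d) h) (x ((swap d (x d) * swap (x d) h)⁻¹ y))) = y
    rw [Perm.inv_eq_iff_eq.2 (ou y hy).symm, ou (x y) fun e => hy (x.injective ((xp y).trans e)), xx]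
  · have := congrArg (fun f : Perm Ω => f (x d)) e
    change x ((swap d (x d) * swap (x d) h) (x ((swap d (x d) * swap (x d) h)⁻¹ (x d)))) = x d at this
    have e1 : (swap d (x d) * swap (x d) h)⁻¹ (x d) = d := Perm.inv_eq_iff_eq.2 (by
      rw [Perm.mul_apply, swap_apply_of_ne_of_ne hxd.symm (Ne.symm hn'.1), swap_apply_left])
    rw [e1, Perm.mul_apply, swap_apply_left, swap_apply_of_ne_of_ne hn'.1 hn'.2] at this
    exact hn'.1 (x.injective this)

end CfsgLib.ANX
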