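import Cfsg.Agent.Lib.ANX.QDefs

/-! Row QP5b: `qb_gen`. -/

set_option autoImplicit false
set_option linter.unusedSectionVars false

namespace CfsgLib.ANX

open Subgroup Equiv Equiv.Perm Cfsg CfsgLib.Tech CfsgLib.Alt4 CfsgLib.AltSyl CfsgLib.NatSyl CfsgLib.Alt.FinP

variable {Ω : Type} [Fintype Ω] [DecidableEq Ω]

theorem qp5b_ag {p : Perm Ω} (hp : p * p = 1) (a : Ω) : Ag p (swap a (p a)) := fun x => by
  have pp : ∀ y, p (p y) = y := fun y => congrArg (fun f : Perm Ω => f y) hp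
  by_cases h1 : x = a
  · subst h1; exact .inr (swap_apply_left _ _)
  by_cases h2 : x = p a
  · subst h2; exact .inr (by rw [swap_apply_right, pp])
  exact .inl (swap_apply_of_ne_of_ne h1 h2)

theorem qp5b_comm {p u v : Perm Ω} (hp : p * p = 1) (hu : Ag p u) (hv : Ag p v) : u * v = v * u := by
  have h1 := hu.sq hp
  have h2 := hv.sq hp
  have h3 := (hu.mul hp hv).sq hp
  calc u * v = v * v * (u * v) := by rw [h2, one_mul]
    _ = v * (u * u) * v * (u * v) := by rw [h1, mul_one]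
    _ = v * u * (u * v * (u * v)) := by group
    _ = v * u := by rw [h3, mul_one]

theorem qp5b_conj {p m : Perm Ω} (hm : Commute m p) (a b : Ω) :
    m * swap (p a) (p b) * m⁻¹ = swap (p (m a)) (p (m b)) := by
  have h : ∀ y, m (p y) = p (m y) := fun y => congrArg (fun f : Perm Ω => f y) hm.eq
  rw [← swap_apply_apply, h, h]

theorem qp5b_conj' {p m : Perm Ω} (hm : Commute m p) (a : Ω) :
    m * swap a (p a) * m⁻¹ = swap (m a) (p (m a)) := by
  have h : ∀ y, m (p y) = p (m y) := fun y => congrArg (fun f : Perm Ω => f y) hm.eq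
  rw [← swap_apply_apply, h]

/-- the block exchange -/
theorem qp5b_r {p : Perm Ω} (hp : p * p = 1) {a b : Ω} (ha : p a ≠ a) (hb : p b ≠ b) (h1 : b ≠ a)
    (h2 : b ≠ p a) : ∃ r : Perm Ω, r ∈ alternatingGroup Ω ∧ Commute r p ∧ r a = b ∧
      (∀ x, x ≠ a → x ≠ b → x ≠ p a → x ≠ p b → r x = x) ∧
      ∀ f : Perm Ω, Commute f p → f a = a → f b = b → Commute f r := by
  have pp : ∀ y, p (p y) = y := fun y => congrArg (fun f : Perm Ω => f y) hp
  have h3 : a ≠ p b := fun e => h2 (by rw [e, pp])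
  have hd : Commute (swap a b) (swap (p a) (p b)) := by
    have := swap_apply_apply (swap a b) (p a) (p b)
    rw [swap_apply_of_ne_of_ne ha h2.symm, swap_apply_of_ne_of_ne h3.symm hb] at this
    exact mul_inv_eq_iff_eq_mul.1 this.symm
  have key : ∀ f : Perm Ω, Commute f p → f * (swap a b * swap (p a) (p b)) * f⁻¹ =
      swap (f a) (f b) * swap (p (f a)) (p (f b)) := fun f hf => by
    rw [← qp5b_conj hf, swap_apply_apply f a b]
    simp only [mul_assoc, inv_mul_cancel_left]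
  refine ⟨swap a b * swap (p a) (p b), ?_, ?_, ?_, ?_, ?_⟩
  · rw [mem_alternatingGroup, map_mul, sign_swap h1.symm, sign_swap (p.injective.ne h1.symm)]; simp
  · have := key p (Commute.refl p)
    rw [pp, pp, ← hd.eq] at this
    exact (mul_inv_eq_iff_eq_mul.1 this).symm
  · rw [Perm.mul_apply, swap_apply_of_ne_of_ne ha.symm h3, swap_apply_left]
  · intro x e1 e2 e3 e4
    rw [Perm.mul_apply, swap_apply_of_ne_of_ne e3 e4, swap_apply_of_ne_of_ne e1 e2]
  · intro f hf e1 e2
    have := key f hf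
    rw [e1, e2] at this
    exact mul_inv_eq_iff_eq_mul.1 this

theorem qp5b_ind {p : Perm Ω} (hp : p * p = 1) {Q : Perm Ω → Prop} (h1 : Q 1)
    (hm : ∀ a b, Q a → Q b → Q (a * b))
    (hs : ∀ c d, p c ≠ c → p d ≠ d → Q (swap c (p c) * swap d (p d))) :
    ∀ (n : ℕ) (w : Perm Ω), w.support.card ≤ n → Ag p w → sign w = 1 → Q w := by
  intro n
  induction n with
  | zero =>
    intro w hw _ _
    rw [Nat.le_zero, Finset.card_eq_zero, support_eq_empty_iff] at hw
    exact hw ▸ h1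
  | succ n ih =>
    intro w hw ha hsg
    by_cases h0 : w = 1
    · exact h0 ▸ h1
    obtain ⟨c, hc⟩ : ∃ c, w c ≠ c := by
      by_contra hn
      exact h0 (Equiv.ext fun x => not_not.1 fun e => hn ⟨x, e⟩)
    have ec : w c = p c := (ha c).resolve_left hc
    have hc' : p c ≠ c := ec ▸ hc
    have l1 := card_support_swap_mul hc
    rw [ec] at l1
    have af : Ag p (swap c (p c) * w) := (qp5b_ag hp c).mul hp ha
    have sf : sign (swap c (p c) * w) = -1 := by rw [map_mul, sign_swap hc'.symm, hsg, mul_one]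
    obtain ⟨d, hd⟩ : ∃ d, (swap c (p c) * w) d ≠ d := by
      by_contra hn
      have : swap c (p c) * w = 1 := Equiv.ext fun x => not_not.1 fun e => hn ⟨x, e⟩
      rw [this, map_one] at sf
      exact absurd sf (by decide)
    have ed : (swap c (p c) * w) d = p d := (af d).resolve_left hd
    have hd' : p d ≠ d := ed ▸ hd
    have l2 := card_support_swap_mul hd
    rw [ed] at l2
    have := ih (swap d (p d) * (swap c (p c) * w)) (by omega) ((qp5b_ag hp d).mul hp af)
      (by rw [map_mul, sign_swap hd'.symm, sf]; simp)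
    have e : w = swap c (p c) * swap d (p d) * (swap d (p d) * (swap c (p c) * w)) := by
      rw [mul_assoc, ← mul_assoc (swap d (p d)), swap_mul_self, one_mul, ← mul_assoc, swap_mul_self, one_mul]
    rw [e]
    exact hm _ _ (hs c d hc' hd') this

theorem qp5b_perm {p : Perm Ω} (hp : p * p = 1) (hsg : sign p = 1) {Q : Perm Ω → Prop} (h1 : Q 1)
    (hm : ∀ a b, Q a → Q b → Q (a * b))
    (hc : ∀ m a, m ∈ alternatingGroup Ω → Commute m p → Q a → Q (m * a * m⁻¹))
    {e : Perm Ω} (he : Ag p e) (h0 : e ≠ 1) (hQ : Q e) : Q p := by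
  have pp : ∀ y, p (p y) = y := fun y => congrArg (fun f : Perm Ω => f y) hp
  by_cases hep : e = p
  · exact hep ▸ hQ
  obtain ⟨a, ha⟩ : ∃ a, e a ≠ a := by
    by_contra hn
    exact h0 (Equiv.ext fun x => not_not.1 fun e => hn ⟨x, e⟩)
  obtain ⟨b, hb⟩ : ∃ b, e b ≠ p b := by
    by_contra hn
    exact hep (Equiv.ext fun x => not_not.1 fun e => hn ⟨x, e⟩)
  have ea : e a = p a := (he a).resolve_left ha
  have eb : e b = b := (he b).resolve_right hb
  have ha' : p a ≠ a := ea ▸ ha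
  have hb' : p b ≠ b := fun k => hb (eb.trans k.symm)
  have ecm : ∀ y, e (p y) = p (e y) := fun y => congrArg (fun f : Perm Ω => f y) (he.comm hp).eq
  have ba : b ≠ a := fun k => ha (k ▸ eb)
  have bpa : b ≠ p a := fun k => ha' (by
    have := ecm a
    rw [ea, pp, ← k, eb] at this
    exact k.symm.trans this)
  have sA := qp5b_ag hp a
  have A : Q (swap a (p a) * swap b (p b)) := by
    obtain ⟨r, r1, r2, r3, -, r5⟩ := qp5b_r hp ha' hb' ba bpa
    have af : Ag p (swap a (p a) * e) := sA.mul hp he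
    have cf := r5 _ (af.comm hp) (by rw [Perm.mul_apply, ea, swap_apply_right])
      (by rw [Perm.mul_apply, eb, swap_apply_of_ne_of_ne ba bpa])
    have k := hm _ _ hQ (hc r e r1 r2 hQ)
    generalize hf : swap a (p a) * e = f at af cf
    have ef : e = swap a (p a) * f := by rw [← hf, ← mul_assoc, swap_mul_self, one_mul]
    have e2 : r * e * r⁻¹ = swap b (p b) * f := by
      rw [ef, ← r3, ← qp5b_conj' r2, ← mul_assoc, mul_assoc _ f, mul_assoc _ r⁻¹, cf.inv_right.eq]
    rw [e2, ef, ← qp5b_comm hp af (qp5b_ag hp b), mul_assoc, ← mul_assoc f, af.sq hp, one_mul] at k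
    exact k
  have B : ∀ c, p c ≠ c → Q (swap a (p a) * swap c (p c)) := fun c hc' => by
    by_cases c1 : c = a
    · rw [c1, swap_mul_self]; exact h1
    by_cases c2 : c = p a
    · rw [c2, pp, swap_comm (p a), swap_mul_self]; exact h1
    by_cases c3 : c = b
    · rw [c3]; exact A
    by_cases c4 : c = p b
    · rw [c4, pp, swap_comm (p b)]; exact A
    obtain ⟨r, r1, r2, r3, r4, -⟩ := qp5b_r hp hb' hc' c3 c4
    have k := hc r _ r1 r2 A
    have ra : r a = a := r4 a ba.symm (Ne.symm c1) (fun k => bpa (by rw [k, pp])) fun k => c2 (by rw [k, pp])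
    have e2 : r * (swap a (p a) * swap b (p b)) * r⁻¹ =
        r * swap a (p a) * r⁻¹ * (r * swap b (p b) * r⁻¹) := by group
    rwa [e2, qp5b_conj' r2, qp5b_conj' r2, ra, r3] at k
  refine qp5b_ind hp h1 hm (fun c d hc' hd' => ?_) _ p le_rfl (Ag.self p) hsg
  have k := hm _ _ (B c hc') (B d hd')
  rwa [qp5b_comm hp sA (qp5b_ag hp c), mul_assoc, ← mul_assoc (swap a (p a)), swap_mul_self, one_mul] at k

theorem qb_gen {p : alternatingGroup Ω} (hp : p * p = 1) {Q : alternatingGroup Ω → Prop} (h1 : Q 1)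
    (hm : ∀ a b, Q a → Q b → Q (a * b)) (hc : ∀ m a, Commute m p → Q a → Q (m * a * m⁻¹))
    {e : alternatingGroup Ω} (he : Ag (p : Perm Ω) e) (h0 : e ≠ 1) (hQ : Q e) : Q p := by
  obtain ⟨_, h⟩ := qp5b_perm (p := (p : Perm Ω)) (congrArg Subtype.val hp) (mem_alternatingGroup.1 p.2)
    (Q := fun w => ∃ h : w ∈ alternatingGroup Ω, Q ⟨w, h⟩) ⟨one_mem _, h1⟩
    (fun a b ⟨ha, qa⟩ ⟨hb, qb⟩ => ⟨mul_mem ha hb, hm _ _ qa qb⟩)
    (fun m a h hmp ⟨ha, qa⟩ => ⟨mul_mem (mul_mem h ha) (inv_mem h),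
      hc ⟨m, h⟩ ⟨a, ha⟩ (Subtype.ext hmp.eq) qa⟩)
    he (fun k => h0 (Subtype.ext k)) ⟨e.2, hQ⟩
  exact h

end CfsgLib.ANX
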