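import Cfsg.Agent.Lib.ANX.QDefs

/-! Row QP6b (pure permutations, ten points): `qb_p3`. -/

set_option autoImplicit false
set_option linter.unusedSectionVars false

namespace CfsgLib.ANX

open Subgroup Equiv Equiv.Perm Cfsg CfsgLib.Tech CfsgLib.Alt4 CfsgLib.AltSyl CfsgLib.NatSyl CfsgLib.Alt.FinP

variable {Ω : Type} [Fintype Ω] [DecidableEq Ω]

theorem qp6b_sw {u v : Ω} (uv : u ≠ v) {x : Perm Ω} (c : Commute x (swap u v)) (a : Ω) :
    (x a = u ∨ x a = v) ↔ (a = u ∨ a = v) := by
  have e : x (swap u v a) = swap u v (x a) := congrArg (fun f : Perm Ω => f a) c.eq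
  have k : ∀ b, swap u v b ≠ b ↔ (b = u ∨ b = v) := fun b => by
    rw [← Perm.mem_support, support_swap uv]; simp
  rw [← k, ← k, ← e, Ne, x.injective.eq_iff]

theorem qp6b_fix {φ z : Perm Ω} (h3 : φ ^ 3 = 1) (h4 : z ^ 4 = 1) (c : Commute z φ) {a : Ω}
    (h : φ.SameCycle a (z a)) : z a = a := by
  obtain ⟨i, hi⟩ := h
  have c' : ∀ b, z ((φ ^ i) b) = (φ ^ i) (z b) := fun b =>
    congrArg (fun f : Perm Ω => f b) (c.zpow_right i).eq
  have e3 : (φ ^ i) ^ 3 = 1 := by
    rw [← zpow_natCast, ← zpow_mul, mul_comm, zpow_mul, zpow_natCast, h3, one_zpow]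
  have e4 : z (z (z (z a))) = a := by
    have := congrArg (fun f : Perm Ω => f a) h4
    simpa [pow_succ] using this
  have e5 : (φ ^ i) ((φ ^ i) ((φ ^ i) (z a))) = z a := by
    have := congrArg (fun f : Perm Ω => f (z a)) e3
    simpa [pow_succ] using this
  have e6 : z (z a) = (φ ^ i) (z a) := by rw [← c', hi]
  rw [e6, c', e6, c', c', e6, e5] at e4
  exact e4

theorem qp6b_orb {φ : Perm Ω} (h3 : φ ^ 3 = 1) {b : Ω} (hb : φ b ≠ b) :
    ∃ S : Finset Ω, S.card = 3 ∧ S ⊆ φ.support ∧ ∀ c ∈ S, φ.SameCycle b c := by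
  have e : φ (φ (φ b)) = b := by
    have := congrArg (fun f : Perm Ω => f b) h3
    simpa [pow_succ] using this
  have h1 : φ (φ b) ≠ φ b := fun k => hb (φ.injective k)
  have h2 : φ (φ b) ≠ b := fun k => hb (by rw [k] at e; exact e)
  refine ⟨{b, φ b, φ (φ b)}, Finset.card_eq_three.2 ⟨_, _, _, hb.symm, h2.symm, h1.symm, rfl⟩, ?_, ?_⟩
  · intro c hc
    simp only [Finset.mem_insert, Finset.mem_singleton] at hc
    rcases hc with rfl | rfl | rfl
    · exact Perm.mem_support.2 hb
    · exact Perm.mem_support.2 h1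
    · exact Perm.mem_support.2 fun k => h1 (φ.injective k)
  · intro c hc
    simp only [Finset.mem_insert, Finset.mem_singleton] at hc
    rcases hc with rfl | rfl | rfl
    · exact SameCycle.refl _ _
    · exact (SameCycle.refl _ _).apply_right
    · exact (SameCycle.refl _ _).apply_right.apply_right

theorem qb_p3 (h10 : Fintype.card Ω = 10) {τ φ x : Perm Ω} (hτ : τ.IsSwap) (h3 : φ ^ 3 = 1) (hc : Commute φ τ)
    (h1 : φ ≠ 1) (hn : ¬ φ.IsThreeCycle) (h4 : x ^ 4 = 1) (c1 : Commute x φ) (c2 : Commute x τ) : x * x = 1 := by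
  obtain ⟨u, v, uv, rfl⟩ := hτ
  have : Fact (Nat.Prime 3) := ⟨Nat.prime_three⟩
  have two : ∀ {y : Perm Ω}, Commute y (swap u v) → ∀ a, (a = u ∨ a = v) → y (y a) = a := fun {y} c a ha => by
    have k1 := (qp6b_sw uv c u).2 (.inl rfl)
    have k2 := (qp6b_sw uv c v).2 (.inr rfl)
    have k3 : y u ≠ y v := fun k => uv (y.injective k)
    rcases k1 with k1 | k1 <;> rcases k2 with k2 | k2
    · exact absurd (k1.trans k2.symm) k3
    · rcases ha with rfl | rfl
      · rw [k1, k1]
      · rw [k2, k2]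
    · rcases ha with rfl | rfl
      · rw [k1, k2]
      · rw [k2, k1]
    · exact absurd (k1.trans k2.symm) k3
  have fx : ∀ a, (a = u ∨ a = v) → φ a = a := fun a ha => by
    have e : φ (φ (φ a)) = a := by
      have := congrArg (fun f : Perm Ω => f a) h3
      simpa [pow_succ] using this
    rwa [two hc a ha] at e
  have m := card_compl_support_modEq (p := 3) (n := 1) (σ := φ) (by simpa using h3)
  have s1 : φ.support.card ≠ 0 := fun k => h1 (support_eq_empty_iff.1 (Finset.card_eq_zero.1 k))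
  have s2 : φ.support.card ≠ 3 := fun k => hn (card_support_eq_three_iff.1 k)
  have s3 := Finset.card_add_card_compl φ.support
  have s4 : 2 ≤ φ.supportᶜ.card := by
    rw [← Finset.card_pair uv]
    refine Finset.card_le_card fun a ha => ?_
    simp only [Finset.mem_insert, Finset.mem_singleton] at ha
    simpa using fx a ha
  rw [h10] at m s3
  unfold Nat.ModEq at m
  have s6 : φ.support.card = 6 := by omega
  have s7 : φ.supportᶜ.card = 4 := by omega
  have cx : ∀ b, x (φ b) = φ (x b) := fun b => congrArg (fun f : Perm Ω => f b) c1.eq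
  have mv : ∀ b, φ (x b) = x b ↔ φ b = b := fun b => by rw [← cx, x.injective.eq_iff]
  refine Equiv.ext fun a => ?_
  change x (x a) = a
  by_contra hne
  have n1 : x a ≠ a := fun k => hne (by rw [k, k])
  have n2 : x (x a) ≠ x a := fun k => n1 (x.injective k)
  by_cases ha : φ a = a
  · have a0 : ¬ (a = u ∨ a = v) := fun k => hne (two c2 a k)
    have a1 : ¬ (x a = u ∨ x a = v) := fun k => a0 ((qp6b_sw uv c2 a).1 k)
    have a2 : ¬ (x (x a) = u ∨ x (x a) = v) := fun k => a1 ((qp6b_sw uv c2 _).1 k)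
    have c3 : ({a, x a, x (x a)} : Finset Ω).card = 3 :=
      Finset.card_eq_three.2 ⟨_, _, _, n1.symm, Ne.symm hne, n2.symm, rfl⟩
    have d : Disjoint ({a, x a, x (x a)} : Finset Ω) {u, v} := Finset.disjoint_left.2 fun b hb hb' => by
      simp only [Finset.mem_insert, Finset.mem_singleton] at hb hb'
      rcases hb with rfl | rfl | rfl
      · exact a0 hb'
      · exact a1 hb'
      · exact a2 hb'
    have := Finset.card_le_card (s := ({a, x a, x (x a)} : Finset Ω) ∪ {u, v}) (t := φ.supportᶜ) fun b hb => by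
      simp only [Finset.mem_union, Finset.mem_insert, Finset.mem_singleton] at hb
      have : φ b = b := by
        rcases hb with (rfl | rfl | rfl) | hb
        · exact ha
        · exact (mv _).2 ha
        · exact (mv _).2 ((mv _).2 ha)
        · exact fx b hb
      simpa using this
    rw [Finset.card_union_of_disjoint d, c3, Finset.card_pair uv] at this
    omega
  · have a1 : φ (x a) ≠ x a := fun k => ha ((mv _).1 k)
    have a2 : φ (x (x a)) ≠ x (x a) := fun k => a1 ((mv _).1 k)
    obtain ⟨S0, p0, q0, r0⟩ := qp6b_orb h3 ha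
    obtain ⟨S1, p1, q1, r1⟩ := qp6b_orb h3 a1
    obtain ⟨S2, p2, q2, r2⟩ := qp6b_orb h3 a2
    have d01 : Disjoint S0 S1 := Finset.disjoint_left.2 fun b h h' =>
      n1 (qp6b_fix h3 h4 c1 ((r0 b h).trans (r1 b h').symm))
    have d12 : Disjoint S1 S2 := Finset.disjoint_left.2 fun b h h' =>
      n2 (qp6b_fix h3 h4 c1 ((r1 b h).trans (r2 b h').symm))
    have d02 : Disjoint S0 S2 := Finset.disjoint_left.2 fun b h h' =>
      hne (qp6b_fix (z := x * x) h3 (by rw [← pow_two, ← pow_mul, mul_comm, pow_mul, h4, one_pow])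
        (c1.mul_left c1) ((r0 b h).trans (r2 b h').symm))
    have := Finset.card_le_card (Finset.union_subset (Finset.union_subset q0 q1) q2)
    rw [Finset.card_union_of_disjoint (Finset.disjoint_union_left.2 ⟨d02, d12⟩),
      Finset.card_union_of_disjoint d01] at this
    omega

end CfsgLib.ANX
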