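import Cfsg.Agent.Lib.ANX.QTenP
import Cfsg.Agent.Lib.ANX.QNc
import Cfsg.Agent.Lib.AltSyl.Dec

/-! Part Q, `n = 10`, some element of `C(t)` is odd on `L`. -/

set_option autoImplicit false
set_option linter.unusedSectionVars false

namespace CfsgLib.ANX

open Subgroup Equiv Equiv.Perm Cfsg CfsgLib.Tech CfsgLib.Alt4 CfsgLib.AltSyl CfsgLib.NatSyl

universe u

variable {Ω : Type} [Fintype Ω] [DecidableEq Ω] {G : Type u} [Group G] [Finite G]
  {ι : alternatingGroup Ω →* G} {t : G} {K : Subgroup G}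

/-- the property `N_c` -/
def NC (ι : alternatingGroup Ω →* G) (t : G) : Prop :=
  ∀ c p q, p ≠ q → Commute c t → c * c = 1 → Act ι c (swap p q) → ¬ NZ (centralizer {c}) t

theorem qt_acm (F : Fr ι t) (h5 : 5 ≤ Fintype.card Ω) {x y : G} {σ τ : Perm Ω} (h : Act ι x σ)
    (k : Act ι y τ) (c : Commute x y) : Commute σ τ :=
  (h.mul k).unique F.inj h5 (c.eq ▸ k.mul h)

theorem qt_sq (F : Fr ι t) (h5 : 5 ≤ Fintype.card Ω) {x : G} {σ : Perm Ω} (h : Act ι x σ)
    (k : x * x = 1) : σ * σ = 1 := (h.mul h).unique F.inj h5 (k ▸ Act.one)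

theorem qt_two (F : Fr ι t) {x : G} (h : Act ι x 1) (c : Commute x t) (k : x * x = 1) :
    x = 1 ∨ x = t := F.two x (mem_KK.1 (Act.one_iff.1 h)) c (UFP.pgroup_zpowers_of_sq k)

/-- an odd involution gives an involution acting as a transposition -/
theorem qt_odd (F : Fr ι t) (h5 : 5 ≤ Fintype.card Ω) {s : G} {σ : Perm Ω} (h : Act ι s σ)
    (c : Commute s t) (k : s * s = 1) (o : sign σ ≠ 1) :
    ∃ x p q, p ≠ q ∧ Commute x t ∧ x * x = 1 ∧ Act ι x (swap p q) ∧ Commute x s := by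
  have σ2 := qt_sq F h5 h k
  obtain ⟨p, hp⟩ : ∃ p, σ p ≠ p := by
    by_contra! e
    exact o (by rw [show σ = 1 from Equiv.ext e, Perm.sign_one])
  have b := qt_blk σ2 p
  let a : alternatingGroup Ω := ⟨σ * swap p (σ p), mem_alternatingGroup.2 (by
    simp [(Int.units_eq_one_or _).resolve_left o, hp.symm])⟩
  have c1 : Commute s (ι a) := h.commute ((Commute.refl σ).mul_right b)
  have a2 : ι a * ι a = 1 := by
    rw [← map_mul, show a * a = 1 from Subtype.ext (op_sq σ2 (swap_mul_self _ _) b), map_one]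
  refine ⟨s * ι a, p, σ p, hp.symm, c.mul_left (F.tC a).symm, ?_, ?_,
    (Commute.refl s).mul_left c1.symm⟩
  · rw [c1.symm.mul_mul_mul_comm, k, a2, one_mul]
  · have := h.mul (Act.self a)
    rwa [show σ * (a : Perm Ω) = swap p (σ p) by rw [← mul_assoc, σ2, one_mul]] at this

/-- an element commuting with `t` and with the even action of `s` commutes with `s` -/
theorem qt_ev (F : Fr ι t) (h5 : 5 ≤ Fintype.card Ω) {s x : G} {σ τ : Perm Ω} (h : Act ι s σ)
    (c : Commute s t) (k : s * s = 1) (e : sign σ = 1) (hx : Act ι x τ) (c' : Commute x t)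
    (c2 : Commute τ σ) : Commute x s := by
  let a : alternatingGroup Ω := ⟨σ, mem_alternatingGroup.2 e⟩
  have σ2 := qt_sq F h5 h k
  have c1 : Commute s (ι a) := h.commute (Commute.refl σ)
  have a2 : ι a * ι a = 1 := by rw [← map_mul, show a * a = 1 from Subtype.ext σ2, map_one]
  have c3 : Commute x (ι a) := hx.commute c2
  have e1 : s = s * ι a * ι a := by rw [mul_assoc, a2, mul_one]
  rw [e1]
  refine Commute.mul_right ?_ c3
  rcases qt_two F (x := s * ι a) (σ2 ▸ h.mul (Act.self a)) (c.mul_left (F.tC a).symm)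
    (by rw [c1.symm.mul_mul_mul_comm, k, a2, one_mul]) with f | f <;> rw [f]
  exacts [Commute.one_right x, c']

/-- move the transposition -/
theorem qt_mv {x : G} {p q : Ω} (pq : p ≠ q)
    (h : Act ι x (swap p q)) {u v : Ω} (uv : u ≠ v) :
    ∃ a, Act ι (ι a * x * (ι a)⁻¹) (swap u v) := by
  obtain ⟨a, ha⟩ := bj_even (Φ := {p, q}) (Ψ := {u, v}) (by
    rw [Finset.card_pair pq, Finset.card_pair uv]) (by rw [Finset.card_pair uv])
  refine ⟨a, ?_⟩
  have h1 := ha p (by simp)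
  have h2 := ha q (by simp)
  have n : (a : Perm Ω) p ≠ (a : Perm Ω) q := fun f => pq ((a : Perm Ω).injective f)
  simp only [Finset.mem_insert, Finset.mem_singleton] at h1 h2
  rw [← op_cs (a : Perm Ω) (a := p) (b := q) (by
    rcases h1 with h1 | h1 <;> rcases h2 with h2 | h2
    exacts [(n (h1.trans h2.symm)).elim, .inl ⟨h1, h2⟩, .inr ⟨h1, h2⟩, (n (h1.trans h2.symm)).elim])]
  exact ((Act.self a).mul h).mul (Act.self a).inv

theorem qt_b1 (F : Fr ι t) (h10 : Fintype.card Ω = 10) (N : NC ι t) {g : G} {σ : Perm Ω}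
    (h : Ty ι t (g * t * g⁻¹) σ) (h6 : 6 ≤ σ.support.card) (h8 : σ.support.card ≤ 8) {x : G} {p q : Ω}
    (pq : p ≠ q) (c : Commute x t) (k : x * x = 1) (ha : Act ι x (swap p q))
    (c' : Commute x (g⁻¹ * t * g)) : False := by
  have h5 : 5 ≤ Fintype.card Ω := by omega
  have c1 : Commute (g * x * g⁻¹) t := by
    simpa [mul_assoc] using c'.map (MulAut.conj g)
  obtain ⟨ξ, hξ⟩ := F.aut _ c1
  have s2 := (bj_sq F h).1
  obtain ⟨l, h1, h2, h3⟩ := qt_pb (qt_sq F h5 h.ac s2) (qt_sq F h5 hξ (by rw [conj_mul, k]; simp))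
    (qt_acm F h5 hξ h.ac (by simpa using c.map (MulAut.conj g))) h6 (by
      rw [Finset.card_compl]; omega)
  let b : alternatingGroup Ω := l * MulAut.conjNormal σ l⁻¹
  have e1 : ι l * (g * t * g⁻¹) * (ι l)⁻¹ = ι b * (g * t * g⁻¹) := by
    rw [map_mul, ← h.ac l⁻¹, map_inv]; group
  have c2 : Commute (g * t * g⁻¹) (ι b) := h.ac.commute h2
  have b1 : ι b ≠ 1 := fun e => h3 (congrArg Subtype.val (F.inj (e.trans (map_one ι).symm)))
  have key : ∀ y, Commute (g * y * g⁻¹) (ι l) → NZ (centralizer {y}) t := fun y hy => by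
    have e2 : g⁻¹ * ι l * g * t * (g⁻¹ * ι l * g)⁻¹ = g⁻¹ * ι b * g * t := by
      calc _ = g⁻¹ * (ι l * (g * t * g⁻¹) * (ι l)⁻¹) * g := by group
        _ = _ := by rw [e1]; group
    refine ⟨g⁻¹ * ι l * g, mem_centralizer_singleton_iff.2 ?_, ?_, ?_⟩
    · simpa [mul_assoc] using (hy.symm.map (MulAut.conj g⁻¹)).eq
    · rw [e2]
      exact Commute.mul_left (by simpa [mul_assoc] using c2.symm.map (MulAut.conj g⁻¹)) (Commute.refl t)
    · rw [e2]
      rw [Ne, mul_eq_right]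
      simpa [mul_assoc, inv_mul_eq_one, eq_comm (a := g)] using b1
  rcases h1 with h1 | h1
  · exact N x p q pq c k ha (key x (hξ.commute h1))
  · refine N (x * t) p q pq (c.mul_left (Commute.refl t)) (by
      rw [c.symm.mul_mul_mul_comm, k, F.t2, one_mul]) ?_ (key _ ?_)
    · simpa using ha.mul (Act.one_iff.2 (mem_KK.2 F.tC))
    · rw [← conj_mul]
      exact (hξ.mul h.ac).commute h1

theorem qt_ten (F : Fr ι t) (h10 : Fintype.card Ω = 10)
    (hodd : ∃ g σ, Commute g t ∧ Act ι g σ ∧ sign σ ≠ 1) (N : NC ι t) (h4 : ¬ J ι t 4)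
    (h : J ι t 6 ∨ J ι t 8) : False := by
  have h5 : 5 ≤ Fintype.card Ω := by omega
  obtain ⟨s, σ, h, hw⟩ : ∃ s σ, Ty ι t s σ ∧ (σ.support.card = 6 ∨ σ.support.card = 8) :=
    h.elim (fun ⟨s, σ, a, b⟩ => ⟨s, σ, a, .inl b⟩) fun ⟨s, σ, a, b⟩ => ⟨s, σ, a, .inr b⟩
  obtain ⟨g, rfl⟩ := isConj_iff.1 h.cj
  have c0 : Commute (g⁻¹ * t * g) t := by simpa [mul_assoc] using h.cm.symm.map (MulAut.conj g⁻¹)
  obtain ⟨σ', h1⟩ := F.aut _ c0
  have h' : Ty ι t (g⁻¹ * t * g) σ' := ⟨isConj_iff.2 ⟨g⁻¹, by rw [inv_inv]⟩, c0, h1⟩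
  obtain ⟨s2, -⟩ := bj_sq F h
  obtain ⟨s2', s1'⟩ := bj_sq F h'
  have σ2 := qt_sq F h5 h.ac s2
  have σ2' := qt_sq F h5 h1 s2'
  have b1 := @qt_b1 _ _ _ _ _ _ _ _ F h10 N g σ h (by omega) (by omega)
  by_cases o' : sign σ' = 1
  swap
  · obtain ⟨x, p, q, pq, c, k, a, c'⟩ := qt_odd F h5 h1 c0 s2' o'
    exact b1 pq c k a c'
  have σ1 : σ' ≠ 1 := fun e => by
    rcases qt_two F (e ▸ h1) c0 s2' with f | f
    · exact s1' f
    · have f' : g * t * g⁻¹ = t := by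
        nth_rw 1 [← f]; group
      have := h.ac.unique F.inj h5 (Act.one_iff.2 (mem_KK.2 (f'.symm ▸ F.tC)))
      rw [this, support_one] at hw
      simp at hw
  by_cases B : ∃ x p q, p ≠ q ∧ Commute x t ∧ x * x = 1 ∧ Act ι x (swap p q)
  · obtain ⟨x, p, q, pq, c, k, a⟩ := B
    obtain ⟨u, hu⟩ : ∃ u, σ' u ≠ u := by
      by_contra! e
      exact σ1 (Equiv.ext e)
    obtain ⟨m, hm⟩ := qt_mv pq a hu.symm
    have c1 : Commute (ι m * x * (ι m)⁻¹) t :=
      ((F.tC m).symm.mul_left c).mul_left (F.tC m).symm.inv_left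
    exact b1 hu.symm c1 (by rw [conj_mul, k]; simp) hm
      (qt_ev F h5 h1 c0 s2' o' hm c1 (qt_blk σ2' u).symm)
  have o : sign σ = 1 := by
    by_contra o
    obtain ⟨x, p, q, pq, c, k, a, -⟩ := qt_odd F h5 h.ac h.cm s2 o
    exact B ⟨x, p, q, pq, c, k, a⟩
  have w : σ.support.card = 8 := by
    have := four_dvd_support (mem_alternatingGroup.2 o) (by rw [sq, σ2])
    omega
  have w' : σ'.support.card = 8 := by
    have f1 := four_dvd_support (mem_alternatingGroup.2 o') (by rw [sq, σ2'])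
    have f2 := one_lt_card_support_of_ne_one σ1
    have f3 : σ'.support.card ≠ 4 := fun e => h4 ⟨_, _, h', e⟩
    have f4 := Finset.card_le_univ σ'.support
    omega
  obtain ⟨p, q, pq, H⟩ := qt_fix (σ := σ') (by rw [Finset.card_compl]; omega)
  obtain ⟨g0, σ0, d1, d2, d3⟩ := hodd
  let a : alternatingGroup Ω := ⟨σ0⁻¹ * swap p q, mem_alternatingGroup.2 (by
    simp [(Int.units_eq_one_or _).resolve_left d3, pq])⟩
  obtain ⟨m, hm, d4⟩ := UFP.exists_two_pow (g0 * ι a)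
  have d5 : Act ι ((g0 * ι a) ^ m) (swap p q) := by
    have := (d2.mul (Act.self a)).pow m
    rw [show σ0 * (a : Perm Ω) = swap p q from mul_inv_cancel_left _ _] at this
    obtain ⟨j, rfl⟩ := hm
    rwa [pow_succ (swap p q), pow_mul, sq, swap_mul_self, one_pow, one_mul] at this
  have d6 : Commute ((g0 * ι a) ^ m) t := (d1.mul_left (F.tC a).symm).pow_left m
  generalize (g0 * ι a) ^ m = b at d4 d5 d6
  have b2 : b * b = t := by
    refine (F.two _ (mem_KK.1 (Act.one_iff.1 (swap_mul_self p q ▸ d5.mul d5))) (d6.mul_left d6) ?_).resolve_left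
      fun e => B ⟨b, p, q, pq, d6, e, d5⟩
    exact d4.to_le (zpowers_le.2 (mul_mem (mem_zpowers b) (mem_zpowers b)))
  have d7 : Commute b (g⁻¹ * t * g) := qt_ev F h5 h1 c0 s2' o' d5 d6 (H σ' (Commute.refl _)).symm
  obtain ⟨ξ, hξ⟩ := F.aut (g * b * g⁻¹) (by simpa [mul_assoc] using d7.map (MulAut.conj g))
  obtain ⟨l, r, l1, l2, l3, l4, l5⟩ := qt_b2 σ2 ((hξ.mul hξ).unique F.inj h5 (by
    rw [conj_mul, b2]; exact h.ac)) (by omega) (by rw [Finset.card_compl]; omega)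
  have l6 : Commute (g⁻¹ * ι l * g) t := by
    simpa [mul_assoc] using (h.ac.commute l1).symm.map (MulAut.conj g⁻¹)
  obtain ⟨ρ, hρ⟩ := F.aut _ l6
  have l7 := H ρ (qt_acm F h5 hρ h1 (by simpa [mul_assoc] using (F.tC l).symm.map (MulAut.conj g⁻¹)))
  have e : g⁻¹ * ι r * g = g⁻¹ * ι l * g * b * (g⁻¹ * ι l * g)⁻¹ * b⁻¹ := by
    rw [show r = l * MulAut.conjNormal ξ l⁻¹ from Subtype.ext l2, map_mul, ← hξ, map_inv]; group
  rcases qt_two F (x := g⁻¹ * ι r * g) (by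
      rw [e, ← mul_inv_cancel (swap p q)]
      nth_rw 1 [← mul_inv_cancel_right (swap p q) ρ, ← l7.eq]
      exact ((hρ.mul d5).mul hρ.inv).mul d5.inv)
    (by rw [e]; exact ((l6.mul_left d6).mul_left l6.inv_left).mul_left d6.inv_left)
    (by rw [show g⁻¹ * ι r * g * (g⁻¹ * ι r * g) = g⁻¹ * ι (r * r) * g by rw [map_mul]; group, l3]
        simp) with f | f
  · exact l4 (F.inj (by simpa [mul_assoc, inv_mul_eq_one, eq_comm (a := g)] using f))
  · exact l5 ((Act.self r).unique F.inj h5 (by rw [show ι r = g * t * g⁻¹ by rw [← f]; group]; exact h.ac))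

theorem q_ten_odd (ql : QL8.{u}) (F : Fr ι t) (h10 : Fintype.card Ω = 10)
    (hodd : ∃ g σ, Commute g t ∧ Act ι g σ ∧ sign σ ≠ 1)
    (N3 : ∀ Φ : Finset Ω, Φ.card = 3 → ¬ NZ (HC ι Φ) t) (h2 : ¬ J ι t 2) (h4 : ¬ J ι t 4)
    (h : J ι t 6 ∨ J ι t 8) : False :=
  qt_ten F h10 hodd (fun _ _ _ pq hc c2 ha => q_nc ql F h10 N3 h2 h4 pq hc c2 ha) h4 h

end CfsgLib.ANX
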