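import Cfsg.Agent.Lib.ANX.OPerm

/-! Part Q, `n = 10` odd case: permutation lemmas. -/

set_option autoImplicit false
set_option linter.unusedSectionVars false

namespace CfsgLib.ANX

open Subgroup Equiv Equiv.Perm

variable {Ω : Type} [Fintype Ω] [DecidableEq Ω]

theorem qt_ap {σ : Perm Ω} (h : σ * σ = 1) (x : Ω) : σ (σ x) = x := by
  rw [← Perm.mul_apply, h, Perm.one_apply]

theorem qt_cm {ρ σ : Perm Ω} (h : Commute ρ σ) (x : Ω) : ρ (σ x) = σ (ρ x) :=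
  congrArg (fun f : Perm Ω => f x) h.eq

theorem qt_sw {ρ : Perm Ω} {p q : Ω} (h : (ρ p = p ∧ ρ q = q) ∨ (ρ p = q ∧ ρ q = p)) :
    Commute ρ (swap p q) := mul_inv_eq_iff_eq_mul.1 (op_cs ρ h)

theorem qt_blk {σ : Perm Ω} (h : σ * σ = 1) (x : Ω) : Commute σ (swap x (σ x)) :=
  qt_sw (.inr ⟨rfl, qt_ap h x⟩)

theorem qt_h {σ m : Perm Ω} (h : σ * σ = 1) {x y : Ω} (xy : x ≠ y) (hx : σ x ≠ x) (hy : σ y ≠ y)
    (e : σ x ≠ y) (hm : Commute σ m) :
    Commute σ (swap x y * m * (σ * (swap x y * m)⁻¹ * σ⁻¹)) ∧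
      swap x y * m * (σ * (swap x y * m)⁻¹ * σ⁻¹) ≠ 1 := by
  have e' : σ y ≠ x := fun k => e (by rw [← k, qt_ap h])
  have e1 : swap x y * m * (σ * (swap x y * m)⁻¹ * σ⁻¹) = swap x y * swap (σ x) (σ y) := by
    rw [swap_apply_apply, mul_inv_rev, swap_inv, ← mul_assoc σ, hm.inv_right.eq]; group
  rw [e1]
  refine ⟨?_, fun k => ?_⟩
  · rw [Commute, SemiconjBy, ← mul_inv_eq_iff_eq_mul, op_c2, qt_ap h, qt_ap h]
    exact (op_sw hx e e' hy).eq
  · have := congrArg (fun f : Perm Ω => f x) k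
    simp only [Perm.mul_apply, swap_apply_of_ne_of_ne hx.symm e'.symm, swap_apply_left, Perm.one_apply] at this
    exact xy this.symm

theorem qt_pb {σ ξ : Perm Ω} (h : σ * σ = 1) (k : ξ * ξ = 1) (c : Commute ξ σ)
    (h6 : 6 ≤ σ.support.card) (h2 : 2 ≤ σ.supportᶜ.card) :
    ∃ l : alternatingGroup Ω, (Commute ξ l ∨ Commute (ξ * σ) l) ∧
      Commute σ (l * (σ * (l : Perm Ω)⁻¹ * σ⁻¹)) ∧ l * (σ * (l : Perm Ω)⁻¹ * σ⁻¹) ≠ 1 := by
  by_cases H : ∃ a, σ a ≠ a ∧ ξ a ≠ a ∧ ξ a ≠ σ a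
  · obtain ⟨a, a1, a2, a3⟩ := H
    obtain ⟨p, q, pq, hp, hq, hc⟩ : ∃ p q, p ≠ q ∧ σ p = p ∧ σ q = q ∧ Commute ξ (swap p q) := by
      by_cases H' : ∃ p, σ p = p ∧ ξ p ≠ p
      · obtain ⟨p, hp, e⟩ := H'
        exact ⟨p, ξ p, e.symm, hp, by rw [← qt_cm c, hp], qt_blk k p⟩
      · push Not at H'
        obtain ⟨p, hp, q, hq, pq⟩ := Finset.one_lt_card.1 h2
        simp only [Finset.mem_compl, mem_support, not_not] at hp hq
        exact ⟨p, q, pq, hp, hq, qt_sw (.inl ⟨H' p hp, H' q hq⟩)⟩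
    exact ⟨⟨swap a (ξ a) * swap p q, op_even a2.symm pq⟩, .inl ((qt_blk k a).mul_right hc),
      qt_h h a2.symm a1 (by rw [← qt_cm c]; exact fun e => a1 (ξ.injective e)) a3.symm
        (qt_sw (.inl ⟨hp, hq⟩))⟩
  · push Not at H
    have key : ∀ x y, σ x ≠ x → σ y ≠ y → x ≠ y → σ x ≠ y → (ξ x = x ↔ ξ y = y) →
        ∃ l : alternatingGroup Ω, (Commute ξ l ∨ Commute (ξ * σ) l) ∧
      Commute σ (l * (σ * (l : Perm Ω)⁻¹ * σ⁻¹)) ∧ l * (σ * (l : Perm Ω)⁻¹ * σ⁻¹) ≠ 1 :=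
      fun x y hx hy xy e i => by
        refine ⟨⟨swap x y * swap x (σ x), op_even xy hx.symm⟩, ?_, qt_h h xy hx hy e (qt_blk h x)⟩
        by_cases f : ξ x = x
        · exact .inl ((qt_sw (.inl ⟨f, i.1 f⟩)).mul_right (qt_sw (.inl ⟨f, by rw [qt_cm c, f]⟩)))
        · have f1 : (ξ * σ) x = x := by rw [Perm.mul_apply, qt_cm c, H x hx f, qt_ap h]
          have f2 : (ξ * σ) y = y := by rw [Perm.mul_apply, qt_cm c, H y hy (mt i.2 f), qt_ap h]
          exact .inr ((qt_sw (.inl ⟨f1, f2⟩)).mul_right (qt_sw (.inl ⟨f1, by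
            rw [Perm.mul_apply, qt_ap h, H x hx f]⟩)))
    obtain ⟨x, hx⟩ := Finset.card_pos.1 (show 0 < σ.support.card by omega)
    obtain ⟨y, hy, h1⟩ : ∃ r ∈ σ.support, r ∉ ({x, σ x} : Finset Ω) :=
      Finset.exists_mem_notMem_of_card_lt_card (Finset.card_le_two.trans_lt (by omega))
    obtain ⟨z, hz, h3⟩ : ∃ r ∈ σ.support, r ∉ ({x, σ x, y, σ y} : Finset Ω) :=
      Finset.exists_mem_notMem_of_card_lt_card (Finset.card_le_four.trans_lt (by omega))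
    simp only [Finset.mem_insert, Finset.mem_singleton, not_or, mem_support] at hx hy hz h1 h3
    by_cases i1 : ξ x = x ↔ ξ y = y
    · exact key x y hx hy (Ne.symm h1.1) (Ne.symm h1.2) i1
    by_cases i2 : ξ x = x ↔ ξ z = z
    · exact key x z hx hz (Ne.symm h3.1) (Ne.symm h3.2.1) i2
    · exact key y z hy hz (Ne.symm h3.2.2.1) (Ne.symm h3.2.2.2) (by tauto)

/-- two fixed points -/
theorem qt_fix {σ : Perm Ω} (h : σ.supportᶜ.card = 2) :
    ∃ p q, p ≠ q ∧ ∀ ρ, Commute ρ σ → Commute ρ (swap p q) := by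
  obtain ⟨p, q, pq, e⟩ := Finset.card_eq_two.1 h
  have k : ∀ x, σ x = x ↔ x = p ∨ x = q := fun x => by
    simpa using congrArg (x ∈ ·) e
  refine ⟨p, q, pq, fun ρ c => qt_sw ?_⟩
  have h1 := (k (ρ p)).1 (by rw [← qt_cm c, (k p).2 (.inl rfl)])
  have h2 := (k (ρ q)).1 (by rw [← qt_cm c, (k q).2 (.inr rfl)])
  have : ρ p ≠ ρ q := fun f => pq (ρ.injective f)
  rcases h1 with h1 | h1 <;> rcases h2 with h2 | h2
  exacts [(this (h1.trans h2.symm)).elim, .inl ⟨h1, h2⟩, .inr ⟨h1, h2⟩, (this (h1.trans h2.symm)).elim]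

theorem qt_b2 {σ ξ : Perm Ω} (h : σ * σ = 1) (k : ξ * ξ = σ) (h8 : 5 ≤ σ.support.card)
    (h2 : σ.supportᶜ.card = 2) :
    ∃ l r : alternatingGroup Ω, Commute σ l ∧ (r : Perm Ω) = l * (ξ * (l : Perm Ω)⁻¹ * ξ⁻¹) ∧
      r * r = 1 ∧ r ≠ 1 ∧ (r : Perm Ω) ≠ σ := by
  obtain ⟨p, q, pq, H⟩ := qt_fix h2
  have c : Commute ξ σ := k ▸ (Commute.refl ξ).mul_right (Commute.refl ξ)
  obtain ⟨a, ha⟩ := Finset.card_pos.1 (show 0 < σ.support.card by omega)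
  have a1 : σ a ≠ a := mem_support.1 ha
  have kk : ∀ x, ξ (ξ x) = σ x := fun x => by rw [← k, Perm.mul_apply]
  have a2 : ξ a ≠ a := fun e => a1 (by rw [← kk, e, e])
  have a3 : ξ a ≠ σ a := fun e => a2 (ξ.injective (by rw [kk, e]))
  have a4 : ξ (σ a) ≠ a := fun e => a3 (by rw [qt_cm c] at e; rw [← qt_ap h (ξ a), e])
  have a5 : ξ (σ a) ≠ σ a := fun e => a2 (σ.injective (by rw [← qt_cm c, e]))
  have s1 := op_sw a2.symm a4.symm a3.symm a5.symm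
  refine ⟨⟨swap a (σ a) * swap p q, op_even a1.symm pq⟩,
    ⟨swap a (σ a) * swap (ξ a) (ξ (σ a)), op_even a1.symm fun e => a1 (ξ.injective e).symm⟩,
    (qt_blk h a).mul_right (H σ (Commute.refl σ)), ?_,
    Subtype.ext (op_sq (swap_mul_self _ _) (swap_mul_self _ _) s1), fun e => ?_, fun e => ?_⟩
  · show swap a (σ a) * swap (ξ a) (ξ (σ a)) = swap a (σ a) * swap p q * (ξ * (swap a (σ a) * swap p q)⁻¹ * ξ⁻¹)
    rw [swap_apply_apply, mul_inv_rev, ← mul_assoc ξ, (H ξ c).inv_right.eq, swap_inv a]; group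
  · have := congrArg (fun f : alternatingGroup Ω => (f : Perm Ω) a) e
    simp only [Perm.mul_apply, swap_apply_of_ne_of_ne a2.symm a4.symm, swap_apply_left] at this
    exact a1 this
  · have : (swap a (σ a) * swap (ξ a) (ξ (σ a))).support.card ≤ 4 :=
      (Finset.card_le_card (support_mul_le _ _)).trans ((Finset.card_union_le _ _).trans (by
        rw [card_support_swap a1.symm, card_support_swap fun e => a1 (ξ.injective e).symm]))
    have e' : swap a (σ a) * swap (ξ a) (ξ (σ a)) = σ := e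
    rw [e'] at this
    omega

end CfsgLib.ANX
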