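import Cfsg.Agent.Lib.ANX.PB

/-! ANX: the weight five case, permutation part. -/

set_option autoImplicit false
set_option linter.unusedSectionVars false
set_option linter.unusedVariables false

namespace CfsgLib.ANX

open Equiv Equiv.Perm Finset

variable {Ω : Type} [Fintype Ω] [DecidableEq Ω]

/-- five commuting involutions with product one, of weight four, with products of weight two -/
structure F5 (η : Fin 5 → Perm Ω) : Prop where
  sq : ∀ i, η i * η i = 1
  cm : ∀ i j, Commute (η i) (η j)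
  pr : ∀ i j k l m : Fin 5, [i, j, k, l, m].Nodup → η i * η j * (η k * η l) = η m
  k1 : ∀ i, (η i).support.card = 8
  k2 : ∀ i j, i ≠ j → (η i * η j).support.card = 4

/-- the two points of colour `i` -/
def f5P (η : Fin 5 → Perm Ω) (i : Fin 5) : Finset Ω :=
  univ.filter fun x => ∀ l, l ≠ i → (η i * η l) x ≠ x

theorem f5_fifth : ∀ i j k l : Fin 5, [i, j, k, l].Nodup → ∃ m, [i, j, k, l, m].Nodup := by decide

theorem f5_new : ∀ i j k : Fin 5, ∃ l, l ≠ i ∧ l ≠ j ∧ l ≠ k := by decide

namespace F5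

variable {η : Fin 5 → Perm Ω} (h : F5 η)
include h

theorem dj {i j k l : Fin 5} (n : [i, j, k, l].Nodup) {x : Ω} (h1 : (η i * η j) x ≠ x)
    (h2 : (η k * η l) x ≠ x) : False := by
  obtain ⟨m, hm⟩ := f5_fifth i j k l n
  have e := h.k1 m
  rw [← h.pr i j k l m hm] at e
  have a := card_le_card (support_mul_le (η i * η j) (η k * η l))
  have b := card_union_add_card_inter (η i * η j).support (η k * η l).support
  simp only [List.nodup_cons, List.mem_cons, not_or] at n
  rw [h.k2 i j n.1.1, h.k2 k l n.2.2.1.1] at b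
  have c : 0 < ((η i * η j).support ∩ (η k * η l).support).card :=
    card_pos.2 ⟨x, mem_inter.2 ⟨mem_support.2 h1, mem_support.2 h2⟩⟩
  rw [sup_eq_union] at a
  omega

theorem tri (i j k : Fin 5) : η i * η j * (η j * η k) = η i * η k := by
  rw [mul_assoc, ← mul_assoc (η j), h.sq, one_mul]

theorem tr {i k : Fin 5} (j : Fin 5) {x : Ω} (h1 : (η i * η k) x ≠ x) :
    (η i * η j) x ≠ x ∨ (η j * η k) x ≠ x := by
  by_contra! c
  exact h1 (by rw [← h.tri i j k, Perm.mul_apply, c.2, c.1])

theorem star {i j k : Fin 5} (n : [i, j, k].Nodup) {x : Ω} (h1 : (η i * η j) x ≠ x)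
    (h2 : (η i * η k) x ≠ x) : x ∈ f5P η i := by
  refine mem_filter.2 ⟨mem_univ _, fun l hl => ?_⟩
  by_cases e1 : l = j
  · rwa [e1]
  by_cases e2 : l = k
  · rwa [e2]
  simp only [List.nodup_cons, List.mem_cons, not_or] at n
  refine (h.tr l h1).resolve_right fun c => h.dj (i := l) (j := j) (k := i) (l := k) ?_ c h2
  have := n.1.1
  have := n.1.2.1
  have := n.2.1.1
  simp only [List.nodup_cons, List.mem_cons, not_or, List.not_mem_nil, not_false_iff, List.nodup_nil]
  refine ⟨⟨e1, hl, e2, trivial⟩, ⟨Ne.symm n.1.1, n.2.1.1, trivial⟩, ⟨n.1.2.1, trivial⟩, trivial, trivial⟩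

theorem fix {i j k : Fin 5} (n : [i, j, k].Nodup) {x : Ω} (hx : x ∈ f5P η i) : (η j * η k) x = x := by
  by_contra c
  obtain ⟨l, l1, l2, l3⟩ := f5_new i j k
  simp only [List.nodup_cons, List.mem_cons, not_or] at n
  refine h.dj (i := i) (j := l) (k := j) (l := k) ?_ ((mem_filter.1 hx).2 l l1) c
  simp only [List.nodup_cons, List.mem_cons, not_or, List.not_mem_nil, not_false_iff, List.nodup_nil]
  exact ⟨⟨l1.symm, n.1.1, n.1.2.1, trivial⟩, ⟨l2, l3, trivial⟩, ⟨n.2.1.1, trivial⟩, trivial, trivial⟩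

theorem mv {i j : Fin 5} (n : i ≠ j) {x : Ω} (hx : x ∈ f5P η i) : (η i * η j) x ≠ x :=
  (mem_filter.1 hx).2 j n.symm

theorem disj {i j : Fin 5} (n : i ≠ j) {x : Ω} (h1 : x ∈ f5P η i) (h2 : x ∈ f5P η j) : False := by
  obtain ⟨l, l1, l2, -⟩ := f5_new i j j
  exact h.mv l2.symm h2 (h.fix (by simp [n, l1.symm, l2.symm]) h1)

theorem supp {i j : Fin 5} (n : i ≠ j) : (η i * η j).support = f5P η i ∪ f5P η j := by
  ext x
  rw [mem_support, mem_union]
  refine ⟨fun c => ?_, fun c => c.elim (h.mv n) fun c => (h.cm j i).eq ▸ h.mv n.symm c⟩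
  obtain ⟨l, l1, l2, -⟩ := f5_new i j j
  refine (h.tr l c).imp (h.star (by simp [n, l1.symm, l2.symm]) c) fun a => ?_
  exact h.star (j := i) (k := l) (by simp [n.symm, l1.symm, l2.symm]) ((h.cm i j).eq ▸ c)
    ((h.cm l j).eq ▸ a)

theorem card (i : Fin 5) : (f5P η i).card = 2 := by
  have k : ∀ i j, i ≠ j → (f5P η i).card + (f5P η j).card = 4 := fun i j n => by
    rw [← card_union_of_disjoint (disjoint_left.2 fun x a b => h.disj n a b), ← h.supp n, h.k2 i j n]
  obtain ⟨j, j1, -, -⟩ := f5_new i i i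
  obtain ⟨l, l1, l2, -⟩ := f5_new i j j
  have := k i j j1.symm
  have := k i l l1.symm
  have := k j l l2.symm
  omega

theorem ex (i : Fin 5) : ∃ x, x ∈ f5P η i := card_pos.1 (by rw [h.card]; omega)

/-- a permutation that permutes the `η i` permutes the colours -/
theorem map {β : Perm Ω} {π : Perm (Fin 5)} (e : ∀ i j, β * (η i * η j) * β⁻¹ = η (π i) * η (π j))
    {i : Fin 5} {x : Ω} (hx : x ∈ f5P η i) : β x ∈ f5P η (π i) := by
  refine mem_filter.2 ⟨mem_univ _, fun l hl => ?_⟩
  obtain ⟨l, rfl⟩ := π.surjective l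
  rw [← e]
  simpa using (mem_filter.1 hx).2 l fun c => hl (by rw [c])

theorem map' {β : Perm Ω} (e : ∀ i, Commute β (η i)) {i : Fin 5} {x : Ω} (hx : x ∈ f5P η i) :
    β x ∈ f5P η i :=
  h.map (π := 1) (fun i j => by rw [((e i).mul_right (e j)).eq, mul_inv_cancel_right]; rfl) hx

/-- the supports are different -/
theorem big (e : ∀ z, η 0 z = z → ∀ i, η i z = z) : False := by
  obtain ⟨x, hx⟩ := h.ex 0
  have a : η 0 x = x := by
    rw [← h.pr 1 2 3 4 0 (by decide), Perm.mul_apply, h.fix (by decide) hx, h.fix (by decide) hx]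
  exact h.mv (j := 1) (by decide) hx (by rw [Perm.mul_apply, e x a, a])

theorem three (h12 : Fintype.card Ω ≤ 12) {ρ : Perm Ω} (h3 : ρ ^ 3 = 1) (e : ∀ i, Commute ρ (η i)) :
    ρ = 1 := by
  by_contra c
  obtain ⟨x, hx⟩ : ∃ x, ρ x ≠ x := by
    by_contra! a
    exact c (Equiv.ext a)
  have h3' : ρ (ρ (ρ x)) = x := congrArg (fun f : Perm Ω => f x) h3
  have c3 : ({x, ρ x, ρ (ρ x)} : Finset Ω).card = 3 := card_eq_three.2 ⟨_, _, _, hx.symm,
    fun a => hx ((congrArg ρ a).trans h3'), fun a => hx (ρ.injective a).symm, rfl⟩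
  by_cases a : ∃ i, x ∈ f5P η i
  · obtain ⟨i, a⟩ := a
    have := card_le_card (show ({x, ρ x, ρ (ρ x)} : Finset Ω) ⊆ f5P η i by
      simp only [insert_subset_iff, singleton_subset_iff]
      exact ⟨a, h.map' e a, h.map' e (h.map' e a)⟩)
    rw [h.card] at this
    omega
  · have e' : ∀ i, Commute (ρ * ρ) (η i) := fun i => (e i).mul_left (e i)
    have b : (univ.biUnion (f5P η)).card = 10 := by
      rw [card_biUnion fun i _ j _ n => disjoint_left.2 fun x a b => h.disj n a b]
      simp [h.card]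
    have := card_le_card (show ({x, ρ x, ρ (ρ x)} : Finset Ω) ⊆ (univ.biUnion (f5P η))ᶜ by
      simp only [insert_subset_iff, singleton_subset_iff, mem_compl, mem_biUnion, mem_univ, true_and]
      exact ⟨a, fun ⟨i, b⟩ => a ⟨i, h3' ▸ h.map' e' b⟩, fun ⟨i, b⟩ => a ⟨i, h3' ▸ h.map' e b⟩⟩)
    rw [card_compl] at this
    omega

theorem fin (h12 : Fintype.card Ω ≤ 12) {β : Perm Ω} (b2 : β * β = 1)
    (e : ∀ i, β * η i * β⁻¹ = η (swap 0 1 i))
    (k : ∀ i, i = 3 ∨ i = 4 → (β * η i).support.card = 4 ∨ (β * η i).support.card = 12) : False := by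
  have m : ∀ {i x}, x ∈ f5P η i → β x ∈ f5P η (swap 0 1 i) := fun hx =>
    h.map (fun i j => by rw [← e, ← e]; group) hx
  have c : ∀ i, i = 3 ∨ i = 4 → Commute β (η i) := fun i hi => by
    have := e i
    rw [show swap (0 : Fin 5) 1 i = i by rcases hi with rfl | rfl <;> decide] at this
    exact mul_inv_eq_iff_eq_mul.1 this
  have pr : ∀ i j, i = 3 ∨ i = 4 → β * η i * (β * η j) = η i * η j := fun i j hi => by
    rw [(c i hi).eq, mul_assoc, ← mul_assoc β, b2, one_mul]
  have f4 : ∀ i, (β * η i).support.card = 4 → ∀ x ∈ f5P η 3, (β * η i) x = x := fun i hi x hx => by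
    have : f5P η 0 ∪ f5P η 1 = (β * η i).support := eq_of_subset_of_card_le (fun y hy => by
      rw [mem_support]
      intro a
      rcases mem_union.1 hy with b | b
      · exact h.disj (show (0 : Fin 5) ≠ 1 by decide) b (a ▸ m (h.map' (h.cm i) b))
      · exact h.disj (show (1 : Fin 5) ≠ 0 by decide) b (a ▸ m (h.map' (h.cm i) b)))
      (by rw [← h.supp (by decide), h.k2 0 1 (by decide), hi])
    refine notMem_support.1 (this ▸ fun a => ?_)
    rcases mem_union.1 a with b | b
    · exact h.disj (by decide) b hx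
    · exact h.disj (by decide) b hx
  have f12 : ∀ i, (β * η i).support.card = 12 → ∀ x, (β * η i) x ≠ x := fun i hi x =>
    mem_support.1 (by
      rw [eq_univ_of_card (β * η i).support (le_antisymm (card_le_univ _) (hi ▸ h12))]; exact mem_univ x)
  have mix : ∀ i j, i ≠ j → (β * η i).support.card = 12 → (β * η j).support.card = 4 → False :=
    fun i j n a b => by
    have : (η i * η j).supportᶜ ⊆ (β * η j).support := fun x hx => mem_support.2 fun y => f12 i a x (by
      have := notMem_support.1 (mem_compl.1 hx)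
      have z : β * η i * (η i * η j) = β * η j := by rw [mul_assoc, ← mul_assoc (η i), h.sq, one_mul]
      rw [← z, Perm.mul_apply, this] at y
      exact y)
    have := card_le_card this
    rw [card_compl, h.k2 i j n] at this
    have := card_le_univ (β * η i).support
    omega
  obtain ⟨x, hx⟩ := h.ex 3
  refine h.mv (j := 4) (by decide) hx ?_
  rw [← pr 3 4 (.inl rfl), Perm.mul_apply]
  rcases k 3 (.inl rfl) with a | a <;> rcases k 4 (.inr rfl) with b | b
  · rw [f4 4 b x hx, f4 3 a x hx]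
  · exact (mix 4 3 (by decide) b a).elim
  · exact (mix 3 4 (by decide) a b).elim
  · have m3 : ∀ i, (β * η i) x ∈ f5P η 3 := fun i => m (h.map' (h.cm i) hx)
    obtain ⟨u, v, -, uv⟩ := card_eq_two.1 (h.card 3)
    have a1 := f12 3 a x
    have a2 := f12 4 b x
    have a3 := m3 3
    have a4 := m3 4
    have : (β * η 4) x = (β * η 3) x := by
      simp only [uv, mem_insert, mem_singleton] at a3 a4 hx
      grind
    rw [this, ← Perm.mul_apply, pr 3 3 (.inl rfl), h.sq]; rfl

end F5

end CfsgLib.ANX
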