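import Cfsg.Agent.Lib.ANX.WLoc

/-! Part W, row WA0: local factors as functions; two local factors agree on an overlap. -/

set_option autoImplicit false
set_option linter.unusedSectionVars false

namespace CfsgLib.ANX

open Subgroup Equiv Equiv.Perm Cfsg CfsgLib.Tech CfsgLib.Alt4 CfsgLib.AltSyl CfsgLib.NatSyl

universe u

variable {Ω : Type} [Fintype Ω] [DecidableEq Ω] {G : Type u} [Group G] [Finite G]
  {ι : alternatingGroup Ω →* G} {t : G}

/-- `κ a := if h : Sp a Ψ then ι₁ (the preimage of a under alternatingGroup.ofSubtype Ψ) else 1`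
(`alternatingGroup.mem_range_ofSubtype_iff`, `ofSubtype_injective`). -/
theorem Loc.lg {Ψ : Finset Ω} {ι₁ ι₂ : alternatingGroup Ψ →* G} (h : Loc ι t Ψ ι₁ ι₂)
    (hc : ∀ a b, Sp b Ψᶜ → Commute (ι₁ a) (ι b)) : ∃ κ, LG ι t Ψ κ := by
  have k : ∀ a, ι₁ (Function.invFun (alternatingGroup.ofSubtype Ψ) (alternatingGroup.ofSubtype Ψ a)) = ι₁ a :=
    fun a => congrArg ι₁ (Function.leftInverse_invFun alternatingGroup.ofSubtype_injective a)
  have r : ∀ a : alternatingGroup Ω, Sp a Ψ → ∃ b, alternatingGroup.ofSubtype Ψ b = a :=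
    fun a ha => (alternatingGroup.mem_range_ofSubtype_iff Ψ a).2 ha
  refine ⟨fun a => ι₁ (Function.invFun (alternatingGroup.ofSubtype Ψ) a), fun a b ha hb => ?_,
    fun a ha => ?_, fun a b ha hb => ?_, fun a o _ ho => h.co _ o ho, fun a b _ hb => hc _ b hb⟩
  · obtain ⟨a, rfl⟩ := r a ha
    obtain ⟨b, rfl⟩ := r b hb
    rw [← map_mul, k, k, k, map_mul]
  · obtain ⟨a, rfl⟩ := r a ha
    rw [k, h.swp, h.dia]
  · rw [h.swp]
    exact h.com _ _

/-- `W7`: `ι₁.range ≤ HC ι Ψᶜ`; nine points: an even permutation supported on one point is `1`. -/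
theorem wa_lg {m : ℕ}
    (hm : (m = 7 ∧ 10 ≤ Fintype.card Ω ∧ ∀ Ψ : Finset Ω, Ψ.card = 7 → W7 ι t Ψ) ∨
      (m = 8 ∧ Fintype.card Ω = 9 ∧ ∀ Ψ : Finset Ω, Ψ.card = 8 → ∃ ι₁ ι₂, Loc ι t Ψ ι₁ ι₂))
    (Ψ : Finset Ω) (hΨ : Ψ.card = m) : ∃ κ, LG ι t Ψ κ := by
  rcases hm with ⟨rfl, -, h⟩ | ⟨rfl, h9, h⟩
  · obtain ⟨ι₁, ι₂, l, h1, -⟩ := h Ψ hΨ
    exact l.lg fun a b hb => (h1 ⟨a, rfl⟩ _ (bj_mem.2 ⟨b, hb, rfl⟩)).symm
  · obtain ⟨ι₁, ι₂, l⟩ := h Ψ hΨ
    refine l.lg fun a b hb => ?_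
    have e : b = 1 := Subtype.ext (card_support_le_one.1 ((Finset.card_le_card hb).trans (by
      rw [Finset.card_compl, h9, hΨ])))
    rw [e, map_one]
    exact Commute.one_right _

/-- In the simple group `alternatingGroup Θ` the elements `b` with `κ (ofSubtype b) = κ' (ofSubtype b)`
form a subgroup `E`; its normal core contains the preimage of `a₀` (`LG.conj` on both sides), so it is
everything. -/
theorem LG.agree {Ψ Ψ' Θ : Finset Ω} {κ κ' : alternatingGroup Ω → G} (h : LG ι t Ψ κ)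
    (h' : LG ι t Ψ' κ') (h1 : Θ ⊆ Ψ) (h2 : Θ ⊆ Ψ') (h5 : 5 ≤ Θ.card) {a₀ : alternatingGroup Ω}
    (ha : Sp a₀ Θ) (a1 : a₀ ≠ 1) (e : κ a₀ = κ' a₀) {b : alternatingGroup Ω} (hb : Sp b Θ) :
    κ b = κ' b := by
  have s : ∀ x : alternatingGroup Θ, Sp (alternatingGroup.ofSubtype Θ x) Θ :=
    fun x => (alternatingGroup.mem_range_ofSubtype_iff Θ _).1 ⟨x, rfl⟩
  let E : Subgroup (alternatingGroup Θ) :=
    { carrier := {x | κ (alternatingGroup.ofSubtype Θ x) = κ' (alternatingGroup.ofSubtype Θ x)}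
      one_mem' := by
        show κ (alternatingGroup.ofSubtype Θ 1) = κ' (alternatingGroup.ofSubtype Θ 1)
        rw [map_one, h.one, h'.one]
      mul_mem' := fun {x y} hx hy => by
        show κ (alternatingGroup.ofSubtype Θ (x * y)) = κ' (alternatingGroup.ofSubtype Θ (x * y))
        rw [map_mul, h.mul _ _ ((s x).trans h1) ((s y).trans h1),
          h'.mul _ _ ((s x).trans h2) ((s y).trans h2), hx, hy]
      inv_mem' := fun {x} hx => by
        show κ (alternatingGroup.ofSubtype Θ x⁻¹) = κ' (alternatingGroup.ofSubtype Θ x⁻¹)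
        rw [map_inv, h.inv ((s x).trans h1), h'.inv ((s x).trans h2), hx] }
  have hN : E.Normal := ⟨fun x hx y => by
    show κ (alternatingGroup.ofSubtype Θ (y * x * y⁻¹)) = κ' (alternatingGroup.ofSubtype Θ (y * x * y⁻¹))
    rw [map_mul, map_mul, map_inv, ← h.conj ((s x).trans h1) ((s y).trans h1),
      ← h'.conj ((s x).trans h2) ((s y).trans h2), show κ _ = κ' _ from hx]⟩
  have : IsSimpleGroup (alternatingGroup Θ) := alternatingGroup.isSimpleGroup (by simpa using h5)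
  obtain ⟨a, rfl⟩ := (alternatingGroup.mem_range_ofSubtype_iff Θ a₀).2 ha
  obtain ⟨b, rfl⟩ := (alternatingGroup.mem_range_ofSubtype_iff Θ b).2 hb
  rcases hN.eq_bot_or_eq_top with k | k
  · exact absurd (by rw [mem_bot.1 (k.le (show a ∈ E from e)), map_one]) a1
  · exact k.ge (mem_top b)

end CfsgLib.ANX
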