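import Cfsg.Agent.Lib.ANX.WLoc

/-! Part W, row WA2: permutation lemmas for `LG.gd`. -/

set_option autoImplicit false
set_option linter.unusedSectionVars false

namespace CfsgLib.ANX

open Subgroup Equiv Equiv.Perm Cfsg CfsgLib.Tech CfsgLib.Alt4 CfsgLib.AltSyl CfsgLib.NatSyl

universe u

variable {Ω : Type} [Fintype Ω] [DecidableEq Ω] {G : Type u} [Group G] [Finite G]
  {ι : alternatingGroup Ω →* G} {t : G}

/-- Generation of `C(a)`. `c` preserves `supp a`; write `c = d e` with `d` on `supp a`, `e` off it. Take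
`p ≠ q` in `Ψ \ supp a`. If `d` is odd replace `d, e` by `d (p q), (p q) e`; so `c = c₁ e₁` with `Sp c₁ Ψ`,
`e₁ ∈ altOn (supp a)ᶜ`, which is generated by the `tc p q k` (`altOn_le_of_tc`), and `tc p q k` is a product
of two elements `(x, a x)(p q)`, `(x, a x)(p k)` or `(q k)` (each supported in `Ψ` or given by `h2`). -/
theorem wa_gen {a : alternatingGroup Ω} (ha : Root a) {Ψ : Finset Ω} (hΨ : Sp a Ψ) (h7 : 7 ≤ Ψ.card)
    {x : Ω} (hx : (a : Perm Ω) x ≠ x) (X : Subgroup (alternatingGroup Ω))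
    (h1 : ∀ c, Sp c Ψ → Commute c a → c ∈ X)
    (h2 : ∀ (e : alternatingGroup Ω) p y, p ∈ Ψ → (a : Perm Ω) p = p → y ∉ Ψ →
      (e : Perm Ω) = swap x ((a : Perm Ω) x) * swap p y → e ∈ X)
    {c : alternatingGroup Ω} (hc : Commute c a) : c ∈ X := by
  have a2 : ∀ z, (a : Perm Ω) ((a : Perm Ω) z) = z := fun z => by
    have := congrArg (fun g : alternatingGroup Ω => (g : Perm Ω) z) ha.1
    simpa using this
  have a4 : (a : Perm Ω).support.card = 4 := ha.2
  have fx : ∀ {z}, z ∈ (a : Perm Ω).supportᶜ ↔ (a : Perm Ω) z = z := by simp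
  set E := X.map (alternatingGroup Ω).subtype with hE
  have k1 : ∀ g : Perm Ω, sign g = 1 → g.support ⊆ Ψ → Commute g a → g ∈ E := fun g sg h h' =>
    ⟨⟨g, mem_alternatingGroup.2 sg⟩, h1 _ h (Subtype.ext h'), rfl⟩
  have xΨ : x ∈ Ψ := hΨ (mem_support.2 hx)
  have xΨ' : (a : Perm Ω) x ∈ Ψ := hΨ (apply_mem_support.2 (mem_support.2 hx))
  have cs : ∀ p y, (a : Perm Ω) p = p → (a : Perm Ω) y = y → Commute (swap p y) (a : Perm Ω) :=
    fun p y hp hy => by
      have := swap_apply_apply (a : Perm Ω) p y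
      rw [hp, hy, eq_mul_inv_iff_mul_eq] at this
      exact this
  have k2 : ∀ p y, p ∈ Ψ → (a : Perm Ω) p = p → (a : Perm Ω) y = y → p ≠ y →
      swap x ((a : Perm Ω) x) * swap p y ∈ E := fun p y pΨ hp hy py => by
    have sg : sign (swap x ((a : Perm Ω) x) * swap p y) = 1 := by simp [py, hx.symm]
    by_cases yΨ : y ∈ Ψ
    · refine k1 _ sg ((support_mul_le _ _).trans (sup_le ?_ ?_)) (Commute.mul_left ?_ (cs p y hp hy))
      · rw [support_swap hx.symm]; simp [Finset.insert_subset_iff, xΨ, xΨ']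
      · rw [support_swap py]; simp [Finset.insert_subset_iff, pΨ, yΨ]
      · have := swap_apply_apply (a : Perm Ω) x ((a : Perm Ω) x)
        rw [a2, swap_comm, eq_mul_inv_iff_mul_eq] at this
        exact this
    · exact ⟨⟨_, mem_alternatingGroup.2 sg⟩, h2 _ p y pΨ hp yΨ rfl, rfl⟩
  obtain ⟨p, hp, q, hq, pq⟩ : ∃ p ∈ Ψ \ (a : Perm Ω).support, ∃ q ∈ Ψ \ (a : Perm Ω).support, p ≠ q := by
    refine Finset.one_lt_card.1 ?_
    rw [Finset.card_sdiff_of_subset hΨ]; omega
  rw [Finset.mem_sdiff, notMem_support] at hp hq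
  have k3 : altOn (a : Perm Ω).supportᶜ ≤ E := by
    refine altOn_le_of_tc (fx.2 hp.2) (fx.2 hq.2) pq fun k hk _ kq => ?_
    have m := E.mul_mem (k2 p q hp.1 hp.2 hq.2 pq) (k2 q k hq.1 hq.2 (fx.1 hk) (Ne.symm kq))
    have nx : ∀ z, (a : Perm Ω) z = z → swap x ((a : Perm Ω) x) z = z := fun z hz =>
      swap_apply_of_ne_of_ne (fun e => hx (e ▸ hz)) fun e => hx (by
        have := a2 x; rw [← e, hz] at this; rw [← e, this])
    have e := swap_apply_apply (swap x ((a : Perm Ω) x)) p q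
    rw [nx p hp.2, nx q hq.2, swap_inv] at e
    rw [← mul_assoc, ← e] at m
    exact m
  have cc : ∀ z, (c : Perm Ω) ((a : Perm Ω) z) = (a : Perm Ω) ((c : Perm Ω) z) := fun z =>
    congrArg (fun g : alternatingGroup Ω => (g : Perm Ω) z) hc.eq
  have st : ∀ z, (c : Perm Ω) z ∈ (a : Perm Ω).support ↔ z ∈ (a : Perm Ω).support := fun z => by
    rw [mem_support, mem_support, ← cc]; simp
  set d : Perm Ω := Perm.ofSubtype ((c : Perm Ω).subtypePerm st) with hd
  have d1 : ∀ z ∈ (a : Perm Ω).support, d z = (c : Perm Ω) z := fun z hz => by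
    rw [hd, ofSubtype_apply_of_mem _ hz]; rfl
  have d2 : ∀ z, z ∉ (a : Perm Ω).support → d z = z := fun z hz => ofSubtype_apply_of_not_mem _ hz
  have ds : d.support ⊆ Ψ := fun z hz => hΨ (by
    by_contra h; exact mem_support.1 hz (d2 z h))
  have dc : Commute d a := by
    ext z
    by_cases hz : z ∈ (a : Perm Ω).support
    · rw [Perm.mul_apply, Perm.mul_apply, d1 z hz, d1 _ (apply_mem_support.2 hz), cc]
    · rw [Perm.mul_apply, Perm.mul_apply, d2 z hz, notMem_support.1 hz, d2 z hz]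
  have es : (d⁻¹ * c).support ⊆ (a : Perm Ω).supportᶜ := fun z hz => Finset.mem_compl.2 fun h =>
    mem_support.1 hz (by rw [Perm.mul_apply, ← d1 z h]; simp)
  have sc : sign (c : Perm Ω) = 1 := mem_alternatingGroup.1 c.2
  have fin : (c : Perm Ω) ∈ E := by
    rcases Int.units_eq_one_or (sign d) with h | h
    · have := E.mul_mem (k1 d h ds dc) (k3 (mem_altOn.2 ⟨es, by simp [h, sc]⟩))
      simpa using this
    · have m1 : d * swap p q ∈ E := by
        refine k1 _ (by simp [h, pq]) ((support_mul_le _ _).trans (sup_le ds ?_))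
          (dc.mul_left (cs p q hp.2 hq.2))
        rw [support_swap pq]; simp [Finset.insert_subset_iff, hp.1, hq.1]
      have m2 : swap p q * (d⁻¹ * c) ∈ E := by
        refine k3 (mem_altOn.2 ⟨(support_mul_le _ _).trans (sup_le ?_ es), by simp [h, pq, sc]⟩)
        rw [support_swap pq]; simp [Finset.insert_subset_iff, hp.2, hq.2]
      have := E.mul_mem m1 m2
      rwa [mul_assoc, swap_mul_self_mul, mul_inv_cancel_left] at this
  obtain ⟨c', h, e⟩ := fin
  exact Subtype.ext e ▸ h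

end CfsgLib.ANX
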