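import Cfsg.Agent.Lib.ANX.Defs
import Cfsg.Agent.Lib.UFP.NU
import Cfsg.Agent.Lib.SLE.Red
import Cfsg.Agent.Lib.SLE.NG
import Cfsg.Agent.Lib.W2.Tools

/-! Part W (wreath case is impossible): definitions. -/

set_option autoImplicit false
set_option linter.unusedSectionVars false

namespace CfsgLib.ANX

open Subgroup Equiv Equiv.Perm Cfsg CfsgLib.Tech CfsgLib.Alt4 CfsgLib.AltSyl CfsgLib.NatSyl

universe u

variable {Ω : Type} [Fintype Ω] [DecidableEq Ω] {G : Type u} [Group G] [Finite G]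

/-- `ι (B ∩ A_n)` -/
def iP (ι : alternatingGroup Ω →* G) (B : Subgroup (Perm Ω)) : Subgroup G :=
  (B.subgroupOf (alternatingGroup Ω)).map ι

theorem mem_iP {ι : alternatingGroup Ω →* G} {B : Subgroup (Perm Ω)} {g : G} :
    g ∈ iP ι B ↔ ∃ a : alternatingGroup Ω, (a : Perm Ω) ∈ B ∧ ι a = g := Iff.rfl

theorem iA_eq (ι : alternatingGroup Ω →* G) (Φ : Finset Ω) : iA ι Φ = iP ι (altOn Φ) := rfl

/-- an elementary abelian group of even permutations fixing `Φ` pointwise -/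
structure El (Φ : Finset Ω) (B : Subgroup (Perm Ω)) : Prop where
  ev : B ≤ alternatingGroup Ω
  sq : ∀ b ∈ B, b * b = 1
  fx : ∀ b ∈ B, ∀ a ∈ Φ, b a = a

/-- `B` centralises the groups of odd order that it normalises -/
def HB (B : Subgroup (Perm Ω)) : Prop :=
  ∀ Y : Subgroup (Perm Ω), Odd (Nat.card Y) → B ≤ normalizer (Y : Set (Perm Ω)) →
    ∀ b ∈ B, ∀ y ∈ Y, Commute y b

/-- a frame: `C(R) ≤ R × Sym Φ` -/
structure Frm (Φ : Finset Ω) (R : Subgroup (Perm Ω)) : Prop extends El Φ R where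
  cen : ∀ p : Perm Ω, (∀ r ∈ R, Commute p r) → ∃ r ∈ R, ∀ a, a ∉ Φ → p a = r a

/-- `B` is regular on `s` and fixes the other points -/
structure Reg (s : Finset Ω) (B : Subgroup (Perm Ω)) : Prop extends El sᶜ B where
  tr : ∀ a ∈ s, ∀ c ∈ s, ∃ b ∈ B, b a = c
  fr : ∀ b ∈ B, ∀ a ∈ s, b a = a → b = 1

/-- the natural four-group of a 4-set -/
def NV (s : Finset Ω) : Subgroup (Perm Ω) :=
  closure {p | p * p = 1 ∧ sign p = 1 ∧ p.support ⊆ s}

/-- `P` is a partition of the complement of `Φ` -/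
structure Cov (Φ : Finset Ω) (P : Finset (Finset Ω)) : Prop where
  dj : ∀ s ∈ P, ∀ s' ∈ P, s ≠ s' → Disjoint s s'
  cv : ∀ a, a ∉ Φ ↔ ∃ s ∈ P, a ∈ s

/-- a partition into 4-sets, `n % 4` points are left -/
structure Part (Φ : Finset Ω) (P : Finset (Finset Ω)) : Prop extends Cov Φ P where
  c4 : ∀ s ∈ P, s.card = 4
  cd : Φ.card = Fintype.card Ω % 4

/-- the product of the four-groups -/
def RF (P : Finset (Finset Ω)) : Subgroup (Perm Ω) := ⨆ s ∈ P, NV s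

/-- the data of the wreath case -/
structure WX (ι : alternatingGroup Ω →* G) (t : G) (ι₁ ι₂ : alternatingGroup Ω →* G) : Prop
    extends Wr ι t ι₁ ι₂ where
  F : Fr ι t
  h9 : 9 ≤ Fintype.card Ω

/-- the extra involution (or `1`) acting diagonally on `Φ` -/
structure XD (t : G) (ι₁ ι₂ : alternatingGroup Ω →* G) (Φ : Finset Ω) (x : G) : Prop where
  sq : x * x = 1
  cm : Commute x t
  ac : ∃ ξ : Perm Ω, Act ι₁ x ξ ∧ Act ι₂ x ξ ∧ ξ.support ⊆ Φ ∧ (ξ.IsSwap ∨ (x = 1 ∧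
    (Φ.card ≤ 1 ∨ ∀ m p q, Act ι₁ m p → Act ι₂ m q → sign p = sign q)))

/-- odd elements inverted by `t` that centralise `x` and `ι R` -/
structure II (ι : alternatingGroup Ω →* G) (t x : G) (R : Subgroup (Perm Ω)) (δ : G) : Prop where
  od : Odd (orderOf δ)
  iv : t * δ * t⁻¹ = δ⁻¹
  cx : Commute δ x
  cr : δ ∈ centralizer (iP ι R : Set G)

/-- `S` is a Sylow 2-subgroup of `M` -/
structure Syl (S M : Subgroup G) : Prop where
  le : S ≤ M
  pg : IsPGroup 2 S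
  cj : ∀ P ≤ M, IsPGroup 2 P → ∃ g ∈ M, ∀ p ∈ P, g * p * g⁻¹ ∈ S

/-- same as `Fin3` of PW -/
def WFin (ι₁ ι₂ : alternatingGroup Ω →* G) (t : G) : Prop :=
  ∀ Φ : Finset Ω, Φ.card = Fintype.card Ω % 4 → ∀ δ : G, Odd (orderOf δ) → t * δ * t⁻¹ = δ⁻¹ →
    δ ∈ HC ι₁ Φᶜ → δ ∈ HC ι₂ Φᶜ → δ ∈ WM ι₁ ι₂

end CfsgLib.ANX
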