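import Cfsg.Agent.Lib.ANX.PB
import Cfsg.Agent.Lib.Pres.Carm

/-! Part W: vocabulary for the construction of the wreath product. -/

set_option autoImplicit false
set_option linter.unusedSectionVars false

namespace CfsgLib.ANX

open Subgroup Equiv Equiv.Perm Cfsg CfsgLib.Tech CfsgLib.Alt4 CfsgLib.AltSyl CfsgLib.NatSyl

universe u

variable {Ω : Type} [Fintype Ω] [DecidableEq Ω] {G : Type u} [Group G] [Finite G]
  {ι : alternatingGroup Ω →* G} {t : G}

/-- the support of `a` lies in `Ψ` -/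
abbrev Sp (a : alternatingGroup Ω) (Ψ : Finset Ω) : Prop := (a : Perm Ω).support ⊆ Ψ

/-- `w` is a hat of the root `a` -/
structure Gd (ι : alternatingGroup Ω →* G) (t : G) (a : alternatingGroup Ω) (w : G) : Prop where
  sq : w * w = 1
  mv : w * t * w⁻¹ = t * ι a
  cen : ∀ c, Commute c a → Commute w (ι c)

/-- a local factor as a function on the elements supported in `Ψ` -/
structure LG (ι : alternatingGroup Ω →* G) (t : G) (Ψ : Finset Ω) (κ : alternatingGroup Ω → G) :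
    Prop where
  mul : ∀ a b, Sp a Ψ → Sp b Ψ → κ (a * b) = κ a * κ b
  dia : ∀ a, Sp a Ψ → ι a = κ a * (t * κ a * t⁻¹)
  com : ∀ a b, Sp a Ψ → Sp b Ψ → Commute (κ a) (t * κ b * t⁻¹)
  co : ∀ a o, Sp a Ψ → Od ι t o → Commute (κ a) o
  cen : ∀ a b, Sp a Ψ → Sp b Ψᶜ → Commute (κ a) (ι b)

theorem Sp.one (Ψ : Finset Ω) : Sp (1 : alternatingGroup Ω) Ψ := by simp [Sp]

theorem Sp.mul {a b : alternatingGroup Ω} {Ψ : Finset Ω} (h : Sp a Ψ) (h' : Sp b Ψ) : Sp (a * b) Ψ :=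
  (support_mul_le _ _).trans (sup_le h h')

theorem Sp.inv {a : alternatingGroup Ω} {Ψ : Finset Ω} (h : Sp a Ψ) : Sp a⁻¹ Ψ := by
  simpa [Sp] using h

namespace LG

variable {Ψ : Finset Ω} {κ : alternatingGroup Ω → G} (h : LG ι t Ψ κ)
include h

theorem one : κ 1 = 1 := by
  have := h.mul 1 1 (Sp.one Ψ) (Sp.one Ψ)
  rw [one_mul] at this
  exact left_eq_mul.1 this

theorem inv {a : alternatingGroup Ω} (ha : Sp a Ψ) : κ a⁻¹ = (κ a)⁻¹ :=
  eq_inv_of_mul_eq_one_left (by rw [← h.mul _ _ ha.inv ha, inv_mul_cancel, h.one])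

theorem conj {a b : alternatingGroup Ω} (ha : Sp a Ψ) (hb : Sp b Ψ) :
    ι b * κ a * (ι b)⁻¹ = κ (b * a * b⁻¹) := by
  rw [h.mul _ _ (hb.mul ha) hb.inv, h.mul _ _ hb ha, h.inv hb, h.dia b hb, mul_assoc (κ b),
    ← (h.com a b ha hb).eq]
  group

theorem comm {a b : alternatingGroup Ω} (ha : Sp a Ψ) (hb : Sp b Ψ) (e : Commute b a) :
    Commute (κ a) (ι b) := by
  have := h.conj ha hb
  rw [e.eq, mul_inv_cancel_right] at this
  exact (mul_inv_eq_iff_eq_mul.1 this).symm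

theorem sq {a : alternatingGroup Ω} (ha : Sp a Ψ) (a2 : a * a = 1) : κ a * κ a = 1 := by
  rw [← h.mul _ _ ha ha, a2, h.one]

theorem mv (t2 : t * t = 1) {a : alternatingGroup Ω} (ha : Sp a Ψ) (a2 : a * a = 1) :
    κ a * t * (κ a)⁻¹ = t * ι a := by
  rw [h.dia a ha, (h.com a a ha ha).eq, inv_eq_of_mul_eq_one_right (h.sq ha a2),
    inv_eq_of_mul_eq_one_right t2]
  calc κ a * t * κ a = t * t * κ a * t * κ a := by rw [t2, one_mul]
    _ = _ := by group

theorem symm (t2 : t * t = 1) (tC : CL ι t) : LG ι t Ψ fun a => t * κ a * t⁻¹ := by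
  have e : ∀ x : G, t * (t * x * t⁻¹) * t⁻¹ = x := fun x => by
    rw [show t * (t * x * t⁻¹) * t⁻¹ = t * t * x * (t * t)⁻¹ by group, t2]; group
  have c : ∀ x y : G, Commute x y → Commute t y → Commute (t * x * t⁻¹) y := fun x y h1 h2 =>
    (h2.mul_left h1).mul_left h2.inv_left
  refine ⟨fun a b ha hb => by rw [h.mul a b ha hb]; group, fun a ha => ?_, fun a b ha hb => ?_,
    fun a o ha ho => c _ _ (h.co a o ha ho) ho.2.1.symm, fun a b ha hb => c _ _ (h.cen a b ha hb) (tC b)⟩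
  · rw [e, ← (h.com a a ha ha).eq, h.dia a ha]
  · rw [e]
    exact (h.com b a hb ha).symm

end LG

end CfsgLib.ANX
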