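import Cfsg.Agent.Lib.ANX.WDefs

/-! Row WP3, second part: Sylow subgroups of `A_n` and `S_n`. -/

set_option autoImplicit false
set_option linter.unusedSectionVars false

namespace CfsgLib.ANX

open Subgroup Equiv Equiv.Perm Cfsg CfsgLib.Tech CfsgLib.Alt4 CfsgLib.AltSyl CfsgLib.NatSyl

universe u

variable {Ω : Type} [Fintype Ω] [DecidableEq Ω] {G : Type u} [Group G] [Finite G]

/-- a Sylow subgroup is a maximal 2-subgroup -/
theorem wp3b_max {T M P : Subgroup G} (hT : Syl T M) (h : T ≤ P) (hM : P ≤ M) (hp : IsPGroup 2 P) :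
    P = T := by
  obtain ⟨g, -, hg⟩ := hT.cj P hM hp
  refine (eq_of_le_of_card_ge h ?_).symm
  rw [← card_map_of_injective (f := (MulAut.conj g).toMonoidHom) (MulAut.conj g).injective]
  exact card_le_of_le (by rintro _ ⟨x, hx, rfl⟩; exact hg x hx)

theorem wp3b_top {T T' : Subgroup (Perm Ω)} (hT : Syl T (alternatingGroup Ω)) (h : T ≤ T')
    (hp : IsPGroup 2 T') {p : Perm Ω} (h1 : p ∈ T') (h2 : sign p ≠ 1) : Syl T' ⊤ := by
  have : Fact (Nat.Prime 2) := ⟨Nat.prime_two⟩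
  obtain ⟨S, hS⟩ := hp.exists_le_sylow
  have e1 : (S : Subgroup (Perm Ω)) ⊓ alternatingGroup Ω = T :=
    wp3b_max hT (le_inf (h.trans hS) hT.le) inf_le_right S.isPGroup'.to_inf_left
  have e2 : T' = S := le_antisymm hS fun x hx => by
    rcases Int.units_eq_one_or (sign x) with e | e
    · exact h (e1 ▸ ⟨hx, mem_alternatingGroup.2 e⟩)
    · have : x * p ∈ T := e1 ▸ ⟨mul_mem hx (hS h1), mem_alternatingGroup.2 (by
        simp [e, (Int.units_eq_one_or (sign p)).resolve_left h2])⟩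
      exact (mul_mem_cancel_right h1).1 (h this)
  refine ⟨le_top, hp, fun P _ hP => ?_⟩
  obtain ⟨Q, hQ⟩ := hP.exists_le_sylow
  obtain ⟨g, hg⟩ := MulAction.exists_smul_eq (Perm Ω) Q S
  refine ⟨g, mem_top _, fun x hx => ?_⟩
  rw [e2, ← hg, Sylow.coe_subgroup_smul]
  exact smul_mem_pointwise_smul x (MulAut.conj g) _ (hQ hx)

theorem wp3b_mem {T : Subgroup (Perm Ω)} (hT : Syl T (alternatingGroup Ω)) {q : Perm Ω}
    (h1 : sign q = 1) {k : ℕ} (h2 : q ^ 2 ^ k = 1) (h3 : ∀ a ∈ T, q * a * q⁻¹ ∈ T) : q ∈ T := by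
  have : Fact (Nat.Prime 2) := ⟨Nat.prime_two⟩
  have hq : IsPGroup 2 (zpowers q) := by
    obtain ⟨i, -, hi⟩ := (Nat.dvd_prime_pow Nat.prime_two).1 (orderOf_dvd_of_pow_eq_one h2)
    exact IsPGroup.of_card (by rw [Nat.card_zpowers, hi])
  have := wp3b_max hT (P := zpowers q ⊔ T) le_sup_right
    (sup_le (zpowers_le.2 (mem_alternatingGroup.2 h1)) hT.le)
    (hq.to_sup_of_normal_right' hT.pg (zpowers_le.2 (mem_normalizer_of_forall h3)))
  exact this ▸ mem_sup_left (mem_zpowers q)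

end CfsgLib.ANX
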