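import Cfsg.Agent.Lib.ANX.WDefs

set_option autoImplicit false
set_option linter.unusedSectionVars false

namespace CfsgLib.ANX

open Subgroup Equiv Equiv.Perm Cfsg CfsgLib.Tech CfsgLib.Alt4 CfsgLib.AltSyl CfsgLib.NatSyl

universe u

variable {Ω : Type} [Fintype Ω] [DecidableEq Ω] {G : Type u} [Group G] [Finite G]

/-! Row WP7 (aux names `wp7_*`). -/

/-- Induct on `S ⊇` supports: `card A ^ 2 ≤ 2 ^ |S|`; the stabiliser of a moved point `x` fixes its
orbit `O` pointwise (abelian), `card A = |O| * card A_x`, `|O|` is a power of `2` (or: `|O| ≠ 3`),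
`|O| ^ 2 ≤ 2 ^ |O|`. -/
theorem wp7_le (n : ℕ) : ∀ (S : Finset Ω) (A : Subgroup (Perm Ω)), S.card ≤ n → (∀ a ∈ A, a * a = 1) →
    (∀ a ∈ A, ∀ x, x ∉ S → a x = x) → Nat.card A ^ 2 ≤ 2 ^ S.card := by
  induction n with
  | zero =>
    intro S A hS h hf
    have e : A = ⊥ := (Subgroup.eq_bot_iff_forall A).2 fun a ha => Equiv.ext fun x => hf a ha x (by
      rw [Finset.card_eq_zero.1 (Nat.le_zero.1 hS)]; simp)
    rw [e, Subgroup.card_bot, one_pow]; exact Nat.one_le_two_pow
  | succ n ih =>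
    intro S A hS h hf
    rcases S.eq_empty_or_nonempty with rfl | ⟨x, hx⟩
    · exact ih ∅ A (by simp) h hf
    have hc : ∀ a ∈ A, ∀ b ∈ A, a * b = b * a := fun a ha b hb => by
      have h1 := h _ (mul_mem ha hb)
      calc a * b = a * (a * b * (a * b)) * b * (a * b) * (a * b)⁻¹ * 1 := by rw [h1]; group
        _ = (a * a) * (b * a) * (b * b) := by group
        _ = b * a := by rw [h a ha, h b hb]; group
    have hp : IsPGroup 2 A := fun a => ⟨1, Subtype.ext (by simpa [pow_two] using h a a.2)⟩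
    obtain ⟨k, hk⟩ := hp.card_orbit x
    let O : Finset Ω := (Set.toFinite (MulAction.orbit A x)).toFinset
    have hO : ∀ y, y ∈ O ↔ ∃ a ∈ A, a x = y := fun y => by
      rw [Set.Finite.mem_toFinset]
      exact ⟨fun ⟨a, e⟩ => ⟨a, a.2, e⟩, fun ⟨a, ha, e⟩ => ⟨⟨a, ha⟩, e⟩⟩
    have cO : O.card = 2 ^ k := by
      rw [← hk, Nat.card_coe_set_eq, Set.ncard_eq_toFinset_card _ (Set.toFinite _)]
    have hOS : O ⊆ S := fun y hy => by
      obtain ⟨a, ha, rfl⟩ := (hO y).1 hy
      by_contra hn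
      exact hn (by rw [a.injective (hf a ha _ hn)]; exact hx)
    have xO : x ∈ O := (hO x).2 ⟨1, one_mem _, rfl⟩
    have c1 : (S \ O).card + O.card = S.card := Finset.card_sdiff_add_card_eq_card hOS
    have c2 : 0 < O.card := Finset.card_pos.2 ⟨x, xO⟩
    have i := ih (S \ O) ((MulAction.stabilizer A x).map A.subtype) (by omega)
      (by rintro _ ⟨a, -, rfl⟩; exact h a a.2) (by
        rintro _ ⟨a, ha, rfl⟩ y hy
        by_cases hyO : y ∈ O
        · obtain ⟨b, hb, rfl⟩ := (hO y).1 hyO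
          have ha' : (a : Perm Ω) x = x := ha
          change (a : Perm Ω) (b x) = b x
          rw [← Perm.mul_apply, hc a a.2 b hb, Perm.mul_apply, ha']
        · exact hf a a.2 y fun hs => hy (Finset.mem_sdiff.2 ⟨hs, hyO⟩))
    rw [Subgroup.card_map_of_injective A.subtype_injective] at i
    have e : Nat.card A = 2 ^ k * Nat.card (MulAction.stabilizer A x) := by
      rw [← hk, Nat.card_coe_set_eq, ← MulAction.index_stabilizer, Subgroup.index_mul_card]
    rw [e, mul_pow, ← c1, pow_add, mul_comm, cO, ← pow_mul]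
    exact Nat.mul_le_mul i (Nat.pow_le_pow_right two_pos (by
      rw [mul_comm]; exact Nat.mul_le_pow (by norm_num) k))

theorem el_card_le {A : Subgroup (Perm Ω)} (h : ∀ a ∈ A, a * a = 1) :
    Nat.card A ^ 2 ≤ 2 ^ Fintype.card Ω := by
  simpa using wp7_le _ Finset.univ A le_rfl h fun a _ x hx => absurd (Finset.mem_univ x) hx

/-- Induct on a `σ`-invariant `S`: an elementary abelian `E ≤ C(σ)` supported on `S` of order
`2 ^ (|S| / 2)` (add `swap x (σ x)`, or any swap if `σ` fixes `S`); then take the even part. -/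
theorem wp7_ex {σ : Perm Ω} (h : σ * σ = 1) (n : ℕ) : ∀ S : Finset Ω, S.card ≤ n → (∀ x ∈ S, σ x ∈ S) →
    ∃ E : Subgroup (Perm Ω), (∀ a ∈ E, a * a = 1) ∧ (∀ a ∈ E, Commute σ a) ∧
      (∀ a ∈ E, ∀ x, x ∉ S → a x = x) ∧ 2 ^ (S.card / 2) ≤ Nat.card E := by
  have hσ : ∀ x, σ (σ x) = x := fun x => by rw [← Perm.mul_apply, h]; rfl
  induction n with
  | zero =>
    intro S hS _
    exact ⟨⊥, by simp, by simp, by simp, by simp [Nat.le_zero.1 hS]⟩
  | succ n ih =>
    intro S hS hi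
    by_cases h1 : S.card ≤ 1
    · exact ⟨⊥, by simp, by simp, by simp, by simp [show S.card / 2 = 0 by omega]⟩
    obtain ⟨x, hx, y, hy, hxy, hs⟩ : ∃ x ∈ S, ∃ y ∈ S, x ≠ y ∧
        ((σ x = y ∧ σ y = x) ∨ (σ x = x ∧ σ y = y)) := by
      by_cases hm : ∃ x ∈ S, σ x ≠ x
      · obtain ⟨x, hx, hm⟩ := hm
        exact ⟨x, hx, σ x, hi x hx, hm.symm, .inl ⟨rfl, hσ x⟩⟩
      · push Not at hm
        obtain ⟨x, hx, y, hy, hxy⟩ := Finset.one_lt_card.1 (not_le.1 h1)
        exact ⟨x, hx, y, hy, hxy, .inr ⟨hm x hx, hm y hy⟩⟩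
    have hsub : ({x, y} : Finset Ω) ⊆ S := by
      intro z hz
      rcases Finset.mem_insert.1 hz with rfl | hz
      exacts [hx, Finset.mem_singleton.1 hz ▸ hy]
    have c1 := Finset.card_sdiff_add_card_eq_card hsub
    rw [Finset.card_pair hxy] at c1
    obtain ⟨E, e1, e2, e3, e4⟩ := ih (S \ {x, y}) (by omega) (by
      intro z hz
      simp only [Finset.mem_sdiff, Finset.mem_insert, Finset.mem_singleton, not_or] at hz ⊢
      refine ⟨hi z hz.1, fun e => ?_, fun e => ?_⟩
      · rcases hs with hs | hs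
        exacts [hz.2.2 (σ.injective (e.trans hs.2.symm)), hz.2.1 (σ.injective (e.trans hs.1.symm))]
      · rcases hs with hs | hs
        exacts [hz.2.1 (σ.injective (e.trans hs.1.symm)), hz.2.2 (σ.injective (e.trans hs.2.symm))])
    have fx : ∀ a ∈ E, a x = x := fun a ha => e3 a ha x (by simp)
    have fy : ∀ a ∈ E, a y = y := fun a ha => e3 a ha y (by simp)
    have ct : ∀ a ∈ E, a * swap x y = swap x y * a := fun a ha => by
      rw [Equiv.mul_swap_eq_swap_mul, fx a ha, fy a ha]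
    have cσ : Commute σ (swap x y) := by
      change σ * swap x y = swap x y * σ
      rw [Equiv.mul_swap_eq_swap_mul]
      rcases hs with hs | hs
      · rw [hs.1, hs.2, swap_comm]
      · rw [hs.1, hs.2]
    have tt : swap x y * swap x y = 1 := swap_mul_self x y
    let E' : Subgroup (Perm Ω) :=
      { carrier := {a | ∃ b ∈ E, a = b ∨ a = b * swap x y}
        one_mem' := ⟨1, one_mem _, .inl rfl⟩
        mul_mem' := by
          rintro _ _ ⟨a, ha, rfl | rfl⟩ ⟨b, hb, rfl | rfl⟩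
          · exact ⟨_, mul_mem ha hb, .inl rfl⟩
          · exact ⟨_, mul_mem ha hb, .inr (mul_assoc _ _ _).symm⟩
          · exact ⟨_, mul_mem ha hb, .inr (by rw [mul_assoc, ← ct _ hb, mul_assoc])⟩
          · exact ⟨_, mul_mem ha hb, .inl (by
              rw [ct _ hb, mul_assoc, ← mul_assoc (swap x y), tt, one_mul])⟩
        inv_mem' := by
          rintro _ ⟨a, ha, rfl | rfl⟩
          · exact ⟨_, inv_mem ha, .inl rfl⟩
          · exact ⟨_, inv_mem ha, .inr (by rw [mul_inv_rev, swap_inv, ct _ (inv_mem ha)])⟩ }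
    have hle : E ≤ E' := fun a ha => ⟨a, ha, .inl rfl⟩
    have hne : ¬ Nat.card E' ≤ Nat.card E := fun hc => by
      have : swap x y ∈ E := Subgroup.eq_of_le_of_card_ge hle hc ▸
        (⟨1, one_mem _, .inr (one_mul _).symm⟩ : swap x y ∈ E')
      exact hxy (by simpa using (fx _ this).symm)
    refine ⟨E', ?_, ?_, ?_, ?_⟩
    · rintro _ ⟨a, ha, rfl | rfl⟩
      · exact e1 _ ha
      · rw [mul_assoc, ← mul_assoc (swap x y), ← ct _ ha, mul_assoc, tt, mul_one, e1 _ ha]
    · rintro _ ⟨a, ha, rfl | rfl⟩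
      exacts [e2 _ ha, (e2 _ ha).mul_right cσ]
    · rintro _ ⟨a, ha, rfl | rfl⟩ z hz
      · exact e3 _ ha z fun e => hz (Finset.mem_sdiff.1 e).1
      · rw [Perm.mul_apply, swap_apply_of_ne_of_ne (fun e : z = x => hz (e ▸ hx))
          (fun e : z = y => hz (e ▸ hy))]
        exact e3 _ ha z fun e => hz (Finset.mem_sdiff.1 e).1
    · obtain ⟨m, hm⟩ := Subgroup.card_dvd_of_le hle
      have p := Nat.card_pos (α := E')
      rw [show S.card / 2 = (S \ {x, y}).card / 2 + 1 by omega, pow_succ, hm]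
      refine Nat.mul_le_mul e4 ?_
      by_contra hl
      have : m = 0 ∨ m = 1 := by omega
      rcases this with rfl | rfl <;> omega

theorem exists_el {σ : Perm Ω} (h : σ * σ = 1) :
    ∃ E : Subgroup (alternatingGroup Ω), (∀ a ∈ E, a * a = 1) ∧ (∀ a ∈ E, Commute σ (a : Perm Ω)) ∧
      2 ^ (Fintype.card Ω / 2) ≤ 2 * Nat.card E := by
  obtain ⟨E, e1, e2, -, e4⟩ := wp7_ex h _ Finset.univ le_rfl fun x _ => Finset.mem_univ _
  refine ⟨E.subgroupOf (alternatingGroup Ω), fun a ha => Subtype.ext (e1 _ ha), fun a ha => e2 _ ha, ?_⟩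
  rw [Finset.card_univ] at e4
  refine e4.trans ?_
  let f : E →* ℤˣ := Perm.sign.comp E.subtype
  rw [← f.ker.index_mul_card, Subgroup.index_ker]
  refine Nat.mul_le_mul ((Nat.card_le_card_of_injective _ f.range.subtype_injective).trans (by simp)) ?_
  exact Nat.card_le_card_of_injective (fun a : f.ker =>
    (⟨⟨a.1.1, Perm.mem_alternatingGroup.2 a.2⟩, a.1.2⟩ : E.subgroupOf (alternatingGroup Ω)))
    fun a b e => Subtype.ext (Subtype.ext (congrArg (fun z => z.1.1) e))

end CfsgLib.ANX
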