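import Cfsg.Agent.Lib.ANX.BRes

/-! ANX part W: elementary abelian 2-subgroups of symmetric groups. -/

set_option autoImplicit false
set_option linter.unusedSectionVars false

namespace CfsgLib.ANX

open Subgroup Equiv Equiv.Perm Cfsg CfsgLib.Tech CfsgLib.Alt4 CfsgLib.AltSyl CfsgLib.NatSyl

universe u

variable {Ω : Type} [Fintype Ω] [DecidableEq Ω] {G : Type u} [Group G] [Finite G]
  {ι : alternatingGroup Ω →* G} {t : G}

theorem wu_sq_le {k : ℕ} (h : k ≠ 3) : k ^ 2 ≤ 2 ^ k := by
  rcases Nat.lt_or_ge k 4 with h4 | h4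
  · interval_cases k <;> simp_all
  · clear h
    induction k, h4 using Nat.le_induction with
    | base => norm_num
    | succ k hk ih => rw [pow_succ 2 k]; nlinarith

theorem wu_comm {H : Type*} [Group H] {E : Subgroup H} (h2 : ∀ x ∈ E, x * x = 1) {a b : H}
    (ha : a ∈ E) (hb : b ∈ E) : a * b = b * a := by
  have := inv_eq_of_mul_eq_one_right (h2 _ (mul_mem ha hb))
  rw [mul_inv_rev, inv_eq_of_mul_eq_one_right (h2 a ha), inv_eq_of_mul_eq_one_right (h2 b hb)] at this
  exact this.symm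

/-- an elementary abelian 2-group on `n` points has order at most `2 ^ (n / 2)` -/
theorem wu_upper (s : Finset Ω) : ∀ E : Subgroup (Perm Ω), (∀ x ∈ E, x * x = 1) →
    (∀ x ∈ E, x.support ⊆ s) → Nat.card E ^ 2 ≤ 2 ^ s.card := by
  classical
  induction s using Finset.strongInduction with | H s ih => ?_
  intro E h2 hs
  by_cases hb : E = ⊥
  · rw [hb, card_bot, one_pow]; exact Nat.one_le_two_pow
  obtain ⟨e, e1⟩ := ne_bot_iff_exists_ne_one.1 hb
  obtain ⟨x, hx⟩ : ∃ x, (e : Perm Ω) x ≠ x := by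
    by_contra! h
    exact e1 (Subtype.ext (Equiv.ext h))
  let O : Finset Ω := (MulAction.orbit E x).toFinset
  have hO : ∀ y, y ∈ O ↔ ∃ g : E, (g : Perm Ω) x = y := fun y => by
    simp only [O, Set.mem_toFinset]; rfl
  have xs : x ∈ s := hs e e.2 (mem_support.2 hx)
  have Os : O ⊆ s := fun y hy => by
    obtain ⟨g, rfl⟩ := (hO y).1 hy
    by_cases h : (g : Perm Ω) x = x
    · rwa [h]
    · exact hs g g.2 (apply_mem_support.2 (mem_support.2 h))
  have xO : x ∈ O := (hO x).2 ⟨1, rfl⟩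
  have hi : (MulAction.stabilizer E x).index = O.card := by
    rw [MulAction.index_stabilizer, Set.ncard_eq_toFinset_card']
  have hc := (MulAction.stabilizer E x).card_mul_index
  have h3 : O.card ≠ 3 := fun h => by
    have := Fact.mk Nat.prime_two
    have hp : IsPGroup 2 E := fun g => ⟨1, Subtype.ext (by simpa [pow_two] using h2 g g.2)⟩
    obtain ⟨n, hn⟩ := IsPGroup.iff_card.1 hp
    have : 3 ∣ 2 ^ n := by rw [← hn, ← hc, hi, h]; exact dvd_mul_left _ _
    exact absurd (Nat.prime_three.dvd_of_dvd_pow this) (by decide)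
  have := ih (s \ O) (Finset.sdiff_ssubset Os ⟨x, xO⟩) ((MulAction.stabilizer E x).map E.subtype)
    (by rintro _ ⟨g, -, rfl⟩; exact h2 g g.2) (by
      rintro _ ⟨g, hg, rfl⟩ y hy
      refine Finset.mem_sdiff.2 ⟨hs g g.2 hy, fun m => mem_support.1 hy ?_⟩
      obtain ⟨k, rfl⟩ := (hO y).1 m
      have hg' : (g : Perm Ω) x = x := hg
      show (g : Perm Ω) ((k : Perm Ω) x) = _
      rw [← Perm.mul_apply, wu_comm h2 g.2 k.2, Perm.mul_apply, hg'])
  rw [card_map_of_injective E.subtype_injective] at this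
  rw [← hc, hi, mul_pow, ← Finset.card_sdiff_add_card_eq_card Os, pow_add]
  exact Nat.mul_le_mul this (wu_sq_le h3)

/-- adjoin a commuting involution -/
def wuExt {H : Type*} [Group H] (E : Subgroup H) (w : H) (hw : w * w = 1)
    (hc : ∀ x ∈ E, Commute x w) : Subgroup H where
  carrier := {ρ | ρ ∈ E ∨ ρ * w ∈ E}
  one_mem' := .inl (one_mem _)
  mul_mem' := fun {a b} ha hb => by
    have key : ∀ {b : H}, b * w ∈ E → Commute b w := fun {b} h => by
      have := (hc _ h).mul_left (Commute.refl w)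
      rwa [mul_assoc, hw, mul_one] at this
    rcases ha with ha | ha <;> rcases hb with hb | hb
    · exact .inl (mul_mem ha hb)
    · exact .inr (by rw [mul_assoc]; exact mul_mem ha hb)
    · exact .inr (by rw [mul_assoc, (hc b hb).eq, ← mul_assoc]; exact mul_mem ha hb)
    · refine .inl ?_
      have := mul_mem ha hb
      rwa [mul_assoc, ← mul_assoc w, ← (key hb).eq, mul_assoc, hw, mul_one] at this
  inv_mem' := fun {a} ha => by
    rcases ha with ha | ha
    · exact .inl (inv_mem ha)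
    · refine .inr ?_
      have c : Commute a w := by
        have := (hc _ ha).mul_left (Commute.refl w)
        rwa [mul_assoc, hw, mul_one] at this
      have := inv_mem ha
      rwa [mul_inv_rev, inv_eq_of_mul_eq_one_right hw, ← c.inv_left.eq] at this

/-- an involution centralises a large elementary abelian 2-group -/
theorem wu_lower {σ : Perm Ω} (h : σ * σ = 1) (s : Finset Ω) : (∀ x ∈ s, σ x ∈ s) →
    ∃ E : Subgroup (Perm Ω), (∀ x ∈ E, x * x = 1) ∧ (∀ x ∈ E, x.support ⊆ s) ∧
      (∀ x ∈ E, Commute σ x) ∧ 2 ^ s.card ≤ 2 * Nat.card E ^ 2 := by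
  induction s using Finset.strongInduction with | H s ih => ?_
  intro hs
  have e : ∀ x, σ (σ x) = x := fun x => congrArg (fun f : Perm Ω => f x) h
  rcases Nat.lt_or_ge 1 s.card with h1 | h1
  swap
  · refine ⟨⊥, by simp, by simp, by simp, ?_⟩
    rw [card_bot]
    exact (Nat.pow_le_pow_right two_pos h1).trans (by norm_num)
  obtain ⟨a, ha, b, hb, ab, hσ⟩ : ∃ a ∈ s, ∃ b ∈ s, a ≠ b ∧
      ((σ a = a ∧ σ b = b) ∨ (σ a = b ∧ σ b = a)) := by
    by_cases hf : ∀ x ∈ s, σ x = x
    · obtain ⟨a, ha, b, hb, ab⟩ := Finset.one_lt_card.1 h1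
      exact ⟨a, ha, b, hb, ab, .inl ⟨hf a ha, hf b hb⟩⟩
    · push Not at hf
      obtain ⟨a, ha, h2⟩ := hf
      exact ⟨a, ha, σ a, hs a ha, h2.symm, .inr ⟨rfl, e a⟩⟩
  have sub : ({a, b} : Finset Ω) ⊆ s := by
    intro x hx
    rcases Finset.mem_insert.1 hx with rfl | hx
    · exact ha
    · rwa [Finset.mem_singleton.1 hx]
  obtain ⟨E, E2, Es, Ec, hE⟩ := ih (s \ {a, b}) (Finset.sdiff_ssubset sub ⟨a, by simp⟩) (fun x hx => by
    obtain ⟨x1, x2⟩ := Finset.mem_sdiff.1 hx
    refine Finset.mem_sdiff.2 ⟨hs x x1, fun m => x2 ?_⟩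
    simp only [Finset.mem_insert, Finset.mem_singleton] at m ⊢
    rw [← e x]
    rcases m with m | m <;> rcases hσ with ⟨p, q⟩ | ⟨p, q⟩ <;> simp [m, p, q])
  have fx : ∀ x ∈ E, x a = a ∧ x b = b := fun x hx =>
    ⟨notMem_support.1 fun m => by simpa using Es x hx m,
      notMem_support.1 fun m => by simpa using Es x hx m⟩
  have hc : ∀ x ∈ E, Commute x (swap a b) := fun x hx => by
    rw [Commute, SemiconjBy, Equiv.mul_swap_eq_swap_mul, (fx x hx).1, (fx x hx).2]
  have σc : Commute σ (swap a b) := by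
    rw [Commute, SemiconjBy, Equiv.mul_swap_eq_swap_mul]
    rcases hσ with ⟨p, q⟩ | ⟨p, q⟩ <;> rw [p, q]
    rw [swap_comm]
  have dec : ∀ x ∈ wuExt E _ (swap_mul_self a b) hc, x ∈ E ∨ ∃ y ∈ E, x = y * swap a b :=
    fun x hx => hx.imp id fun m => ⟨_, m, by rw [mul_assoc, swap_mul_self, mul_one]⟩
  refine ⟨wuExt E _ (swap_mul_self a b) hc, fun x hx => ?_, fun x hx => ?_, fun x hx => ?_, ?_⟩
  · rcases dec x hx with m | ⟨y, m, rfl⟩
    · exact E2 x m
    · rw [(hc y m).symm.mul_mul_mul_comm, E2 y m, swap_mul_self, one_mul]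
  · rcases dec x hx with m | ⟨y, m, rfl⟩
    · exact (Es x m).trans Finset.sdiff_subset
    · refine (support_mul_le _ _).trans (sup_le ((Es y m).trans Finset.sdiff_subset) ?_)
      rw [support_swap ab]; exact sub
  · rcases dec x hx with m | ⟨y, m, rfl⟩
    · exact Ec x m
    · exact (Ec y m).mul_right σc
  · have le : E ≤ wuExt E _ (swap_mul_self a b) hc := fun x hx => .inl hx
    obtain ⟨k, hk⟩ := card_dvd_of_le le
    have k2 : 2 ≤ k := by
      by_contra k2
      have pos : 0 < Nat.card (wuExt E _ (swap_mul_self a b) hc) := Nat.card_pos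
      obtain rfl : k = 1 := by
        rcases k with _ | _ | k
        · rw [hk] at pos; simp at pos
        · rfl
        · omega
      have := eq_of_le_of_card_ge le (by rw [hk, mul_one])
      have m : swap a b ∈ E := this ▸ (.inr (by rw [swap_mul_self]; exact one_mem _) :
        swap a b ∈ wuExt E _ (swap_mul_self a b) hc)
      exact ab ((fx _ m).1.symm.trans (swap_apply_left a b))
    rw [← Finset.card_sdiff_add_card_eq_card sub, Finset.card_pair ab, pow_add, hk, mul_pow]
    have : 2 ^ 2 ≤ k ^ 2 := Nat.pow_le_pow_left k2 2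
    nlinarith

theorem wu_lowerA {σ : Perm Ω} (h : σ * σ = 1) : ∃ X : Subgroup (alternatingGroup Ω),
    (∀ x ∈ X, x * x = 1) ∧ (∀ x ∈ X, Commute σ x) ∧ 2 ^ Fintype.card Ω ≤ 8 * Nat.card X ^ 2 := by
  obtain ⟨E, E2, -, Ec, hE⟩ := wu_lower h Finset.univ fun _ _ => Finset.mem_univ _
  refine ⟨E.subgroupOf _, fun x hx => Subtype.ext (E2 _ hx), fun x hx => Ec _ hx, ?_⟩
  have h1 := ((alternatingGroup Ω).subgroupOf E).card_mul_index
  have h2 : ((alternatingGroup Ω).subgroupOf E).index ≤ 2 := by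
    have : (alternatingGroup Ω).subgroupOf E = ((sign : Perm Ω →* ℤˣ).comp E.subtype).ker := by
      ext x; simp [mem_subgroupOf]
    rw [this, index_ker]
    exact (Subgroup.card_le_card_group _).trans (by simp)
  have h3 : Nat.card ((alternatingGroup Ω).subgroupOf E) = Nat.card (E.subgroupOf (alternatingGroup Ω)) := by
    rw [← card_map_of_injective E.subtype_injective,
      ← card_map_of_injective (alternatingGroup Ω).subtype_injective, subgroupOf_map_subtype,
      subgroupOf_map_subtype, inf_comm]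
  rw [Finset.card_univ, ← h1, h3, mul_pow] at hE
  have : ((alternatingGroup Ω).subgroupOf E).index ^ 2 ≤ 2 ^ 2 := Nat.pow_le_pow_left h2 2
  nlinarith

/-- elementary abelian 2-subgroups of `C(t)` -/
theorem wu_rank (F : Fr ι t) (h5 : 5 ≤ Fintype.card Ω) {E : Subgroup G} (h2 : ∀ x ∈ E, x * x = 1)
    (hc : ∀ x ∈ E, Commute x t) : Nat.card E ^ 2 ≤ 4 * 2 ^ Fintype.card Ω := by
  choose p hp using fun x : E => F.aut x (hc x x.2)
  let π : E →* Perm Ω := MonoidHom.mk' p fun a b => (hp (a * b)).unique F.inj h5 ((hp a).mul (hp b))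
  have h1 := wu_upper Finset.univ π.range (by
    rintro _ ⟨x, rfl⟩
    rw [← map_mul, show x * x = 1 from Subtype.ext (h2 x x.2), map_one]) fun _ _ => Finset.subset_univ _
  have h3 : Nat.card π.ker ≤ 2 := by
    rw [← card_map_of_injective E.subtype_injective, ← orderOf_eq_prime (p := 2) (x := t)
      (by rw [pow_two, F.t2]) F.t1, ← Nat.card_zpowers]
    refine card_le_of_le ?_
    rintro _ ⟨x, hx, rfl⟩
    have : Act ι x 1 := (show π x = 1 from hx) ▸ hp x
    rcases F.two x (mem_KK.1 (Act.one_iff.1 this)) (hc x x.2)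
      (b_tw_iff.2 ⟨1, by rw [pow_one, pow_two, h2 x x.2]⟩) with e | e
    · rw [coe_subtype, e]; exact one_mem _
    · rw [coe_subtype, e]; exact mem_zpowers t
  rw [← π.ker.card_mul_index, index_ker, mul_pow]
  rw [Finset.card_univ] at h1
  exact Nat.mul_le_mul (Nat.pow_le_pow_left h3 2) h1

end CfsgLib.ANX
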